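import Cfsg.Agent.Lib.PhanWeak91.Frame

/-!
Three block subgroups in a homomorphic image of `SU 4`: commuting pairs are orthogonal, linked
pairs meet in a non-singular point, and the three are the consecutive blocks of one frame.
-/

set_option autoImplicit false
set_option linter.unusedSectionVars false

namespace Cfsg.Agent.Lib.PhanWeak91

open Matrix Cfsg.Agent.Lib.Forms

variable {F : Type*} [Field F] [Fintype F] {q : ℕ} {G : Type*} [Group G]

/-- The first pair in four coordinates. -/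
abbrev q01 : Set (Fin 4) := iv 0 2

theorem not_mem_q01 {i : Fin 4} (h : i = 2 ∨ i = 3) : i ∉ q01 := by
  rcases h with rfl | rfl <;> simp [q01, iv]

theorem q01_cases (i : Fin 4) : (i = 0 ∨ i = 1) ∧ i ∈ q01 ∨ (i = 2 ∨ i = 3) ∧ i ∉ q01 := by
  fin_cases i <;> simp [q01, iv]

variable (hF : Fintype.card F = q ^ 2) (hq : q = 2 ∨ q = 3)
include hF hq

/-- Fixed vectors of a pair block. -/
theorem fixed_q01 {x : Fin 4 → F} (h : ∀ A ∈ supp (F := F) (q := q) q01, app A x = x) : Van ({2, 3} : Set (Fin 4)) x := by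
  obtain ⟨l, hl, hl2, -, -⟩ := exists_lam hF hq
  have ht : l * l ^ q + (0 : F) * 0 ^ q = 1 := by simpa [zero_pow (q_pos hF).ne'] using hl
  have hl1 : l ≠ 1 := by rintro rfl; exact hl2 (one_mul _)
  set f := ivf (m := 4) 0 2 (by norm_num) with hf
  have := h (emb f (ivf_injective _ _ _) (el2 hF l 0 ht)) (by
    rw [show q01 = Set.range f from (range_ivf 0 2 _).symm]; exact emb_mem_supp _ _)
  have e0 := congrFun this (f 0)
  have e1 := congrFun this (f 1)
  rw [app_emb_range, app_el2] at e0 e1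
  simp [zero_pow (q_pos hF).ne'] at e0 e1
  have h0 : x (f 0) = 0 := by
    apply mul_left_cancel₀ (sub_ne_zero.2 hl1)
    linear_combination e0
  have h1 : x (f 1) = 0 := by
    have hlq : l ^ q - 1 ≠ 0 := fun e => hl1 (by linear_combination hl - l * e)
    apply mul_left_cancel₀ hlq
    linear_combination e1
  intro i hi
  fin_cases i
  · exact h0
  · exact h1
  · simp at hi
  · simp at hi

/-- Elements of order dividing `p` generate a block. -/
theorem blk_gen {K : Subgroup (Cfsg.SU 4 F q)} {P : Matrix.GeneralLinearGroup (Fin 4) F} (hP : IsIsom q P)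
    (h : ∀ A ∈ blk P hP q01, A ^ q = 1 → A ∈ K) : blk P hP q01 ≤ K := by
  let φ : Cfsg.SU 2 F q →* Cfsg.SU 4 F q :=
    (conjIso P hP).comp (emb (ivf 0 2 (by norm_num : 0 + 2 ≤ 4)) (ivf_injective _ _ _))
  have hr : φ.range = blk P hP q01 := by rw [MonoidHom.range_comp, range_emb hF, range_ivf]; rfl
  rw [← hr, MonoidHom.range_eq_map, ← gen_p hF hq, MonoidHom.map_closure, Subgroup.closure_le]
  rintro _ ⟨A, hA, rfl⟩
  exact h _ (hr ▸ ⟨A, rfl⟩) (by rw [← map_pow, show A ^ q = 1 from hA, map_one])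

/-- Agreement of images of elements of order dividing `p`. -/
theorem eq_of_map_eq (g : Cfsg.SU 4 F q →* G) (hker : g.ker ≤ Subgroup.center _) {X Y : Cfsg.SU 4 F q}
    (hX : X ^ q = 1) (hY : Y ^ q = 1) (e : g X = g Y) : X = Y := by
  obtain ⟨c, hc, hz⟩ := center_scalar hF (hker (show Y⁻¹ * X ∈ g.ker by simp [MonoidHom.mem_ker, e]))
  exact eq_of_scalar hF hq hz hc (by group) hX hY

theorem exact_comm (g : Cfsg.SU 4 F q →* G) (hker : g.ker ≤ Subgroup.center _) {T X : Cfsg.SU 4 F q}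
    (hX : X ^ q = 1) (e : g T * g X = g X * g T) : T * X = X * T := by
  have h1 : (T * X * T⁻¹) ^ q = 1 := by rw [conj_pow, hX]; group
  have h2 := eq_of_map_eq hF hq g hker h1 hX (by rw [map_mul, map_mul, map_inv, e]; group)
  calc T * X = T * X * T⁻¹ * T := by group
    _ = X * T := by rw [h2]

variable {P P' : Matrix.GeneralLinearGroup (Fin 4) F} (hP : IsIsom q P) (hP' : IsIsom q P')

/-- Blocks with commuting images are orthogonal. -/
theorem perp_of_comm (g : Cfsg.SU 4 F q →* G) (hker : g.ker ≤ Subgroup.center _)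
    (hc : ∀ x ∈ (blk P hP q01).map g, ∀ y ∈ (blk P' hP' q01).map g, x * y = y * x) :
    ∀ i, (i = 0 ∨ i = 1) → ∀ B ∈ blk P hP q01, app B (col P' i) = col P' i := by
  have hq0 := q_pos hF
  have comm : ∀ A ∈ blk P hP q01, A ^ q = 1 → ∀ B ∈ blk P' hP' q01, A * B = B * A := by
    intro A hA hAq B hB
    exact (exact_comm hF hq g hker hAq (hc _ ⟨A, hA, rfl⟩ _ ⟨B, hB, rfl⟩).symm).symm
  -- elements of the first block preserve the fixed vectors of the second
  intro i hi
  refine fun B hB => mem_stab.1 (blk_gen hF hq hP (K := stab (col P' i)) (fun A hA hAq => ?_) hB)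
  obtain ⟨C, hC⟩ := conjIso_surjective P' hP' A
  have hCc : ∀ D ∈ supp (F := F) (q := q) q01, C * D = D * C := fun D hD => by
    apply conjIso_injective P' hP'
    rw [map_mul, map_mul, hC]
    exact comm A hA hAq _ ⟨D, hD, rfl⟩
  have hC2 : ∀ j, (j = 2 ∨ j = 3) → Van ({2, 3} : Set (Fin 4)) (app C (ev j)) := fun j hj =>
    fixed_q01 hF hq fun D hD => by rw [← app_mul, ← hCc D hD, app_mul, hD j (not_mem_q01 hj)]
  have hCv : Van q01 (app C (ev i)) := by
    intro l hl
    have hl' : l = 2 ∨ l = 3 := ((q01_cases l).resolve_left fun h => hl h.2).1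
    -- orthogonality to the image of the complementary pair
    have orth : ∀ j, (j = 2 ∨ j = 3) → Cfsg.hermForm 4 F q (app C (ev i)) (app C (ev j)) = 0 := fun j hj => by
      rw [herm_app, herm_ev hF, ev_apply, if_neg]
      rcases hi with rfl | rfl <;> rcases hj with rfl | rfl <;> decide
    have a := hC2 2 (Or.inl rfl)
    have b := hC2 3 (Or.inr rfl)
    set u := app C (ev i) with hu
    set c := app C (ev (2 : Fin 4)) with hc2
    set d := app C (ev (3 : Fin 4)) with hd2
    have o1 := orth 2 (Or.inl rfl)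
    have o2 := orth 3 (Or.inr rfl)
    have ncc := herm_app C (ev 2) (ev 2)
    have ndd := herm_app C (ev 3) (ev 3)
    have ncd := herm_app C (ev 2) (ev 3)
    have ndc := herm_app C (ev 3) (ev 2)
    rw [← hc2] at ncc ncd ndc o1
    rw [← hd2] at ndd ncd ndc o2
    have a0 : c 0 = 0 := a 0 (by simp)
    have a1 : c 1 = 0 := a 1 (by simp)
    have b0 : d 0 = 0 := b 0 (by simp)
    have b1 : d 1 = 0 := b 1 (by simp)
    simp [Cfsg.hermForm, Fin.sum_univ_four, a0, a1, b0, b1, ev, zero_pow hq0.ne'] at o1 o2 ncc ndd ncd ndc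
    set D := c 2 ^ q * d 3 ^ q - c 3 ^ q * d 2 ^ q with hD
    have hDn : D * (c 2 * d 3 - c 3 * d 2) = 1 := by
      linear_combination (d 2 * d 2 ^ q + d 3 * d 3 ^ q) * ncc + ndd
        - (d 2 * c 2 ^ q + d 3 * c 3 ^ q) * ncd
    have hD0 : D ≠ 0 := fun e => by simp [e] at hDn
    rcases hl' with rfl | rfl
    · exact mul_left_cancel₀ hD0 (by linear_combination (d 3 ^ q) * o1 - (c 3 ^ q) * o2)
    · exact mul_left_cancel₀ hD0 (by linear_combination -(d 2 ^ q) * o1 + (c 2 ^ q) * o2)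
  obtain ⟨l, hl, hl2, -, -⟩ := exists_lam hF hq
  have ht : l * l ^ q + (0 : F) * 0 ^ q = 1 := by simpa [zero_pow hq0.ne'] using hl
  set f := ivf (m := 4) 0 2 (by norm_num) with hf
  have hmem : ∀ X, emb (F := F) (q := q) f (ivf_injective _ _ _) X ∈ supp q01 := fun X => by
    rw [show q01 = Set.range f from (range_ivf 0 2 _).symm]; exact emb_mem_supp _ _
  have hlne : l - l ^ q ≠ 0 := fun e => hl2 (by linear_combination hl + l * e)
  have scal : ∃ c : F, app C (ev i) = c • ev i := by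
    refine ⟨app C (ev i) i, ?_⟩
    set v := app C (ev i) with hv
    have h2 : v 2 = 0 := hCv 2 (not_mem_q01 (Or.inl rfl))
    have h3 : v 3 = 0 := hCv 3 (not_mem_q01 (Or.inr rfl))
    have e := congrArg (fun X => app X (ev i)) (hCc _ (hmem (el2 hF l 0 ht)))
    simp only [app_mul] at e
    rcases hi with rfl | rfl
    · have et : app (emb f (ivf_injective _ _ _) (el2 hF l 0 ht)) (ev (0 : Fin 4)) = l • (ev 0 : Fin 4 → F) := by
        funext t
        fin_cases t
        · exact (app_emb_range _ _ _ 0).trans (by simp [app_el2, f, ivf, ev, zero_pow hq0.ne'])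
        · exact (app_emb_range _ _ _ 1).trans (by simp [app_el2, f, ivf, ev, zero_pow hq0.ne'])
        · exact (app_emb_off _ _ _ (by rw [range_ivf]; simp [iv])).trans (by simp [ev])
        · exact (app_emb_off _ _ _ (by rw [range_ivf]; simp [iv])).trans (by simp [ev])
      rw [et, app_smul, ← hv] at e
      have e1 := congrFun e (f 1)
      rw [app_emb_range, app_el2] at e1
      simp [zero_pow hq0.ne'] at e1
      have h1 : v 1 = 0 := mul_left_cancel₀ hlne (by
        have hh : l * v (1 : Fin 4) = l ^ q * v (1 : Fin 4) := by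
          rcases e1 with e1 | e1
          · rw [← e1]
          · rw [show v (1 : Fin 4) = 0 from e1]; simp
        linear_combination hh)
      funext t; fin_cases t <;> simp [ev, h1, h2, h3]
    · have et : app (emb f (ivf_injective _ _ _) (el2 hF l 0 ht)) (ev (1 : Fin 4)) = l ^ q • (ev 1 : Fin 4 → F) := by
        funext t
        fin_cases t
        · exact (app_emb_range _ _ _ 0).trans (by simp [app_el2, f, ivf, ev, zero_pow hq0.ne'])
        · exact (app_emb_range _ _ _ 1).trans (by simp [app_el2, f, ivf, ev, zero_pow hq0.ne'])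
        · exact (app_emb_off _ _ _ (by rw [range_ivf]; simp [iv])).trans (by simp [ev])
        · exact (app_emb_off _ _ _ (by rw [range_ivf]; simp [iv])).trans (by simp [ev])
      rw [et, app_smul, ← hv] at e
      have e1 := congrFun e (f 0)
      rw [app_emb_range, app_el2] at e1
      simp [zero_pow hq0.ne'] at e1
      have h0 : v 0 = 0 := mul_left_cancel₀ hlne (by
        have hh : l ^ q * v (0 : Fin 4) = l * v (0 : Fin 4) := by
          rcases e1 with e1 | e1
          · rw [e1]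
          · rw [show v (0 : Fin 4) = 0 from e1]; simp
        linear_combination -hh)
      funext t; fin_cases t <;> simp [ev, h0, h2, h3]
  obtain ⟨c, hc'⟩ := scal
  have hCq : C ^ q = 1 := conjIso_injective P' hP' (by rw [map_pow, hC, hAq, map_one])
  have hpow : ∀ k : ℕ, app (C ^ k) (ev i) = c ^ k • (ev i : Fin 4 → F) := by
    intro k
    induction k with
    | zero => simp [app_one]
    | succ k ih => rw [pow_succ', app_mul, ih, app_smul, hc', smul_smul, pow_succ]
  have hc1 : c = 1 := by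
    have h1 := hpow q
    rw [hCq, app_one] at h1
    have e : c ^ q = 1 := by
      have := congrFun h1 i
      simpa [ev] using this.symm
    have := pow_q_pow_q hF c
    rw [e, one_pow] at this
    exact this.symm
  show app A (col P' i) = col P' i
  rw [← hC, col, app_conjIso, hc', hc1, one_smul]

/-- Two unit vectors fixed by a block make it their common stabiliser. -/
theorem blk_eq_of_fix {Q : Matrix.GeneralLinearGroup (Fin 4) F} (hQ : IsIsom q Q) {a : ℕ} (ha : a + 2 ≤ 4)
    (h : ∀ i, i ∉ (iv a 2 : Set (Fin 4)) → ∀ B ∈ blk P hP q01, app B (col Q i) = col Q i) :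
    blk P hP q01 = blk Q hQ (iv a 2) := by
  refine Subgroup.eq_of_le_of_card_ge (fun B hB => (mem_blk hQ).2 fun i hi => h i hi B hB) ?_
  rw [card_blk, card_blk, card_supp_iv hF ha, card_supp_iv hF (by norm_num)]

/-- The vectors orthogonal to the moved pair are fixed. -/
theorem fix_of_orth {x : Fin 4 → F} (h : ∀ i, (i = 0 ∨ i = 1) → Cfsg.hermForm 4 F q x (col P i) = 0)
    {B : Cfsg.SU 4 F q} (hB : B ∈ blk P hP q01) : app B x = x := by
  obtain ⟨C, hC, rfl⟩ := hB
  obtain ⟨y, rfl⟩ : ∃ y, x = (P : Matrix (Fin 4) (Fin 4) F) *ᵥ y :=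
    ⟨(↑P⁻¹ : Matrix (Fin 4) (Fin 4) F) *ᵥ x, by simp [Matrix.mulVec_mulVec]⟩
  rw [app_conjIso]
  congr 1
  refine fix_of_van hC fun t ht => ?_
  have htt : t = 0 ∨ t = 1 := by
    rcases q01_cases t with ⟨h', -⟩ | ⟨-, h'⟩
    · exact h'
    · simp only [Set.mem_compl_iff, not_not] at ht; exact absurd ht h'
  have := h t htt
  rw [col, hP, herm_ev hF] at this
  exact this

/-- The torus element of a pair block. -/
noncomputable def torus (P : Matrix.GeneralLinearGroup (Fin 4) F) (hP : IsIsom q P) (l : F)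
    (h : l * l ^ q + (0 : F) * 0 ^ q = 1) : Cfsg.SU 4 F q :=
  conjIso P hP (emb (ivf 0 2 (by norm_num : 0 + 2 ≤ 4)) (ivf_injective _ _ _) (el2 hF l 0 h))

/-- A pair of blocks linked by a torus element meets in a unit vector. -/
theorem meet_of_link (g : Cfsg.SU 4 F q →* G) (hker : g.ker ≤ Subgroup.center _) {l : F}
    (hl : l * l ^ q + (0 : F) * 0 ^ q = 1) (hl2 : l * l ≠ 1)
    (hnorm : ∀ A ∈ blk P hP q01,
      g (torus hF P' hP' l hl) * g A * (g (torus hF P' hP' l hl))⁻¹ ∈ (blk P hP q01).map g)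
    (hnc : ∃ A ∈ blk P hP q01, g (torus hF P' hP' l hl) * g A ≠ g A * g (torus hF P' hP' l hl))
    (hne : (blk P hP q01).map g ≠ (blk P' hP' q01).map g) :
    ∃ v : Fin 4 → F, Cfsg.hermForm 4 F q v v = 1 ∧
      (∀ i, (i = 2 ∨ i = 3) → Cfsg.hermForm 4 F q (col P i) v = 0) ∧
      (∀ i, (i = 2 ∨ i = 3) → Cfsg.hermForm 4 F q (col P' i) v = 0) := by
  have hq0 := q_pos hF
  set T := torus hF P' hP' l hl with hT
  have hnT : ∀ A ∈ blk P hP q01, T * A * T⁻¹ ∈ blk P hP q01 := by
    intro A hA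
    refine blk_gen hF hq hP (K := (blk P hP q01).comap (MulAut.conj T).toMonoidHom) (fun B hB hBq => ?_) hA
    show T * B * T⁻¹ ∈ blk P hP q01
    obtain ⟨C, hC, e⟩ := hnorm B hB
    have hX : (T * B * T⁻¹) ^ q = 1 := by rw [conj_pow, hBq]; group
    have hCk : C ^ q ∈ g.ker := by
      rw [MonoidHom.mem_ker, map_pow, e, ← map_inv, ← map_mul, ← map_mul, ← map_pow, hX, map_one]
    obtain ⟨c, -, hz⟩ := center_scalar hF (hker hCk)
    have hc1 : c = 1 := by
      have hfix := (mem_blk hP).1 (pow_mem hC q) 2 (not_mem_q01 (Or.inl rfl))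
      rw [hz] at hfix
      have := congrArg (fun x => Cfsg.hermForm 4 F q x (col P 2)) hfix
      simp only [herm_smul_left hF, col_on hF hP 2 2, if_pos, mul_one] at this
      exact this
    have hCq : C ^ q = 1 := ext_app fun x => by rw [hz, hc1, one_smul, app_one]
    rw [eq_of_map_eq hF hq g hker hX hCq (by rw [map_mul, map_mul, map_inv, e])]
    exact hC
  let Fx : Submodule F (Fin 4 → F) :=
    { carrier := {y | ∀ A ∈ blk P hP q01, app A ((P' : Matrix (Fin 4) (Fin 4) F) *ᵥ y) = (P' : Matrix (Fin 4) (Fin 4) F) *ᵥ y}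
      zero_mem' := fun A _ => by simp [app_zero]
      add_mem' := fun {a b} ha hb A hA => by rw [Matrix.mulVec_add, app_add, ha A hA, hb A hA]
      smul_mem' := fun c {a} ha A hA => by rw [Matrix.mulVec_smul, app_smul, ha A hA] }
  let Dg : (Fin 4 → F) → Fin 4 → F := fun y => ![l ^ q * y 0, l * y 1, y 2, y 3]
  have hDg : ∀ y ∈ Fx, Dg y ∈ Fx := by
    intro y hy A hA
    have e : app T⁻¹ ((P' : Matrix (Fin 4) (Fin 4) F) *ᵥ y) = (P' : Matrix (Fin 4) (Fin 4) F) *ᵥ Dg y := by
      rw [hT, torus, ← map_inv, app_conjIso, ← map_inv]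
      congr 1
      obtain ⟨h', ei⟩ := el2_inv hF hl
      rw [ei]
      funext t
      fin_cases t
      · exact (app_emb_range _ _ _ 0).trans (by simp [app_el2, ivf, Dg, zero_pow hq0.ne'])
      · exact (app_emb_range _ _ _ 1).trans (by simp [app_el2, ivf, Dg, zero_pow hq0.ne', pow_q_pow_q hF])
      · exact (app_emb_off _ _ _ (by rw [range_ivf]; simp [iv])).trans (by simp [Dg])
      · exact (app_emb_off _ _ _ (by rw [range_ivf]; simp [iv])).trans (by simp [Dg])
    rw [← e]
    apply app_inj (A := T)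
    rw [app_app_inv, ← app_mul, show T * A = T * A * T⁻¹ * T by group, app_mul, app_app_inv,
      hy _ (hnT A hA)]
  have hl1 : l ≠ 1 := by rintro rfl; exact hl2 (one_mul _)
  have hln : l * l ^ q = 1 := by simpa [zero_pow hq0.ne'] using hl
  have hlne : l - l ^ q ≠ 0 := fun e => hl2 (by linear_combination hln + l * e)
  have hlq1 : l ^ q - 1 ≠ 0 := fun e => hl1 (by linear_combination hln - l * e)
  have comps : ∀ y ∈ Fx, y 0 • (ev 0 : Fin 4 → F) ∈ Fx ∧ y 1 • (ev 1 : Fin 4 → F) ∈ Fx := by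
    intro y hy
    have h1 : Dg y - y ∈ Fx := sub_mem (hDg y hy) hy
    have h2 := hDg _ h1
    constructor
    · have h3 := Fx.smul_mem ((l ^ q - l) * (l ^ q - 1))⁻¹ (sub_mem h2 (Fx.smul_mem l h1))
      convert h3 using 1
      have hne' : (l ^ q - l) * (l ^ q - 1) ≠ 0 :=
        mul_ne_zero (fun e => hlne (by linear_combination -e)) hlq1
      rw [eq_inv_smul_iff₀ hne']
      funext t
      fin_cases t <;> simp [Dg, ev, Matrix.vecHead, Matrix.vecTail] <;> ring
    · have h3 := Fx.smul_mem ((l - l ^ q) * (l - 1))⁻¹ (sub_mem h2 (Fx.smul_mem (l ^ q) h1))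
      convert h3 using 1
      rw [eq_inv_smul_iff₀ (mul_ne_zero hlne (sub_ne_zero.2 hl1))]
      funext t
      fin_cases t <;> simp [Dg, ev, Matrix.vecHead, Matrix.vecTail] <;> ring
  have hcolFx : ∀ i, (i = 2 ∨ i = 3) → (↑P'⁻¹ : Matrix (Fin 4) (Fin 4) F) *ᵥ col P i ∈ Fx := by
    intro i hi A hA
    have e : (P' : Matrix (Fin 4) (Fin 4) F) *ᵥ ((↑P'⁻¹ : Matrix (Fin 4) (Fin 4) F) *ᵥ col P i) = col P i := by
      simp [Matrix.mulVec_mulVec]
    rw [e]; exact (mem_blk hP).1 hA i (not_mem_q01 hi)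
  have horth : ∀ (j : Fin 4), (∀ y ∈ Fx, y j = 0) → ∀ i, (i = 2 ∨ i = 3) →
      Cfsg.hermForm 4 F q (col P i) (col P' j) = 0 := by
    intro j hj i hi
    rw [show col P i = (P' : Matrix (Fin 4) (Fin 4) F) *ᵥ ((↑P'⁻¹ : Matrix (Fin 4) (Fin 4) F) *ᵥ col P i) by
      simp [Matrix.mulVec_mulVec], show col P' j = (P' : Matrix (Fin 4) (Fin 4) F) *ᵥ ev j from rfl, hP',
      herm_ev hF]
    exact hj _ (hcolFx i hi)
  by_cases h0 : ∀ y ∈ Fx, y 0 = 0
  · by_cases h1 : ∀ y ∈ Fx, y 1 = 0
    · exfalso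
      apply hne
      have : blk P' hP' q01 = blk P hP (iv 0 2) := by
        refine blk_eq_of_fix hF hq hP' hP (by norm_num) fun i hi B hB => ?_
        have hi' : i = 2 ∨ i = 3 := by
          rcases q01_cases i with ⟨-, h⟩ | ⟨h, -⟩
          · exact absurd h hi
          · exact h
        refine fix_of_orth hF hq hP' (fun j hj => ?_) hB
        rcases hj with rfl | rfl
        · exact horth 0 h0 i hi'
        · exact horth 1 h1 i hi'
      rw [this]
    · refine ⟨col P' 0, by rw [col_on hF hP', if_pos rfl], horth 0 h0, fun i hi => ?_⟩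
      rw [col_on hF hP', if_neg (by rcases hi with rfl | rfl <;> decide)]
  · by_cases h1 : ∀ y ∈ Fx, y 1 = 0
    · refine ⟨col P' 1, by rw [col_on hF hP', if_pos rfl], horth 1 h1, fun i hi => ?_⟩
      rw [col_on hF hP', if_neg (by rcases hi with rfl | rfl <;> decide)]
    · exfalso
      push Not at h0 h1
      obtain ⟨y, hy, hy0⟩ := h0
      obtain ⟨z, hz, hz1⟩ := h1
      have f0 : (ev 0 : Fin 4 → F) ∈ Fx := by
        have := Fx.smul_mem (y 0)⁻¹ (comps y hy).1
        rwa [smul_smul, inv_mul_cancel₀ hy0, one_smul] at this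
      have f1 : (ev 1 : Fin 4 → F) ∈ Fx := by
        have := Fx.smul_mem (z 1)⁻¹ (comps z hz).2
        rwa [smul_smul, inv_mul_cancel₀ hz1, one_smul] at this
      obtain ⟨A, hA, hne'⟩ := hnc
      apply hne'
      obtain ⟨C, rfl⟩ := conjIso_surjective P' hP' A
      have hC : C ∈ supp (iv 2 2 : Set (Fin 4)) := by
        intro t ht
        have key : ∀ j : Fin 4, (ev j : Fin 4 → F) ∈ Fx → app C (ev j) = ev j := by
          intro j hj
          have := hj _ hA
          rw [app_conjIso] at this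
          have e := congrArg (fun u => (↑P'⁻¹ : Matrix (Fin 4) (Fin 4) F) *ᵥ u) this
          simpa [Matrix.mulVec_mulVec] using e
        have htt : t = 0 ∨ t = 1 := by fin_cases t <;> simp [iv] at ht ⊢
        rcases htt with rfl | rfl
        · exact key 0 f0
        · exact key 1 f1
      rw [hT, torus, ← map_mul, ← map_mul, ← map_mul, ← map_mul]
      congr 2
      exact supp_comm hF (iv_disj (by norm_num)) (range_ivf (m := 4) 0 2 (by norm_num) ▸ emb_mem_supp _ _) hC

/-- Blocks on the consecutive pairs of one frame. -/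
theorem assemble (g : Cfsg.SU 4 F q →* G) (hker : g.ker ≤ Subgroup.center _)
    {P1 P2 P3 : Matrix.GeneralLinearGroup (Fin 4) F} (hP1 : IsIsom q P1) (hP2 : IsIsom q P2) (hP3 : IsIsom q P3)
    (hc : ∀ x ∈ (blk P1 hP1 q01).map g, ∀ y ∈ (blk P3 hP3 q01).map g, x * y = y * x)
    (hm1 : ∃ v : Fin 4 → F, Cfsg.hermForm 4 F q v v = 1 ∧
      (∀ i, (i = 2 ∨ i = 3) → Cfsg.hermForm 4 F q (col P1 i) v = 0) ∧
      (∀ i, (i = 2 ∨ i = 3) → Cfsg.hermForm 4 F q (col P2 i) v = 0))
    (hm2 : ∃ v : Fin 4 → F, Cfsg.hermForm 4 F q v v = 1 ∧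
      (∀ i, (i = 2 ∨ i = 3) → Cfsg.hermForm 4 F q (col P3 i) v = 0) ∧
      (∀ i, (i = 2 ∨ i = 3) → Cfsg.hermForm 4 F q (col P2 i) v = 0)) :
    ∃ (P : Matrix.GeneralLinearGroup (Fin 4) F) (hP : IsIsom q P),
      blk P1 hP1 q01 = blk P hP (iv 0 2) ∧ blk P2 hP2 q01 = blk P hP (iv 1 2) ∧
        blk P3 hP3 q01 = blk P hP (iv 2 2) := by
  have hq0 := q_pos hF
  have sym : ∀ {x y : Fin 4 → F}, Cfsg.hermForm 4 F q x y = 0 → Cfsg.hermForm 4 F q y x = 0 :=
    fun {x y} e => by rw [← herm_conj hF x y, e, zero_pow hq0.ne']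
  -- coordinates of a vector in a frame
  have coord : ∀ {Q : Matrix.GeneralLinearGroup (Fin 4) F} (hQ : IsIsom q Q) (x : Fin 4 → F),
      (∀ i, (i = 2 ∨ i = 3) → Cfsg.hermForm 4 F q (col Q i) x = 0) →
      ∃ a b : F, x = a • col Q 0 + b • col Q 1 := by
    intro Q hQ x hx
    obtain ⟨y, rfl⟩ : ∃ y, x = (Q : Matrix (Fin 4) (Fin 4) F) *ᵥ y :=
      ⟨(↑Q⁻¹ : Matrix (Fin 4) (Fin 4) F) *ᵥ x, by simp [Matrix.mulVec_mulVec]⟩
    have hy : ∀ i, (i = 2 ∨ i = 3) → y i = 0 := fun i hi => by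
      have := sym (hx i hi)
      rwa [col, hQ, herm_ev hF] at this
    refine ⟨y 0, y 1, ?_⟩
    simp only [col, ← Matrix.mulVec_smul, ← Matrix.mulVec_add]
    congr 1
    funext t; fin_cases t <;> simp [ev, hy 2 (Or.inl rfl), hy 3 (Or.inr rfl)]
  -- a companion inside the pair
  have comp : ∀ {Q : Matrix.GeneralLinearGroup (Fin 4) F} (hQ : IsIsom q Q) (x : Fin 4 → F),
      Cfsg.hermForm 4 F q x x = 1 → (∀ i, (i = 2 ∨ i = 3) → Cfsg.hermForm 4 F q (col Q i) x = 0) →
      ∃ w, Cfsg.hermForm 4 F q w w = 1 ∧ Cfsg.hermForm 4 F q w x = 0 ∧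
        (∀ i, (i = 2 ∨ i = 3) → Cfsg.hermForm 4 F q (col Q i) w = 0) := by
    intro Q hQ x hxx hx
    obtain ⟨a, b, rfl⟩ := coord hQ x hx
    refine ⟨(-(b ^ q)) • col Q 0 + a ^ q • col Q 1, ?_, ?_, fun i hi => ?_⟩
    · simp [-neg_smul, herm_add_left hF, herm_add_right hF, herm_smul_left hF, herm_smul_right hF, col_on hF hQ _ _,
        q_neg' hF, pow_q_pow_q hF] at hxx ⊢
      linear_combination hxx
    · simp [-neg_smul, herm_add_left hF, herm_add_right hF, herm_smul_left hF, herm_smul_right hF, col_on hF hQ _ _]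
      ring
    · rcases hi with rfl | rfl <;>
        simp [-neg_smul, herm_add_right hF, herm_smul_right hF, col_on hF hQ _ _]
  -- orthogonality of the outer pairs
  have hperp : ∀ x y : Fin 4 → F, (∀ i, (i = 2 ∨ i = 3) → Cfsg.hermForm 4 F q (col P1 i) x = 0) →
      (∀ i, (i = 2 ∨ i = 3) → Cfsg.hermForm 4 F q (col P3 i) y = 0) → Cfsg.hermForm 4 F q x y = 0 := by
    intro x y hx hy
    obtain ⟨a, b, rfl⟩ := coord hP1 x hx
    obtain ⟨c, d, rfl⟩ := coord hP3 y hy
    have hfix : ∀ i j, (i = 0 ∨ i = 1) → (j = 0 ∨ j = 1) →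
        Cfsg.hermForm 4 F q (col P1 i) (col P3 j) = 0 := by
      intro i j hi hj
      obtain ⟨u, hu⟩ : ∃ u, col P3 j = (P1 : Matrix (Fin 4) (Fin 4) F) *ᵥ u :=
        ⟨(↑P1⁻¹ : Matrix (Fin 4) (Fin 4) F) *ᵥ col P3 j, by simp [Matrix.mulVec_mulVec]⟩
      have huv := fixed_q01 hF hq (x := u) fun A hA => by
        have := perp_of_comm hF hq hP1 hP3 g hker hc j hj _ ⟨A, hA, rfl⟩
        rw [hu, app_conjIso] at this
        have e := congrArg (fun u => (↑P1⁻¹ : Matrix (Fin 4) (Fin 4) F) *ᵥ u) this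
        simpa [Matrix.mulVec_mulVec] using e
      apply sym
      rw [hu, col, hP1, herm_ev hF]
      exact huv i (by rcases hi with rfl | rfl <;> simp)
    simp [herm_add_left hF, herm_add_right hF, herm_smul_left hF, herm_smul_right hF,
      hfix 0 0 (Or.inl rfl) (Or.inl rfl), hfix 0 1 (Or.inl rfl) (Or.inr rfl),
      hfix 1 0 (Or.inr rfl) (Or.inl rfl), hfix 1 1 (Or.inr rfl) (Or.inr rfl)]
  obtain ⟨x1, x11, x1a, x1b⟩ := hm1
  obtain ⟨x2, x22, x2a, x2b⟩ := hm2
  obtain ⟨x0, x00, x01, x0a⟩ := comp hP1 x1 x11 x1a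
  obtain ⟨x3, x33, x32, x3a⟩ := comp hP3 x2 x22 x2a
  have x12 := hperp x1 x2 x1a x2a
  have x13 := hperp x1 x3 x1a x3a
  have x02 := hperp x0 x2 x0a x2a
  have x03 := hperp x0 x3 x0a x3a
  obtain ⟨P, hP, hcol⟩ := exists_frame hF ![x0, x1, x2, x3] (by
    intro i j
    fin_cases i <;> fin_cases j <;>
      simp [x00, x01, x02, x03, sym x01, sym x02, sym x03, x11, x12, x13, sym x12, sym x13, x22, x32,
        sym x32, x33])
  refine ⟨P, hP, ?_, ?_, ?_⟩
  · refine blk_eq_of_fix hF hq hP1 hP (by norm_num) fun i hi B hB => fix_of_orth hF hq hP1 (fun j hj => ?_) hB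
    -- the first pair is spanned by `x0`, `x1`
    have hi' : i = 2 ∨ i = 3 := by fin_cases i <;> simp [iv] at hi ⊢
    have hj' : ∀ k, (k = 2 ∨ k = 3) → Cfsg.hermForm 4 F q (col P1 k) (col P1 j) = 0 := fun k hk => by
      rw [col_on hF hP1, if_neg]
      rcases hj with rfl | rfl <;> rcases hk with rfl | rfl <;> decide
    rw [hcol]
    rcases hi' with rfl | rfl
    · exact sym (hperp _ _ hj' x2a)
    · exact sym (hperp _ _ hj' x3a)
  · refine blk_eq_of_fix hF hq hP2 hP (by norm_num) fun i hi B hB => fix_of_orth hF hq hP2 (fun j hj => ?_) hB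
    have hi' : i = 0 ∨ i = 3 := by fin_cases i <;> simp [iv] at hi ⊢
    obtain ⟨a, b, e1⟩ := coord hP2 x1 x1b
    obtain ⟨c, d, e2⟩ := coord hP2 x2 x2b
    have n1 := x11
    have n2 := x22
    have n12 := x12
    rw [e1] at n1 n12
    rw [e2] at n2 n12
    simp [herm_add_left hF, herm_add_right hF, herm_smul_left hF, herm_smul_right hF, col_on hF hP2 _ _] at n1 n2 n12
    set D := a ^ q * d ^ q - b ^ q * c ^ q with hD
    have n12' : c * a ^ q + d * b ^ q = 0 := by
      have h' := sym x12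
      rw [e1, e2] at h'
      simpa [herm_add_left hF, herm_add_right hF, herm_smul_left hF, herm_smul_right hF, col_on hF hP2 _ _] using h'
    have hDn : D * (a * d - b * c) = 1 := by
      linear_combination (c * c ^ q + d * d ^ q) * n1 + n2 - (c * a ^ q + d * b ^ q) * n12
    have hD0 : D ≠ 0 := fun e => by simp [e] at hDn
    have key : ∀ y : Fin 4 → F, Cfsg.hermForm 4 F q y x1 = 0 → Cfsg.hermForm 4 F q y x2 = 0 →
        Cfsg.hermForm 4 F q y (col P2 j) = 0 := by
      intro y h1 h2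
      rw [e1, herm_add_right hF, herm_smul_right hF, herm_smul_right hF] at h1
      rw [e2, herm_add_right hF, herm_smul_right hF, herm_smul_right hF] at h2
      rcases hj with rfl | rfl
      · exact mul_left_cancel₀ hD0 (by linear_combination (d ^ q) * h1 - (b ^ q) * h2)
      · exact mul_left_cancel₀ hD0 (by linear_combination -(c ^ q) * h1 + (a ^ q) * h2)
    rw [hcol]
    rcases hi' with rfl | rfl
    · exact key x0 x01 x02
    · exact key x3 (sym x13) x32
  · refine blk_eq_of_fix hF hq hP3 hP (by norm_num) fun i hi B hB => fix_of_orth hF hq hP3 (fun j hj => ?_) hB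
    have hi' : i = 0 ∨ i = 1 := by fin_cases i <;> simp [iv] at hi ⊢
    have hj' : ∀ k, (k = 2 ∨ k = 3) → Cfsg.hermForm 4 F q (col P3 k) (col P3 j) = 0 := fun k hk => by
      rw [col_on hF hP3, if_neg]
      rcases hj with rfl | rfl <;> rcases hk with rfl | rfl <;> decide
    rw [hcol]
    rcases hi' with rfl | rfl
    · exact hperp _ _ x0a hj'
    · exact hperp _ _ x1a hj'

end Cfsg.Agent.Lib.PhanWeak91
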