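import Cfsg.Agent.Lib.PhanWeak91.Gen

/-!
Diagonal and field automorphisms, and coordinates in dimensions two and three.
-/

set_option autoImplicit false
set_option linter.unusedSectionVars false

namespace Cfsg.Agent.Lib.PhanWeak91

open Matrix Cfsg.Agent.Lib.Forms

variable {F : Type*} [Field F] [Fintype F] {q m k : ℕ}

/-- The diagonal matrix of norm-one scalars, as a unit. -/
noncomputable def dgu (d : Fin m → F) (hd : ∀ i, d i * d i ^ q = 1) : Matrix.GeneralLinearGroup (Fin m) F :=
  Matrix.GeneralLinearGroup.mkOfDetNeZero (Matrix.diagonal d) (by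
    rw [Matrix.det_diagonal]
    exact Finset.prod_ne_zero_iff.2 fun i _ e => by simpa [e] using hd i)

theorem dgu_mulVec (d : Fin m → F) (hd : ∀ i, d i * d i ^ q = 1) (x : Fin m → F) :
    (dgu d hd : Matrix (Fin m) (Fin m) F) *ᵥ x = fun i => d i * x i := by
  funext i
  exact Matrix.mulVec_diagonal d x i

theorem dgu_isom (d : Fin m → F) (hd : ∀ i, d i * d i ^ q = 1) : IsIsom q (dgu d hd) := fun u v => by
  rw [dgu_mulVec, dgu_mulVec, Cfsg.hermForm, Cfsg.hermForm]
  refine Finset.sum_congr rfl fun i _ => ?_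
  rw [mul_pow]
  linear_combination (u i * v i ^ q) * hd i

/-- Conjugation by a diagonal isometry. -/
noncomputable def dconj (d : Fin m → F) (hd : ∀ i, d i * d i ^ q = 1) : Cfsg.SU m F q →* Cfsg.SU m F q :=
  conjIso (dgu d hd) (dgu_isom d hd)

theorem app_dconj (d : Fin m → F) (hd : ∀ i, d i * d i ^ q = 1) (A : Cfsg.SU m F q) (x : Fin m → F) (i : Fin m) :
    app (dconj d hd A) x i = d i * app A (fun j => d j ^ q * x j) i := by
  have e : x = (dgu d hd : Matrix (Fin m) (Fin m) F) *ᵥ (fun j => d j ^ q * x j) := by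
    rw [dgu_mulVec]; funext j; rw [← mul_assoc, hd j, one_mul]
  conv_lhs => rw [e]
  rw [dconj, app_conjIso, dgu_mulVec]

theorem dconj_injective (d : Fin m → F) (hd : ∀ i, d i * d i ^ q = 1) : Function.Injective (dconj d hd) :=
  conjIso_injective _ _

theorem dconj_emb {f : Fin k → Fin m} (hf : Function.Injective f) (d : Fin m → F)
    (hd : ∀ i, d i * d i ^ q = 1) (A : Cfsg.SU k F q) :
    dconj d hd (emb f hf A) = emb f hf (dconj (fun j => d (f j)) (fun j => hd _) A) := by
  refine ext_app fun x => funext fun i => ?_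
  rw [app_dconj]
  by_cases hi : i ∈ Set.range f
  · obtain ⟨j, rfl⟩ := hi
    rw [app_emb_range, app_emb_range, app_dconj]
  · rw [app_emb_off hf _ _ hi, app_emb_off hf _ _ hi, ← mul_assoc, hd i, one_mul]

variable (hF : Fintype.card F = q ^ 2)
include hF

theorem qhom_mulVec (M : Matrix (Fin m) (Fin m) F) (x : Fin m → F) (i : Fin m) :
    (M.map (qPowHom hF) *ᵥ x) i = (M *ᵥ fun j => x j ^ q) i ^ q := by
  simp only [Matrix.mulVec, dotProduct, Matrix.map_apply]
  rw [← qPowHom_apply hF (∑ j, M i j * x j ^ q), map_sum]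
  simp [mul_pow, pow_q_pow_q hF]

/-- The field automorphism. -/
noncomputable def frob : Cfsg.SU m F q →* Cfsg.SU m F q where
  toFun A := ⟨⟨(mat A).map (qPowHom hF), by
    rw [← RingHom.mapMatrix_apply, ← RingHom.map_det]
    rw [show (mat A).det = 1 from A.1.2, map_one]⟩, fun u v => by
    show Cfsg.hermForm m F q ((mat A).map (qPowHom hF) *ᵥ u) ((mat A).map (qPowHom hF) *ᵥ v) = _
    have h := herm_app A (fun j => u j ^ q) (fun j => v j ^ q)
    have e := congrArg (qPowHom hF) h
    simp only [Cfsg.hermForm, app, map_sum, map_mul, map_pow, qPowHom_apply, pow_q_pow_q hF] at e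
    simp only [Cfsg.hermForm, qhom_mulVec hF, pow_q_pow_q hF]
    exact e⟩
  map_one' := by
    apply Subtype.ext; apply Subtype.ext
    show (1 : Matrix (Fin m) (Fin m) F).map (qPowHom hF) = 1
    exact Matrix.map_one _ (map_zero _) (map_one _)
  map_mul' A B := by
    apply Subtype.ext; apply Subtype.ext
    show (mat A * mat B).map (qPowHom hF) = (mat A).map (qPowHom hF) * (mat B).map (qPowHom hF)
    exact Matrix.map_mul

theorem app_frob (A : Cfsg.SU m F q) (x : Fin m → F) (i : Fin m) :
    app (frob hF A) x i = app A (fun j => x j ^ q) i ^ q := qhom_mulVec hF _ _ _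

theorem frob_frob (A : Cfsg.SU m F q) : frob hF (frob hF A) = A := by
  refine ext_app fun x => funext fun i => ?_
  rw [app_frob, app_frob, pow_q_pow_q hF]
  simp [pow_q_pow_q hF]

theorem frob_emb {f : Fin k → Fin m} (hf : Function.Injective f) (A : Cfsg.SU k F q) :
    frob hF (emb f hf A) = emb f hf (frob hF A) := by
  refine ext_app fun x => funext fun i => ?_
  rw [app_frob]
  by_cases hi : i ∈ Set.range f
  · obtain ⟨j, rfl⟩ := hi
    rw [app_emb_range, app_emb_range, app_frob]
  · rw [app_emb_off hf _ _ hi, app_emb_off hf _ _ hi, pow_q_pow_q hF]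

theorem q_zero' : (0 : F) ^ q = 0 := zero_pow (q_pos hF).ne'

theorem q_neg' (a : F) : (-a) ^ q = -(a ^ q) := by simpa using map_neg (qPowHom hF) a

/-- The element of `SU 2` with first column `(a, b)`. -/
noncomputable def el2 (a b : F) (h : a * a ^ q + b * b ^ q = 1) : Cfsg.SU 2 F q :=
  suMk hF !![a, -b ^ q; b, a ^ q] (by rw [Matrix.det_fin_two_of]; linear_combination h) (fun x y => by
    simp only [Cfsg.hermForm, Fin.sum_univ_two, Matrix.mulVec, dotProduct, Matrix.cons_val_zero,
      Matrix.cons_val_one, Matrix.of_apply]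
    have e : ∀ u v : F, (u + v) ^ q = u ^ q + v ^ q := fun u v => by simpa using map_add (qPowHom hF) u v
    simp only [e, mul_pow, q_neg' hF, pow_q_pow_q hF]
    linear_combination (x 0 * y 0 ^ q + x 1 * y 1 ^ q) * h)

theorem app_el2 (a b : F) (h : a * a ^ q + b * b ^ q = 1) (x : Fin 2 → F) :
    app (el2 hF a b h) x = ![a * x 0 - b ^ q * x 1, b * x 0 + a ^ q * x 1] := by
  funext i
  show (!![a, -b ^ q; b, a ^ q] *ᵥ x) i = _
  fin_cases i <;> simp [Matrix.mulVec, dotProduct, Fin.sum_univ_two]; ring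

theorem supp_singleton (i : Fin m) : supp (F := F) (q := q) ({i} : Set (Fin m)) = ⊥ := by
  have hinj : Function.Injective ![i] := fun a b _ => Subsingleton.elim a b
  have hr : Set.range ![i] = ({i} : Set (Fin m)) := by simp
  rw [← hr, ← range_emb hF hinj, eq_bot_iff]
  rintro _ ⟨A, rfl⟩
  have : A = 1 := by
    apply Subtype.ext; apply Subtype.ext
    funext a b
    have := A.1.2
    rw [Matrix.det_unique] at this
    rw [Subsingleton.elim a default, Subsingleton.elim b default]
    simpa using this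
  rw [this, map_one]; exact one_mem _

theorem exists_el2 (A : Cfsg.SU 2 F q) : ∃ a b, ∃ h : a * a ^ q + b * b ^ q = 1, A = el2 hF a b h := by
  set v := app A (ev 0) with hv
  have h : v 0 * v 0 ^ q + v 1 * v 1 ^ q = 1 := by
    have := herm_app A (ev 0) (ev 0)
    rw [← hv, herm_ev_ev hF] at this
    simpa [Cfsg.hermForm, Fin.sum_univ_two] using this
  refine ⟨v 0, v 1, h, ?_⟩
  have e : app (el2 hF _ _ h) (ev 0) = v := by
    rw [app_el2]; funext i; fin_cases i <;> simp [ev]
  have hm : (el2 hF _ _ h)⁻¹ * A ∈ supp ({1} : Set (Fin 2)) := by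
    intro i hi
    fin_cases i
    · show app _ (ev 0) = ev 0
      rw [app_mul, ← hv]; conv_lhs => arg 2; rw [← e]
      rw [app_inv_app]
    · simp at hi
  rw [supp_singleton hF, Subgroup.mem_bot, inv_mul_eq_one] at hm
  exact hm.symm

theorem el2_ext {a b a' b' : F} (h : a * a ^ q + b * b ^ q = 1) (h' : a' * a' ^ q + b' * b' ^ q = 1) :
    el2 hF a b h = el2 hF a' b' h' ↔ a = a' ∧ b = b' := by
  constructor
  · intro e
    have e' := congrArg (fun A => app A (ev 0)) e
    simp only [app_el2] at e'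
    exact ⟨by simpa [ev] using congrFun e' 0, by simpa [ev] using congrFun e' 1⟩
  · rintro ⟨rfl, rfl⟩; rfl

theorem el2_mul {a b a' b' : F} (h : a * a ^ q + b * b ^ q = 1) (h' : a' * a' ^ q + b' * b' ^ q = 1) :
    ∃ h'', el2 hF a b h * el2 hF a' b' h' = el2 hF (a * a' - b ^ q * b') (b * a' + a ^ q * b') h'' := by
  obtain ⟨c, d, hcd, e⟩ := exists_el2 hF (el2 hF a b h * el2 hF a' b' h')
  have e' := congrArg (fun A => app A (ev 0)) e
  simp only [app_mul, app_el2] at e'
  have e0 : a * a' - b ^ q * b' = c := by simpa [ev] using congrFun e' 0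
  have e1 : b * a' + a ^ q * b' = d := by simpa [ev] using congrFun e' 1
  subst e0 e1
  exact ⟨hcd, e⟩

theorem el2_inv {a b : F} (h : a * a ^ q + b * b ^ q = 1) :
    ∃ h', (el2 hF a b h)⁻¹ = el2 hF (a ^ q) (-b) h' := by
  have h' : a ^ q * (a ^ q) ^ q + -b * (-b) ^ q = 1 := by
    rw [pow_q_pow_q hF, q_neg' hF]; linear_combination h
  refine ⟨h', inv_eq_of_mul_eq_one_right (ext_app fun x => ?_)⟩
  rw [app_mul, app_el2, app_el2, app_one]
  funext i
  fin_cases i <;> simp [q_neg' hF, pow_q_pow_q hF]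
  · linear_combination x 0 * h
  · linear_combination x 1 * h

theorem frob_el2 {a b : F} (h : a * a ^ q + b * b ^ q = 1) :
    ∃ h', frob hF (el2 hF a b h) = el2 hF (a ^ q) (b ^ q) h' := by
  refine ⟨by rw [pow_q_pow_q hF, pow_q_pow_q hF]; linear_combination h, ext_app fun x => funext fun i => ?_⟩
  have e : ∀ u v : F, (u - v) ^ q = u ^ q - v ^ q := fun u v => by simpa using map_sub (qPowHom hF) u v
  have e' : ∀ u v : F, (u + v) ^ q = u ^ q + v ^ q := fun u v => by simpa using map_add (qPowHom hF) u v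
  rw [app_frob, app_el2, app_el2]
  fin_cases i <;> simp [e, e', mul_pow, pow_q_pow_q hF]

theorem dconj_el2 (d : Fin 2 → F) (hd : ∀ i, d i * d i ^ q = 1) {a b : F} (h : a * a ^ q + b * b ^ q = 1) :
    ∃ h', dconj d hd (el2 hF a b h) = el2 hF a (d 1 * d 0 ^ q * b) h' := by
  have h' : a * a ^ q + d 1 * d 0 ^ q * b * (d 1 * d 0 ^ q * b) ^ q = 1 := by
    rw [mul_pow, mul_pow, pow_q_pow_q hF]
    linear_combination h + (b * b ^ q * (d 0 * d 0 ^ q)) * hd 1 + (b * b ^ q) * hd 0
  refine ⟨h', ext_app fun x => funext fun i => ?_⟩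
  rw [app_dconj, app_el2, app_el2]
  fin_cases i <;> simp [mul_pow, pow_q_pow_q hF]
  · linear_combination (a * x 0) * hd 0
  · linear_combination (a ^ q * x 1) * hd 1

end Cfsg.Agent.Lib.PhanWeak91
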