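import Cfsg.Agent.Lib.Forms.Unitary
import Cfsg.Prelude.Def_PhanSystems

/-!
Coordinate block subgroups of the special unitary group: supports, embeddings, automorphisms by
isometries.
-/

set_option autoImplicit false
set_option linter.unusedSectionVars false

namespace Cfsg.Agent.Lib.PhanWeak91

open Matrix Cfsg.Agent.Lib.Forms

variable {F : Type*} [Field F] [Fintype F] {q m k : ℕ}

/-- The matrix of an element. -/
abbrev mat (A : Cfsg.SU m F q) : Matrix (Fin m) (Fin m) F :=
  ((A : Matrix.SpecialLinearGroup (Fin m) F) : Matrix (Fin m) (Fin m) F)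

/-- The action on column vectors. -/
def app (A : Cfsg.SU m F q) (x : Fin m → F) : Fin m → F := mat A *ᵥ x

/-- The standard unit vectors. -/
def ev (j : Fin m) : Fin m → F := Pi.single j 1

theorem mat_mul (A B : Cfsg.SU m F q) : mat (A * B) = mat A * mat B := rfl

theorem mat_one : mat (1 : Cfsg.SU m F q) = 1 := rfl

theorem app_one (x : Fin m → F) : app (1 : Cfsg.SU m F q) x = x := by simp [app, mat_one]

theorem app_mul (A B : Cfsg.SU m F q) (x : Fin m → F) : app (A * B) x = app A (app B x) := by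
  simp [app, mat_mul, Matrix.mulVec_mulVec]

theorem app_inv_app (A : Cfsg.SU m F q) (x : Fin m → F) : app A⁻¹ (app A x) = x := by
  rw [← app_mul, inv_mul_cancel, app_one]

theorem app_app_inv (A : Cfsg.SU m F q) (x : Fin m → F) : app A (app A⁻¹ x) = x := by
  rw [← app_mul, mul_inv_cancel, app_one]

theorem app_inj {A : Cfsg.SU m F q} {x y : Fin m → F} (e : app A x = app A y) : x = y := by
  rw [← app_inv_app A x, e, app_inv_app]

theorem app_add (A : Cfsg.SU m F q) (x y : Fin m → F) : app A (x + y) = app A x + app A y :=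
  Matrix.mulVec_add _ _ _

theorem app_smul (A : Cfsg.SU m F q) (c : F) (x : Fin m → F) : app A (c • x) = c • app A x :=
  Matrix.mulVec_smul _ _ _

theorem app_sum {ι : Type*} (A : Cfsg.SU m F q) (s : Finset ι) (x : ι → Fin m → F) :
    app A (∑ i ∈ s, x i) = ∑ i ∈ s, app A (x i) :=
  map_sum (Matrix.mulVecLin (mat A)) x s

theorem app_zero (A : Cfsg.SU m F q) : app A (0 : Fin m → F) = 0 := Matrix.mulVec_zero _

theorem herm_app (A : Cfsg.SU m F q) (x y : Fin m → F) :
    Cfsg.hermForm m F q (app A x) (app A y) = Cfsg.hermForm m F q x y := A.2 x y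

theorem ext_app {A B : Cfsg.SU m F q} (e : ∀ x, app A x = app B x) : A = B := su_ext e

theorem app_ev (A : Cfsg.SU m F q) (i j : Fin m) : app A (ev j) i = mat A i j := by simp [app, ev]

theorem sum_ev (x : Fin m → F) : ∑ i, x i • ev i = x := by
  funext j; simp [ev, Pi.single_apply, Finset.sum_apply]

theorem ext_ev {A B : Cfsg.SU m F q} (e : ∀ j, app A (ev j) = app B (ev j)) : A = B := by
  refine ext_app fun x => ?_
  rw [← sum_ev x, app_sum, app_sum]
  simp [app_smul, e]

theorem ev_apply (i j : Fin m) : (ev j : Fin m → F) i = if i = j then 1 else 0 := by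
  simp [ev, Pi.single_apply]

variable (hF : Fintype.card F = q ^ 2)
include hF

theorem q_pos : 0 < q := by have := two_le_of_card_sq hF; omega

theorem herm_ev (x : Fin m → F) (j : Fin m) : Cfsg.hermForm m F q x (ev j) = x j := by
  rw [Cfsg.hermForm, Finset.sum_eq_single j]
  · simp [ev]
  · intro i _ hi
    simp [ev, Pi.single_apply, hi, zero_pow (q_pos hF).ne']
  · simp

theorem herm_ev_ev (j : Fin m) : Cfsg.hermForm m F q (ev j) (ev j) = 1 := by
  rw [herm_ev hF]; simp [ev]

omit hF

/-- Vanishing off a set of coordinates. -/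
def Van (s : Set (Fin m)) (x : Fin m → F) : Prop := ∀ i, i ∉ s → x i = 0

/-- The elements fixing the unit vectors outside `s`. -/
def supp (s : Set (Fin m)) : Subgroup (Cfsg.SU m F q) where
  carrier := {A | ∀ i, i ∉ s → app A (ev i) = ev i}
  one_mem' i _ := app_one _
  mul_mem' {A B} hA hB i hi := by rw [app_mul, hB i hi, hA i hi]
  inv_mem' {A} hA i hi := by
    conv_lhs => rw [← hA i hi]
    rw [app_inv_app]

theorem supp_mono {s t : Set (Fin m)} (h : s ⊆ t) : supp (F := F) (q := q) s ≤ supp t :=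
  fun _ hA i hi => hA i fun hs => hi (h hs)

theorem supp_univ : supp (F := F) (q := q) (Set.univ : Set (Fin m)) = ⊤ :=
  eq_top_iff.2 fun _ _ i hi => absurd trivial hi

theorem van_ev {s : Set (Fin m)} {j : Fin m} (hj : j ∈ s) : Van s (ev j : Fin m → F) := by
  intro i hi
  rw [ev_apply, if_neg]
  rintro rfl; exact hi hj

theorem fix_of_van {s : Set (Fin m)} {A : Cfsg.SU m F q} (hA : A ∈ supp s) {x : Fin m → F}
    (hx : Van sᶜ x) : app A x = x := by
  conv_lhs => rw [← sum_ev x]
  conv_rhs => rw [← sum_ev x]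
  rw [app_sum]
  refine Finset.sum_congr rfl fun i _ => ?_
  rw [app_smul]
  by_cases hi : i ∈ s
  · rw [hx i (by simpa using hi), zero_smul, zero_smul]
  · rw [hA i hi]

include hF

theorem app_off {s : Set (Fin m)} {A : Cfsg.SU m F q} (hA : A ∈ supp s) (x : Fin m → F) {i : Fin m}
    (hi : i ∉ s) : app A x i = x i := by
  have h := herm_app A x (ev i)
  rw [hA i hi, herm_ev hF, herm_ev hF] at h
  exact h

theorem van_app {s : Set (Fin m)} {A : Cfsg.SU m F q} (hA : A ∈ supp s) {x : Fin m → F}
    (hx : Van s x) : Van s (app A x) := fun i hi => by rw [app_off hF hA x hi, hx i hi]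

theorem van_app_le {s t : Set (Fin m)} (hst : s ⊆ t) {A : Cfsg.SU m F q} (hA : A ∈ supp s)
    {x : Fin m → F} (hx : Van t x) : Van t (app A x) := van_app hF (supp_mono hst hA) hx

/-- Elements with disjoint supports commute. -/
theorem supp_comm {s t : Set (Fin m)} (hst : Disjoint s t) {A B : Cfsg.SU m F q} (hA : A ∈ supp s)
    (hB : B ∈ supp t) : A * B = B * A := by
  refine ext_ev fun j => ?_
  rw [app_mul, app_mul]
  have key : ∀ {s t : Set (Fin m)}, Disjoint s t → ∀ {A B : Cfsg.SU m F q}, A ∈ supp s → B ∈ supp t →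
      j ∈ s → app A (app B (ev j)) = app B (app A (ev j)) := by
    intro s t hd A B hA hB hj
    rw [hB j (Set.disjoint_left.1 hd hj)]
    refine (fix_of_van hB fun i hi => ?_).symm
    refine van_app hF hA (van_ev hj) i ?_
    simp only [Set.mem_compl_iff, not_not] at hi
    exact fun hs => Set.disjoint_left.1 hd hs hi
  by_cases hj : j ∈ s
  · exact key hst hA hB hj
  by_cases hj' : j ∈ t
  · exact (key hst.symm hB hA hj').symm
  rw [hB j hj', hA j hj, hB j hj']

theorem mem_supp_iff {s : Set (Fin m)} {A : Cfsg.SU m F q} : A ∈ supp s ↔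
    ∀ i : Fin m, i ∉ s → mat A i i = 1 ∧ ∀ l : Fin m, l ≠ i → mat A i l = 0 ∧ mat A l i = 0 := by
  constructor
  · intro hA i hi
    refine ⟨?_, fun l hl => ⟨?_, ?_⟩⟩
    · rw [← app_ev, hA i hi, ev_apply, if_pos rfl]
    · rw [← app_ev, app_off hF hA _ hi, ev_apply, if_neg hl.symm]
    · rw [← app_ev, hA i hi, ev_apply, if_neg hl]
  · intro h i hi
    funext l
    rw [app_ev, ev_apply]
    by_cases hl : l = i
    · rw [if_pos hl, hl, (h i hi).1]
    · rw [if_neg hl, ((h i hi).2 l hl).2]

theorem suBlock_eq (s : Set (Fin m)) : Cfsg.suBlock m F q s = supp s := by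
  refine le_antisymm ((Subgroup.closure_le _).2 fun A hA => ?_) fun A hA => Subgroup.subset_closure ?_
  · exact (mem_supp_iff hF).2 hA
  · exact (mem_supp_iff hF).1 hA

omit hF

/-- The inclusion matrix of an index map. -/
def pmat (f : Fin k → Fin m) : Matrix (Fin m) (Fin k) F := Matrix.of fun i j => if i = f j then 1 else 0

theorem pmat_t_mulVec (f : Fin k → Fin m) (x : Fin m → F) : (pmat (F := F) f)ᵀ *ᵥ x = fun j => x (f j) := by
  funext j
  simp [pmat, Matrix.mulVec, dotProduct]

theorem pmat_mulVec_range {f : Fin k → Fin m} (hf : Function.Injective f) (w : Fin k → F) (j : Fin k) :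
    (pmat f *ᵥ w) (f j) = w j := by
  simp [pmat, Matrix.mulVec, dotProduct, hf.eq_iff]

theorem pmat_mulVec_off {f : Fin k → Fin m} (w : Fin k → F) {i : Fin m} (hi : i ∉ Set.range f) :
    (pmat f *ᵥ w) i = 0 := by
  simp only [pmat, Matrix.mulVec, dotProduct]
  refine Finset.sum_eq_zero fun j _ => ?_
  simp [show i ≠ f j from fun e => hi ⟨j, e.symm⟩]

theorem pmat_t_mul {f : Fin k → Fin m} (hf : Function.Injective f) :
    (pmat (F := F) f)ᵀ * pmat (F := F) f = (1 : Matrix (Fin k) (Fin k) F) := by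
  ext a b
  simp [Matrix.mul_apply, pmat, Matrix.one_apply, hf.eq_iff, eq_comm]

/-- Extension by the identity. -/
def extMat (f : Fin k → Fin m) (X : Matrix (Fin k) (Fin k) F) : Matrix (Fin m) (Fin m) F :=
  1 + (pmat f : Matrix (Fin m) (Fin k) F) * (X - 1) * (pmat (F := F) f)ᵀ

theorem extMat_mulVec (f : Fin k → Fin m) (X : Matrix (Fin k) (Fin k) F) (x : Fin m → F) :
    extMat f X *ᵥ x = x + pmat f *ᵥ (X *ᵥ (fun j => x (f j)) - fun j => x (f j)) := by
  rw [extMat, Matrix.add_mulVec, Matrix.one_mulVec, ← Matrix.mulVec_mulVec, ← Matrix.mulVec_mulVec,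
    pmat_t_mulVec, Matrix.sub_mulVec, Matrix.one_mulVec]

theorem extMat_range {f : Fin k → Fin m} (hf : Function.Injective f) (X : Matrix (Fin k) (Fin k) F)
    (x : Fin m → F) (j : Fin k) : (extMat f X *ᵥ x) (f j) = (X *ᵥ fun j => x (f j)) j := by
  rw [extMat_mulVec, Pi.add_apply, pmat_mulVec_range hf]
  simp

theorem extMat_off (f : Fin k → Fin m) (X : Matrix (Fin k) (Fin k) F) (x : Fin m → F) {i : Fin m}
    (hi : i ∉ Set.range f) : (extMat f X *ᵥ x) i = x i := by
  rw [extMat_mulVec, Pi.add_apply, pmat_mulVec_off _ hi, add_zero]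

theorem det_extMat {f : Fin k → Fin m} (hf : Function.Injective f) (X : Matrix (Fin k) (Fin k) F) :
    (extMat f X).det = X.det := by
  rw [extMat, Matrix.mul_assoc, Matrix.det_one_add_mul_comm, Matrix.mul_assoc, pmat_t_mul hf,
    Matrix.mul_one, add_sub_cancel]

/-- Sum over `Fin m` split along an injective index map. -/
theorem sum_split {f : Fin k → Fin m} (hf : Function.Injective f) (w : Fin m → F) :
    ∑ i, w i = ∑ j, w (f j) + ∑ i ∈ (Finset.univ.image f)ᶜ, w i := by
  classical
  rw [← Finset.sum_add_sum_compl (Finset.univ.image f), Finset.sum_image hf.injOn]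

theorem not_range_of_mem_compl {f : Fin k → Fin m} {i : Fin m} (hi : i ∈ (Finset.univ.image f)ᶜ) :
    i ∉ Set.range f := by
  simpa using hi

theorem herm_van {f : Fin k → Fin m} (hf : Function.Injective f) (hq : 0 < q) {x : Fin m → F}
    (hx : Van (Set.range f) x) (y : Fin m → F) :
    Cfsg.hermForm m F q x y = Cfsg.hermForm k F q (fun j => x (f j)) (fun j => y (f j)) := by
  rw [Cfsg.hermForm, sum_split hf]
  rw [Finset.sum_eq_zero (s := (Finset.univ.image f)ᶜ)
    (fun i hi => by rw [hx i (not_range_of_mem_compl hi), zero_mul]), add_zero]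
  rfl

/-- The embedding of a smaller group along an index map. -/
def emb (f : Fin k → Fin m) (hf : Function.Injective f) : Cfsg.SU k F q →* Cfsg.SU m F q where
  toFun A := ⟨⟨extMat f (mat A), by rw [det_extMat hf]; exact A.1.2⟩, fun u v => by
    show Cfsg.hermForm m F q (extMat f (mat A) *ᵥ u) (extMat f (mat A) *ᵥ v) = _
    rw [Cfsg.hermForm, Cfsg.hermForm, sum_split hf, sum_split hf (fun i => u i * v i ^ q)]
    congr 1
    · simp only [extMat_range hf]
      exact A.2 _ _
    · exact Finset.sum_congr rfl fun i hi => by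
        rw [extMat_off _ _ _ (not_range_of_mem_compl hi), extMat_off _ _ _ (not_range_of_mem_compl hi)]⟩
  map_one' := by
    apply ext_app; intro x
    show extMat f (mat (1 : Cfsg.SU k F q)) *ᵥ x = app 1 x
    rw [app_one, extMat_mulVec, mat_one]
    simp
  map_mul' A B := by
    apply ext_app; intro x
    rw [app_mul]
    show extMat f (mat (A * B)) *ᵥ x = extMat f (mat A) *ᵥ (extMat f (mat B) *ᵥ x)
    funext i
    by_cases hi : i ∈ Set.range f
    · obtain ⟨j, rfl⟩ := hi
      rw [extMat_range hf, extMat_range hf]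
      have : (fun j => (extMat f (mat B) *ᵥ x) (f j)) = mat B *ᵥ fun j => x (f j) :=
        funext fun j => extMat_range hf _ _ _
      rw [this, Matrix.mulVec_mulVec, mat_mul]
    · rw [extMat_off _ _ _ hi, extMat_off _ _ _ hi, extMat_off _ _ _ hi]

theorem app_emb_range {f : Fin k → Fin m} (hf : Function.Injective f) (A : Cfsg.SU k F q) (x : Fin m → F)
    (j : Fin k) : app (emb f hf A) x (f j) = app A (fun j => x (f j)) j := extMat_range hf _ _ _

theorem app_emb_off {f : Fin k → Fin m} (hf : Function.Injective f) (A : Cfsg.SU k F q) (x : Fin m → F)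
    {i : Fin m} (hi : i ∉ Set.range f) : app (emb f hf A) x i = x i := extMat_off _ _ _ hi

theorem app_emb_ev {f : Fin k → Fin m} (hf : Function.Injective f) (A : Cfsg.SU k F q) (i j : Fin k) :
    app (emb f hf A) (ev (f j)) (f i) = app A (ev j) i := by
  rw [app_emb_range]
  congr 1
  funext l
  rw [ev_apply, ev_apply]
  simp [hf.eq_iff]

theorem emb_injective {f : Fin k → Fin m} (hf : Function.Injective f) :
    Function.Injective (emb (F := F) (q := q) f hf) := fun A B e => ext_ev fun j => by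
  funext i
  rw [← app_emb_ev hf, ← app_emb_ev hf, e]

theorem emb_mem_supp {f : Fin k → Fin m} (hf : Function.Injective f) (A : Cfsg.SU k F q) :
    emb f hf A ∈ supp (Set.range f) := fun i hi => by
  funext l
  by_cases hl : l ∈ Set.range f
  · obtain ⟨j, rfl⟩ := hl
    have : (fun j => (ev i : Fin m → F) (f j)) = 0 := funext fun j => by
      simp [ev_apply, show f j ≠ i from fun e => hi ⟨j, e⟩]
    rw [app_emb_range, this, app_zero]
    exact (congrFun this j).symm
  · rw [app_emb_off hf _ _ hl]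

theorem emb_comp {l : ℕ} {f : Fin k → Fin m} (hf : Function.Injective f) {g : Fin l → Fin k}
    (hg : Function.Injective g) (A : Cfsg.SU l F q) :
    emb f hf (emb g hg A) = emb (f ∘ g) (hf.comp hg) A := by
  refine ext_app fun x => funext fun i => ?_
  by_cases hi : i ∈ Set.range (f ∘ g)
  · obtain ⟨j, rfl⟩ := hi
    rw [app_emb_range (hf.comp hg), Function.comp_apply, app_emb_range hf, app_emb_range hg]
    rfl
  · rw [app_emb_off (hf.comp hg) _ _ hi]
    by_cases hi' : i ∈ Set.range f
    · obtain ⟨j, rfl⟩ := hi'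
      rw [app_emb_range hf, app_emb_off hg]
      rintro ⟨b, rfl⟩
      exact hi ⟨b, rfl⟩
    · rw [app_emb_off hf _ _ hi']

include hF

theorem exists_emb_of_mem {f : Fin k → Fin m} (hf : Function.Injective f) {A : Cfsg.SU m F q}
    (hA : A ∈ supp (Set.range f)) : ∃ B, emb f hf B = A := by
  let X : Matrix (Fin k) (Fin k) F := Matrix.of fun i j => mat A (f i) (f j)
  have hX : ∀ x : Fin m → F, extMat f X *ᵥ x = app A x := by
    intro x
    funext i
    by_cases hi : i ∈ Set.range f
    · obtain ⟨j, rfl⟩ := hi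
      rw [extMat_range hf]
      show ∑ l, mat A (f j) (f l) * x (f l) = ∑ l, mat A (f j) l * x l
      rw [sum_split hf (fun l => mat A (f j) l * x l)]
      rw [Finset.sum_eq_zero (s := (Finset.univ.image f)ᶜ) (fun l hl => ?_), add_zero]
      have hl' := not_range_of_mem_compl hl
      rw [← app_ev, hA l hl', ev_apply, if_neg (fun e => hl' ⟨j, e⟩), zero_mul]
    · rw [extMat_off _ _ _ hi, app_off hF hA x hi]
  have hAX : extMat f X = mat A := Matrix.ext_iff_mulVec.mpr hX
  refine ⟨⟨⟨X, by rw [← det_extMat hf, hAX]; exact A.1.2⟩, fun u v => ?_⟩, ext_app hX⟩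
  show Cfsg.hermForm k F q (X *ᵥ u) (X *ᵥ v) = _
  classical
  let U : Fin m → F := Function.extend f u 0
  let V : Fin m → F := Function.extend f v 0
  have hUf : (fun j => U (f j)) = u := funext fun j => hf.extend_apply _ _ _
  have hVf : (fun j => V (f j)) = v := funext fun j => hf.extend_apply _ _ _
  have hU0 : Van (Set.range f) U := fun i hi => Function.extend_apply' _ _ _ hi
  have h := herm_app A U V
  rw [herm_van hf (q_pos hF) (van_app hF hA hU0), herm_van hf (q_pos hF) hU0, hUf, hVf] at h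
  have e1 : (fun j => app A U (f j)) = X *ᵥ u := funext fun j => by
    rw [← hX U, extMat_range hf, hUf]
  have e2 : (fun j => app A V (f j)) = X *ᵥ v := funext fun j => by
    rw [← hX V, extMat_range hf, hVf]
  rw [e1, e2] at h
  exact h

theorem range_emb {f : Fin k → Fin m} (hf : Function.Injective f) :
    (emb (F := F) (q := q) f hf).range = supp (Set.range f) := by
  refine le_antisymm ?_ fun A hA => exists_emb_of_mem hF hf hA
  rintro _ ⟨A, rfl⟩
  exact emb_mem_supp hf A

omit hF

/-- An invertible matrix preserving the form. -/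
def IsIsom (q : ℕ) (P : Matrix.GeneralLinearGroup (Fin m) F) : Prop :=
  ∀ u v, Cfsg.hermForm m F q ((P : Matrix (Fin m) (Fin m) F) *ᵥ u) ((P : Matrix (Fin m) (Fin m) F) *ᵥ v) =
    Cfsg.hermForm m F q u v

theorem IsIsom.inv {P : Matrix.GeneralLinearGroup (Fin m) F} (hP : IsIsom q P) : IsIsom q P⁻¹ := fun u v => by
  have h := hP ((↑P⁻¹ : Matrix (Fin m) (Fin m) F) *ᵥ u) ((↑P⁻¹ : Matrix (Fin m) (Fin m) F) *ᵥ v)
  simp only [Matrix.mulVec_mulVec, Units.mul_inv, Matrix.one_mulVec] at h
  exact h.symm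

/-- Conjugation by an isometry. -/
def conjIso (P : Matrix.GeneralLinearGroup (Fin m) F) (hP : IsIsom q P) :
    Cfsg.SU m F q →* Cfsg.SU m F q where
  toFun A := ⟨⟨(P : Matrix (Fin m) (Fin m) F) * mat A * (↑P⁻¹ : Matrix (Fin m) (Fin m) F), by
      rw [Matrix.det_units_conj]; exact A.1.2⟩, fun u v => by
    show Cfsg.hermForm m F q (((P : Matrix (Fin m) (Fin m) F) * mat A * (↑P⁻¹ : Matrix (Fin m) (Fin m) F)) *ᵥ u)
      (((P : Matrix (Fin m) (Fin m) F) * mat A * (↑P⁻¹ : Matrix (Fin m) (Fin m) F)) *ᵥ v) = _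
    simp only [← Matrix.mulVec_mulVec]
    rw [hP, show ∀ a b, Cfsg.hermForm m F q (mat A *ᵥ a) (mat A *ᵥ b) = Cfsg.hermForm m F q a b from A.2]
    exact hP.inv u v⟩
  map_one' := by
    apply Subtype.ext; apply Subtype.ext
    show (P : Matrix (Fin m) (Fin m) F) * 1 * (↑P⁻¹ : Matrix (Fin m) (Fin m) F) = 1
    simp
  map_mul' A B := by
    apply Subtype.ext; apply Subtype.ext
    show (P : Matrix (Fin m) (Fin m) F) * (mat A * mat B) * (↑P⁻¹ : Matrix (Fin m) (Fin m) F)
      = ((P : Matrix (Fin m) (Fin m) F) * mat A * (↑P⁻¹ : Matrix (Fin m) (Fin m) F)) *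
        ((P : Matrix (Fin m) (Fin m) F) * mat B * (↑P⁻¹ : Matrix (Fin m) (Fin m) F))
    simp [Matrix.mul_assoc]

theorem app_conjIso (P : Matrix.GeneralLinearGroup (Fin m) F) (hP : IsIsom q P) (A : Cfsg.SU m F q)
    (x : Fin m → F) : app (conjIso P hP A) ((P : Matrix (Fin m) (Fin m) F) *ᵥ x) =
      (P : Matrix (Fin m) (Fin m) F) *ᵥ app A x := by
  show ((P : Matrix (Fin m) (Fin m) F) * mat A * (↑P⁻¹ : Matrix (Fin m) (Fin m) F)) *ᵥ
    ((P : Matrix (Fin m) (Fin m) F) *ᵥ x) = _
  simp [Matrix.mulVec_mulVec, Matrix.mul_assoc, app]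

theorem conjIso_conjIso_inv (P : Matrix.GeneralLinearGroup (Fin m) F) (hP : IsIsom q P) (A : Cfsg.SU m F q) :
    conjIso P hP (conjIso P⁻¹ hP.inv A) = A := by
  apply Subtype.ext; apply Subtype.ext
  show (P : Matrix (Fin m) (Fin m) F) *
      ((↑P⁻¹ : Matrix (Fin m) (Fin m) F) * mat A * ((P⁻¹)⁻¹ : Matrix.GeneralLinearGroup (Fin m) F).val) *
      (↑P⁻¹ : Matrix (Fin m) (Fin m) F) = mat A
  rw [inv_inv]
  simp [Matrix.mul_assoc]

theorem conjIso_surjective (P : Matrix.GeneralLinearGroup (Fin m) F) (hP : IsIsom q P) :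
    Function.Surjective (conjIso P hP) := fun A => ⟨_, conjIso_conjIso_inv P hP A⟩

theorem conjIso_injective (P : Matrix.GeneralLinearGroup (Fin m) F) (hP : IsIsom q P) :
    Function.Injective (conjIso P hP) :=
  Finite.injective_iff_surjective.2 (conjIso_surjective P hP)

end Cfsg.Agent.Lib.PhanWeak91
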