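import Cfsg.Agent.Lib.PhanWeak91.Rigid3

/-!
Rigidity of `SU 3` relative to its coordinate pairs, `q = 2, 3`.
-/

set_option autoImplicit false
set_option linter.unusedSectionVars false

namespace Cfsg.Agent.Lib.PhanWeak91

open Matrix Cfsg.Agent.Lib.Forms

variable {F : Type*} [Field F] [Fintype F] {q : ℕ} (hF : Fintype.card F = q ^ 2)
include hF

/-- For `q = 2` a homomorphism fixing both pairs fixes the character table matrix. -/
theorem exists_fourier (hq : q = 2) : ∃ g : Cfsg.SU 3 F q, app g (ev 0) = ![1, 1, 1] ∧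
    ∀ δ : Cfsg.SU 3 F q →* Cfsg.SU 3 F q, (∀ A, δ (p01 A) = p01 A) → (∀ A, δ (p12 A) = p12 A) → δ g = g := by
  obtain ⟨l, hl, hl2, -, -⟩ := exists_lam hF (Or.inl hq)
  have h2 := two_eq_zero hF hq
  subst hq
  have hl1 : l ≠ 1 := by rintro rfl; exact hl2 (one_mul _)
  have hr : l * l + l + 1 = 0 := by
    apply mul_left_cancel₀ (sub_ne_zero.2 hl1)
    linear_combination hl
  let g : Cfsg.SU 3 F 2 := suMk hF !![1, 1, 1; 1, l, l ^ 2; 1, l ^ 2, l]
    (by
      rw [Matrix.det_fin_three]
      simp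
      linear_combination (-(l * l) + l + 3) * hr - (3 * l + 2) * h2)
    (fun x y => by
      have e : ∀ u v : F, (u + v) ^ 2 = u ^ 2 + v ^ 2 := fun u v => by linear_combination (u * v) * h2
      simp [Cfsg.hermForm, Fin.sum_univ_three, Matrix.mulVec, dotProduct, e, mul_pow]
      ring_nf
      grind)
  have happ : ∀ x : Fin 3 → F, app g x =
      ![x 0 + x 1 + x 2, x 0 + l * x 1 + l ^ 2 * x 2, x 0 + l ^ 2 * x 1 + l * x 2] := by
    intro x
    funext i
    show (!![1, 1, 1; 1, l, l ^ 2; 1, l ^ 2, l] *ᵥ x) i = _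
    fin_cases i <;> simp [Matrix.mulVec, dotProduct, Fin.sum_univ_three]
  refine ⟨g, by rw [happ]; funext i; fin_cases i <;> simp [ev], fun δ h01 h12 => ?_⟩
  have hs : (0 : F) * 0 ^ 2 + 1 * 1 ^ 2 = 1 := by simp
  have ht : l * l ^ 2 + (0 : F) * 0 ^ 2 = 1 := by simpa using hl
  have ht' : l ^ 2 * (l ^ 2) ^ 2 + (0 : F) * 0 ^ 2 = 1 := by linear_combination (l * l ^ 2 + 1) * hl
  let C := p12 (el2 hF (0 : F) 1 hs) * p01 (el2 hF (0 : F) 1 hs)
  let n1 := p01 (el2 hF l 0 ht)
  let S := p01 (el2 hF l 0 ht) * p12 (el2 hF (l ^ 2) 0 ht')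
  have neg1 : ∀ a : F, -a = a := fun a => by linear_combination (-a) * h2
  have hC : ∀ x, app C x = ![x 1, x 2, x 0] := fun x => by
    rw [app_mul, app_p12, app_p01]; funext i; fin_cases i <;> simp [app_el2, neg1]
  have hn1 : ∀ x, app n1 x = ![l * x 0, l ^ 2 * x 1, x 2] := fun x => by
    rw [app_p01]; funext i; fin_cases i <;> simp [app_el2]
  have hS : ∀ x, app S x = l • x := fun x => by
    rw [app_mul, app_p12, app_p01]; funext i
    fin_cases i <;> simp [app_el2] <;> grind
  have fC : δ C = C := by rw [map_mul, h12, h01]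
  have fn1 : δ n1 = n1 := h01 _
  have fS : δ S = S := by rw [map_mul, h01, h12]
  have r1 : g * n1 = S * C * g := by
    refine ext_app fun x => funext fun i => ?_
    simp only [app_mul, happ, hn1, hC, hS]
    fin_cases i <;> simp <;> grind
  have r2 : g * C = S * n1⁻¹ * g := by
    have hni : ∀ x, app n1⁻¹ x = ![l ^ 2 * x 0, l * x 1, x 2] := fun x => by
      apply app_inj (A := n1)
      rw [app_app_inv, hn1]
      funext i; fin_cases i <;> simp <;> grind
    refine ext_app fun x => funext fun i => ?_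
    simp only [app_mul, happ, hC, hS, hni]
    fin_cases i <;> simp <;> grind
  set z := g⁻¹ * δ g with hz
  have comm : ∀ {n m : Cfsg.SU 3 F 2}, g * n = m * g → δ n = n → δ m = m → z * n = n * z := by
    intro n m e hn hm
    have h := congrArg δ e
    rw [map_mul, map_mul, hn, hm] at h
    rw [hz]
    calc g⁻¹ * δ g * n = g⁻¹ * (δ g * n) := by group
      _ = g⁻¹ * (m * δ g) := by rw [h]
      _ = g⁻¹ * (m * g) * (g⁻¹ * δ g) := by group
      _ = g⁻¹ * (g * n) * (g⁻¹ * δ g) := by rw [e]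
      _ = n * (g⁻¹ * δ g) := by group
  have z1 := comm r1 fn1 (by rw [map_mul, fS, fC])
  have z2 := comm r2 fC (by rw [map_mul, map_inv, fn1, fS])
  set w := app z (ev 0) with hw
  have hn0 : app n1 (ev 0) = l • (ev 0 : Fin 3 → F) := by rw [hn1]; funext i; fin_cases i <;> simp [ev]
  have hw' : app n1 w = l • w := by rw [hw, ← app_mul, ← z1, app_mul, hn0, app_smul]
  have w1 : w 1 = 0 := by
    have := congrFun hw' 1
    simp only [hn1, Matrix.cons_val_one, Matrix.cons_val_zero, Pi.smul_apply, smul_eq_mul] at this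
    have hne : l ^ 2 - l ≠ 0 := by
      intro e; exact one_ne_zero (α := F) (by linear_combination hr - e + (-l) * h2)
    exact mul_left_cancel₀ hne (by linear_combination this)
  have w2 : w 2 = 0 := by
    have := congrFun hw' 2
    simp [hn1] at this
    exact mul_left_cancel₀ (sub_ne_zero.2 hl1) (by linear_combination -this)
  have we : w = w 0 • (ev 0 : Fin 3 → F) := by funext i; fin_cases i <;> simp [ev, w1, w2]
  have hC0 : app C (ev 0 : Fin 3 → F) = ev 2 := by rw [hC]; funext i; fin_cases i <;> simp [ev]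
  have hC2 : app C (ev 2 : Fin 3 → F) = ev 1 := by rw [hC]; funext i; fin_cases i <;> simp [ev]
  have z_e2 : app z (ev 2) = w 0 • (ev 2 : Fin 3 → F) := by
    rw [← hC0, ← app_mul, z2, app_mul, ← hw, ← app_smul, ← we]
  have z_e1 : app z (ev 1) = w 0 • (ev 1 : Fin 3 → F) := by
    rw [← hC2, ← app_mul, z2, app_mul, z_e2, app_smul]
  have zscal : ∀ x, app z x = w 0 • x := fun x => by
    conv_lhs => rw [← sum_ev x, app_sum]
    conv_rhs => rw [← sum_ev x, Finset.smul_sum]
    refine Finset.sum_congr rfl fun i _ => ?_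
    rw [app_smul, smul_comm]
    congr 1
    fin_cases i
    · exact hw ▸ we
    · exact z_e1
    · exact z_e2
  have hgg : g * g = p12 (el2 hF (0 : F) 1 hs) := by
    refine ext_app fun x => funext fun i => ?_
    simp only [app_mul, happ, app_p12, app_el2]
    fin_cases i <;> simp [neg1] <;> grind
  have hδg : δ g = g * z := by rw [hz]; group
  have hsq : g * z * (g * z) = g * g := by rw [← hδg, ← map_mul, hgg, h12]
  have hzc : ∀ A, z * A = A * z := fun A => ext_app fun x => by
    rw [app_mul z A, app_mul A z, zscal, zscal, app_smul]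
  have hzz : z * z = 1 := by
    have : g * g * (z * z) = g * g := by
      conv_rhs => rw [← hsq]
      calc g * g * (z * z) = g * (g * z) * z := by group
        _ = g * (z * g) * z := by rw [hzc g]
        _ = g * z * (g * z) := by group
    exact mul_eq_left.1 this
  have hw0 : w 0 = 1 := by
    have := congrArg (fun A => app A (ev 0) (0 : Fin 3)) hzz
    simp only [app_mul, zscal, app_smul, app_one] at this
    simp [ev] at this
    have hsq0 : (w 0 - 1) * (w 0 - 1) = 0 := by linear_combination this + (1 - w 0) * h2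
    exact sub_eq_zero.1 (mul_self_eq_zero.1 hsq0)
  have : z = 1 := ext_app fun x => by rw [zscal, hw0, one_smul, app_one]
  rw [hδg, this, mul_one]

theorem fixed_two (hq : q = 2) (δ : Cfsg.SU 3 F q →* Cfsg.SU 3 F q) (h01 : ∀ A, δ (p01 A) = p01 A)
    (h12 : ∀ A, δ (p12 A) = p12 A) (A : Cfsg.SU 3 F q) : δ A = A := by
  have hq0 := q_pos hF
  have h2 := two_eq_zero hF hq
  obtain ⟨g, hg0, hgfix⟩ := exists_fourier hF hq
  let K : Subgroup (Cfsg.SU 3 F q) := δ.eqLocus (MonoidHom.id _)
  have k01 : supp (iv 0 2) ≤ K := by rw [← range_p01 hF]; rintro _ ⟨B, rfl⟩; exact h01 B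
  have k12 : supp (iv 1 2) ≤ K := by rw [← range_p12 hF]; rintro _ ⟨B, rfl⟩; exact h12 B
  suffices hK : K = ⊤ from (hK ▸ Subgroup.mem_top A : A ∈ K)
  refine gen_of_orbit hF K k12 fun v hv => ?_
  have hv' : v 0 * v 0 ^ q + v 1 * v 1 ^ q + v 2 * v 2 ^ q = 1 := by
    simpa [Cfsg.hermForm, Fin.sum_univ_three] using hv
  have last : ∀ w : Fin 3 → F, w 2 = 0 → Cfsg.hermForm 3 F q w w = 1 → ∃ B ∈ K, app B w = ev 0 := by
    intro w hw2 hw
    obtain ⟨B, hB, hBw⟩ := exists_iv_app hF (a := 0) (k := 2) (m := 3) (by norm_num) le_rfl (x := w)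
      (y := ev 0) (fun i hi => by fin_cases i <;> simp [iv] at hi ⊢; exact hw2) (van_ev (by simp [iv]))
      (fun e => by rw [e] at hw; simp [Cfsg.hermForm] at hw)
      (fun e => one_ne_zero (α := F) (by simpa [ev] using congrFun e (0 : Fin 3)))
      (by rw [hw, herm_ev_ev hF]) (Or.inr (by rw [herm_ev_ev hF]; exact one_ne_zero))
    exact ⟨B, k01 hB, hBw⟩
  by_cases h2' : v 2 = 0
  · exact last v h2' hv
  by_cases h1 : v 1 = 0
  · have hs : (0 : F) * 0 ^ q + 1 * 1 ^ q = 1 := by simp
    obtain ⟨B, hB, hBv⟩ := last (app (p12 (el2 hF (0 : F) 1 hs)) v) (by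
      rw [app_p12, app_el2]; simp [h1, hq0.ne']) (by rw [herm_app, hv])
    exact ⟨B * p12 (el2 hF (0 : F) 1 hs), mul_mem hB (h12 _), by rw [app_mul, hBv]⟩
  have n1 := norm_two hF hq h1
  have n2 := norm_two hF hq h2'
  by_cases h0 : v 0 = 0
  · exfalso
    rw [h0, n1, n2, zero_pow hq0.ne'] at hv'
    exact one_ne_zero (α := F) (by linear_combination hv')
  have n0 := norm_two hF hq h0
  set c := v 0 * v 1 * v 2 with hc
  have nc : c * c ^ q = 1 := norm_two hF hq (by simp [hc, h0, h1, h2'])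
  let d : Fin 3 → F := ![c, 1, 1]
  have hd : ∀ i, d i * d i ^ q = 1 := fun i => by fin_cases i <;> simp [d, nc]
  let e : Fin 3 → F := ![c ^ q, 1, 1]
  have he : ∀ i, e i * e i ^ q = 1 := fun i => by
    fin_cases i <;> simp [e, pow_q_pow_q hF]
    linear_combination nc
  have inv1 : ∀ B, dconj e he (dconj d hd B) = B := fun B => by
    refine ext_app fun x => funext fun i => ?_
    rw [app_dconj, app_dconj, ← mul_assoc]
    have hde : ∀ j, e j * d j = 1 := fun j => by
      fin_cases j <;> simp [e, d]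
      linear_combination nc
    rw [hde, one_mul]
    congr 2
    funext j
    rw [← mul_assoc, ← mul_pow, mul_comm (d j), hde, one_pow, one_mul]
  have inv2 : ∀ B, dconj d hd (dconj e he B) = B := fun B =>
    dconj_injective e he (inv1 _)
  have hh : δ (dconj d hd g) = dconj d hd g := by
    have := hgfix ((dconj e he).comp (δ.comp (dconj d hd)))
      (fun B => by
        show dconj e he (δ (dconj d hd (p01 B))) = _
        rw [p01, dconj_emb, ← p01, h01, p01, ← dconj_emb _ d hd, inv1])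
      (fun B => by
        show dconj e he (δ (dconj d hd (p12 B))) = _
        rw [p12, dconj_emb, ← p12, h12, p12, ← dconj_emb _ d hd, inv1])
    have h' := congrArg (dconj d hd) this
    simp only [MonoidHom.coe_comp, Function.comp_apply, inv2] at h'
    exact h'
  have hw : (v 2 ^ q * c ^ q) * (v 2 ^ q * c ^ q) ^ q + (0 : F) * 0 ^ q = 1 := by
    simp only [mul_pow, pow_q_pow_q hF, zero_mul, add_zero]
    linear_combination (c * c ^ q) * n2 + nc
  have hv0 : v 0 * v 0 ^ q + (0 : F) * 0 ^ q = 1 := by simpa [zero_pow hq0.ne'] using n0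
  set B := p01 (el2 hF (v 0) 0 hv0) * p12 (el2 hF (v 2 ^ q * c ^ q) 0 hw) * dconj d hd g with hBdef
  have hBK : B ∈ K := mul_mem (mul_mem (h01 _) (h12 _)) hh
  have hBe : app B (ev 0) = v := by
    have e1 : app (dconj d hd g) (ev 0) = ![1, c ^ q, c ^ q] := by
      funext i
      rw [app_dconj]
      have : (fun j => d j ^ q * (ev 0 : Fin 3 → F) j) = c ^ q • ev 0 := by
        funext j; fin_cases j <;> simp [d, ev]
      rw [this, app_smul, hg0]
      fin_cases i <;> simp [d, nc]
    rw [hBdef, app_mul, app_mul, e1, app_p12, app_p01]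
    funext i
    fin_cases i <;> simp [app_el2, zero_pow hq0.ne', mul_pow, pow_q_pow_q hF]
    · subst hq
      rw [hc]
      simp only [mul_pow]
      linear_combination (v 1 * (v 0 * v 0 ^ 2) * (v 0 * v 0 ^ 2) * (v 1 * v 1 ^ 2) * (v 2 * v 2 ^ 2)) * n2
        + (v 1 * (v 0 * v 0 ^ 2) * (v 0 * v 0 ^ 2) * (v 1 * v 1 ^ 2)) * n2
        + (v 1 * (v 0 * v 0 ^ 2) * (v 0 * v 0 ^ 2)) * n1 + (v 1 * (v 0 * v 0 ^ 2)) * n0 + v 1 * n0
    · linear_combination (v 2) * nc
  exact ⟨B⁻¹, inv_mem hBK, by rw [← hBe, app_inv_app]⟩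

/-- Rigidity: an injective endomorphism preserving both pairs is undone by a twist. -/
theorem rigid (hq : q = 2 ∨ q = 3) (δ : Cfsg.SU 3 F q →* Cfsg.SU 3 F q) (hinj : Function.Injective δ)
    (h01 : ∀ A, ∃ B, δ (p01 A) = p01 B) (h12 : ∀ A, ∃ B, δ (p12 A) = p12 B) :
    ∃ (d : Fin 3 → F) (hd : ∀ i, d i * d i ^ q = 1) (ε : Bool), ∀ A, δ (twist hF d hd ε A) = A := by
  obtain ⟨d, hd, ε, h⟩ := exists_twist hF hq δ hinj h01 h12
  refine ⟨d, hd, ε, fun A => ?_⟩
  set Φ := (twist hF d hd ε).comp δ with hΦ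
  have hid : ∀ B, Φ B = B := by
    intro B
    rcases hq with hq | hq
    · exact fixed_two hF hq Φ (fun C => (h C).1) (fun C => (h C).2) B
    · have hK : Φ.eqLocus (MonoidHom.id _) = ⊤ := by
        refine gen_su3_three hF hq _ ?_ ?_
        · rw [← range_p01 hF]; rintro _ ⟨C, rfl⟩; exact (h C).1
        · rw [← range_p12 hF]; rintro _ ⟨C, rfl⟩; exact (h C).2
      exact (hK ▸ Subgroup.mem_top B : B ∈ Φ.eqLocus (MonoidHom.id _))
  exact twist_injective hF d hd ε (hid (twist hF d hd ε A))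

end Cfsg.Agent.Lib.PhanWeak91
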