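import Cfsg.Agent.Lib.PhanWeak91.Glue
import Cfsg.Agent.Lib.PhanWeak91.RigidFull

/-!
Chaining window homomorphisms for `q = 2, 3`.
-/

set_option autoImplicit false
set_option linter.unusedSectionVars false

namespace Cfsg.Agent.Lib.PhanWeak91

open Matrix

variable {F : Type*} [Field F] [Fintype F] {q m : ℕ} {G : Type*} [Group G]

/-- A window homomorphism onto the subgroups at position `i`. -/
structure WinHom (U V : ℕ → Subgroup G) (F : Type*) [Field F] [Fintype F] (q : ℕ) (i : ℕ) where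
  hom : Cfsg.SU 4 F q →* G
  mapU : ∀ j, j ≤ 2 → (supp (F := F) (q := q) (iv j 2 : Set (Fin 4))).map hom = U (i + j)
  mapV : ∀ j, j ≤ 1 → (supp (F := F) (q := q) (iv j 3 : Set (Fin 4))).map hom = V (i + j)
  inj : ∀ j (hj : j + 3 ≤ 4) (x y : Cfsg.SU 3 F q),
    hom (emb (ivf j 3 hj) (ivf_injective _ _ _) x) = hom (emb (ivf j 3 hj) (ivf_injective _ _ _) y) → x = y

theorem emb_p01 (j : ℕ) (hj : j + 3 ≤ 4) (A : Cfsg.SU 2 F q) :
    emb (ivf j 3 hj) (ivf_injective _ _ _) (p01 A) = emb (ivf j 2 (by omega : j + 2 ≤ 4)) (ivf_injective _ _ _) A := by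
  rw [p01, emb_comp]
  congr 1

theorem emb_p12 (j : ℕ) (hj : j + 3 ≤ 4) (A : Cfsg.SU 2 F q) :
    emb (ivf j 3 hj) (ivf_injective _ _ _) (p12 A) =
      emb (ivf (j + 1) 2 (by omega : j + 1 + 2 ≤ 4)) (ivf_injective _ _ _) A := by
  rw [p12, emb_comp]
  congr 1

variable (hF : Fintype.card F = q ^ 2)
include hF

theorem step {U V : ℕ → Subgroup G} {i : ℕ} (hq : q = 2 ∨ q = 3) (a : WinHom U V F q i)
    (b : WinHom U V F q (i + 1)) : ∃ b' : WinHom U V F q (i + 1), ∀ B : Cfsg.SU 3 F q,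
      a.hom (emb (ivf 1 3 (by norm_num)) (ivf_injective _ _ _) B) =
        b'.hom (emb (ivf 0 3 (by norm_num)) (ivf_injective _ _ _) B) := by
  let α : Cfsg.SU 3 F q →* G := a.hom.comp (emb (ivf 1 3 (by norm_num : 1 + 3 ≤ 4)) (ivf_injective _ _ _))
  let β : Cfsg.SU 3 F q →* G := b.hom.comp (emb (ivf 0 3 (by norm_num : 0 + 3 ≤ 4)) (ivf_injective _ _ _))
  have hα : Function.Injective α := fun x y => a.inj 1 _ x y
  have hβ : Function.Injective β := fun x y => b.inj 0 _ x y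
  have rα : α.range = V (i + 1) := by
    rw [← a.mapV 1 le_rfl, MonoidHom.range_comp, range_emb hF, range_ivf]
  have rβ : β.range = V (i + 1) := by
    rw [show V (i + 1) = V (i + 1 + 0) from rfl, ← b.mapV 0 (by norm_num), MonoidHom.range_comp, range_emb hF,
      range_ivf]
  let δ : Cfsg.SU 3 F q →* Cfsg.SU 3 F q :=
    (MonoidHom.ofInjective hα).symm.toMonoidHom.comp
      ((MulEquiv.subgroupCongr (rβ.trans rα.symm)).toMonoidHom.comp β.rangeRestrict)
  have hδ : ∀ x, α (δ x) = β x := fun x => by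
    have := (MonoidHom.ofInjective hα).apply_symm_apply
      ((MulEquiv.subgroupCongr (rβ.trans rα.symm)) (β.rangeRestrict x))
    exact congrArg Subtype.val this
  have hinj : Function.Injective δ := fun x y e => hβ (by rw [← hδ, ← hδ, e])
  have pres : ∀ (p : Cfsg.SU 2 F q →* Cfsg.SU 3 F q) (j : ℕ), j ≤ 1 →
      (∀ A, emb (ivf 1 3 (by norm_num : 1 + 3 ≤ 4)) (ivf_injective _ _ _) (p A) ∈ supp (iv (1 + j) 2 : Set (Fin 4))) →
      (∀ A, emb (ivf 0 3 (by norm_num : 0 + 3 ≤ 4)) (ivf_injective _ _ _) (p A) ∈ supp (iv j 2 : Set (Fin 4))) →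
      (∀ X ∈ supp (F := F) (q := q) (iv (1 + j) 2 : Set (Fin 4)), ∃ A,
        emb (ivf 1 3 (by norm_num : 1 + 3 ≤ 4)) (ivf_injective _ _ _) (p A) = X) →
      ∀ A, ∃ B, δ (p A) = p B := by
    intro p j hj h1 h0 hsur A
    have hx : β (p A) ∈ U (i + 1 + j) := by
      rw [← b.mapU j (by omega)]; exact ⟨_, h0 A, rfl⟩
    rw [show i + 1 + j = i + (1 + j) by omega, ← a.mapU (1 + j) (by omega)] at hx
    obtain ⟨X, hX, e⟩ := hx
    obtain ⟨B, rfl⟩ := hsur X hX
    exact ⟨B, hα ((hδ _).trans e.symm)⟩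
  have mem : ∀ (l : ℕ) (hl : l + 2 ≤ 4) (A : Cfsg.SU 2 F q),
      emb (ivf l 2 hl) (ivf_injective _ _ _) A ∈ supp (iv l 2 : Set (Fin 4)) := fun l hl A => by
    rw [← range_ivf l 2 hl]; exact emb_mem_supp _ A
  have sur : ∀ (l : ℕ) (hl : l + 2 ≤ 4), ∀ X ∈ supp (F := F) (q := q) (iv l 2 : Set (Fin 4)),
      ∃ A, emb (ivf l 2 hl) (ivf_injective _ _ _) A = X := fun l hl X hX => by
    rw [← range_ivf l 2 hl] at hX; exact exists_emb_of_mem hF _ hX
  have h01 := pres p01 0 (by norm_num) (fun A => by rw [emb_p01]; exact mem 1 (by norm_num) A)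
    (fun A => by rw [emb_p01]; exact mem 0 (by norm_num) A) (fun X hX => by
      obtain ⟨A, hA⟩ := sur 1 (by norm_num) X hX
      exact ⟨A, by rw [emb_p01]; exact hA⟩)
  have h12 := pres p12 1 le_rfl (fun A => by rw [emb_p12]; exact mem 2 (by norm_num) A)
    (fun A => by rw [emb_p12]; exact mem 1 (by norm_num) A) (fun X hX => by
      obtain ⟨A, hA⟩ := sur 2 (by norm_num) X hX
      exact ⟨A, by rw [emb_p12]; exact hA⟩)
  obtain ⟨d, hd, ε, hΦ⟩ := rigid hF hq δ hinj h01 h12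
  let d4 : Fin 4 → F := ![d 0, d 1, d 2, 1]
  have hd4 : ∀ t, d4 t * d4 t ^ q = 1 := fun t => by fin_cases t <;> simp [d4, hd]
  refine ⟨⟨b.hom.comp (twist hF d4 hd4 ε), fun j hj => ?_, fun j hj => ?_, fun j hj x y e => ?_⟩, fun B => ?_⟩
  · rw [← Subgroup.map_map, twist_map_supp, b.mapU j hj]
  · rw [← Subgroup.map_map, twist_map_supp, b.mapV j hj]
  · simp only [MonoidHom.coe_comp, Function.comp_apply, twist_emb] at e
    exact twist_injective hF _ _ _ (b.inj j hj _ _ e)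
  · show a.hom _ = b.hom (twist hF d4 hd4 ε (emb _ _ B))
    rw [twist_emb]
    have e : (fun t => d4 (ivf 0 3 (by norm_num : 0 + 3 ≤ 4) t)) = d := by
      funext t; fin_cases t <;> rfl
    have e1 : twist hF (fun t => d4 (ivf 0 3 (by norm_num : 0 + 3 ≤ 4) t)) (fun _ => hd4 _) ε B = twist hF d hd ε B := by
      congr 1
      congr 2
    rw [e1]
    have := hδ (twist hF d hd ε B)
    rw [hΦ] at this
    exact this

/-- Existence of a surjection from the chained windows. -/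
theorem exists_surjection (hq : q = 2 ∨ q = 3) (hm : 4 ≤ m) (U V : ℕ → Subgroup G)
    (hW : ∀ i, i + 4 ≤ m → Nonempty (WinHom U V F q i))
    (hUV : ∀ a c, a + 2 ≤ m → c + 3 ≤ m → (a + 2 ≤ c ∨ c + 3 ≤ a) → ∀ x ∈ U a, ∀ y ∈ V c, x * y = y * x)
    (hVV : ∀ a c, c + 3 ≤ m → a + 3 ≤ c → ∀ x ∈ V a, ∀ y ∈ V c, x * y = y * x)
    (hgen : (⨆ (a : ℕ) (_ : a + 2 ≤ m), U a) ⊔ (⨆ (c : ℕ) (_ : c + 3 ≤ m), V c) = ⊤) :
    ∃ f : Cfsg.SU m F q →* G, Function.Surjective f := by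
  classical
  let base : ∀ i, i + 4 ≤ m → WinHom U V F q i := fun i hi => Classical.choice (hW i hi)
  let H : ∀ i, i + 4 ≤ m → WinHom U V F q i := fun i =>
    Nat.rec (motive := fun i => i + 4 ≤ m → WinHom U V F q i) (fun hi => base 0 hi)
      (fun i prev hi => (step hF hq (prev (by omega)) (base (i + 1) hi)).choose) i
  let D : Windows m F q G :=
    { h := fun i hi => (H i hi).hom
      U := U
      V := V
      mapU := fun i hi j hj B hB => by rw [← (H i hi).mapU j hj]; exact ⟨B, hB, rfl⟩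
      mapV := fun i hi j hj B hB => by rw [← (H i hi).mapV j hj]; exact ⟨B, hB, rfl⟩
      agree := fun i hi hi' B => (step hF hq (H i (by omega)) (base (i + 1) hi')).choose_spec B
      commUV := hUV
      commVV := hVV }
  obtain ⟨f, hf⟩ := D.exists_hom hF hm
  refine ⟨f, MonoidHom.range_eq_top.1 (eq_top_iff.2 (hgen ▸ sup_le ?_ ?_))⟩
  · refine iSup_le fun a => iSup_le fun ha => ?_
    obtain ⟨i, j, rfl, hi, hj⟩ : ∃ i j, a = i + j ∧ i + 4 ≤ m ∧ j ≤ 2 :=
      ⟨min a (m - 4), a - min a (m - 4), by omega, by omega, by omega⟩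
    rw [← (H i hi).mapU j hj]
    rintro _ ⟨B, -, rfl⟩
    exact ⟨win i hi B, hf i hi B⟩
  · refine iSup_le fun c => iSup_le fun hc => ?_
    obtain ⟨i, j, rfl, hi, hj⟩ : ∃ i j, c = i + j ∧ i + 4 ≤ m ∧ j ≤ 1 :=
      ⟨min c (m - 4), c - min c (m - 4), by omega, by omega, by omega⟩
    rw [← (H i hi).mapV j hj]
    rintro _ ⟨B, -, rfl⟩
    exact ⟨win i hi B, hf i hi B⟩

end Cfsg.Agent.Lib.PhanWeak91
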