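import Cfsg.Agent.Lib.PhanWeak91.Window

/-!
Homomorphisms from `SU 3` to `SU 4` for `q = 2`.
-/

set_option autoImplicit false
set_option linter.unusedSectionVars false

namespace Cfsg.Agent.Lib.PhanWeak91

open Matrix Cfsg.Agent.Lib.Forms

variable {F : Type*} [Field F] [Fintype F] {m : ℕ}

/-- The fixed subspace of an element at a scalar. -/
noncomputable def eigSp (A : Cfsg.SU m F 2) (γ : F) : Submodule F (Fin m → F) :=
  LinearMap.ker (Matrix.mulVecLin (mat A) - γ • LinearMap.id)

theorem mem_eigSp {A : Cfsg.SU m F 2} {γ : F} {x : Fin m → F} : x ∈ eigSp A γ ↔ app A x = γ • x := by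
  simp [eigSp, LinearMap.mem_ker, sub_eq_zero, app]

/-- The projection to an eigenspace of an element of order three. -/
def prj (A : Cfsg.SU m F 2) (γ : F) (x : Fin m → F) : Fin m → F :=
  x + (γ * γ) • app A x + γ • app A (app A x)

theorem prj_mem {A : Cfsg.SU m F 2} (hA : ∀ x, app A (app A (app A x)) = x) {γ : F} (hγ : γ * γ * γ = 1)
    (x : Fin m → F) : prj A γ x ∈ eigSp A γ := by
  rw [mem_eigSp, prj, app_add, app_add, app_smul, app_smul, hA]
  funext i
  simp only [Pi.add_apply, Pi.smul_apply, smul_eq_mul]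
  linear_combination (-(app A x i)) * hγ

theorem prj_comm {A B : Cfsg.SU m F 2} (h : A * B = B * A) (γ : F) (x : Fin m → F) :
    app B (prj A γ x) = prj A γ (app B x) := by
  have e : ∀ y, app B (app A y) = app A (app B y) := fun y => by rw [← app_mul, ← app_mul, h]
  simp only [prj, app_add, app_smul, e]

/-- Conjugation carries eigenspaces to eigenspaces. -/
theorem finrank_eig_conj {A B C : Cfsg.SU m F 2} (h : C * A = B * C) (γ : F) :
    Module.finrank F (eigSp A γ) = Module.finrank F (eigSp B γ) := by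
  let e : (Fin m → F) ≃ₗ[F] (Fin m → F) :=
    { toFun := app C, map_add' := app_add C, map_smul' := fun c x => app_smul C c x,
      invFun := app C⁻¹, left_inv := app_inv_app C, right_inv := app_app_inv C }
  have : (eigSp A γ).map e.toLinearMap = eigSp B γ := by
    ext y
    constructor
    · rintro ⟨x, hx, rfl⟩
      rw [mem_eigSp]
      show app B (app C x) = γ • app C x
      rw [← app_mul, ← h, app_mul, mem_eigSp.1 hx, app_smul]
    · intro hy
      refine ⟨app C⁻¹ y, mem_eigSp.2 ?_, app_app_inv C y⟩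
      apply app_inj (A := C)
      rw [← app_mul, h, app_mul, app_app_inv, mem_eigSp.1 hy, app_smul, app_app_inv]
  rw [← this]
  exact (e.finrank_map_eq _).symm

variable (hF : Fintype.card F = 2 ^ 2)
include hF

theorem lam_root {l : F} (hl : l * l ^ 2 = 1) (hl1 : l ≠ 1) : l * l + l + 1 = 0 := by
  apply mul_left_cancel₀ (sub_ne_zero.2 hl1)
  linear_combination hl

theorem prj_sum {l : F} (hl : l * l ^ 2 = 1) (hl1 : l ≠ 1) (A : Cfsg.SU m F 2) (x : Fin m → F) :
    prj A 1 x + prj A l x + prj A (l * l) x = x := by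
  have h2 := two_eq_zero hF rfl
  have hr := lam_root hF hl hl1
  funext i
  simp only [prj, Pi.add_apply, Pi.smul_apply, smul_eq_mul]
  linear_combination (x i) * h2 + (app A x i + app A (app A x) i) * hr + (l * app A x i) * hl

theorem cube_cases {l : F} (hl : l * l ^ 2 = 1) (hl1 : l ≠ 1) {γ : F} (hγ : γ * γ * γ = 1) :
    γ = 1 ∨ γ = l ∨ γ = l * l := by
  have hr := lam_root hF hl hl1
  rcases mul_eq_zero.1 (show (γ - 1) * ((γ - l) * (γ - l * l)) = 0 by
    linear_combination hγ - hl + (γ * l - γ * γ) * hr) with h | h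
  · exact Or.inl (sub_eq_zero.1 h)
  · rcases mul_eq_zero.1 h with h | h
    · exact Or.inr (Or.inl (sub_eq_zero.1 h))
    · exact Or.inr (Or.inr (sub_eq_zero.1 h))

theorem exists_prj_ne {l : F} (hl : l * l ^ 2 = 1) (hl1 : l ≠ 1) (A : Cfsg.SU m F 2) {x : Fin m → F}
    (hx : x ≠ 0) : ∃ γ : F, γ * γ * γ = 1 ∧ prj A γ x ≠ 0 := by
  by_contra hne
  push Not at hne
  apply hx
  rw [← prj_sum hF hl hl1 A x, hne 1 (by ring), hne l (by linear_combination hl),
    hne (l * l) (by linear_combination (l * l * l + 1) * hl)]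
  simp

/-- The relations in `SU 3` used below. -/
theorem exists_su3_data : ∃ (n1 C S s g g1 g2 : Cfsg.SU 3 F 2) (l : F), l * l ^ 2 = 1 ∧ l ≠ 1 ∧
    n1 * n1 * n1 = 1 ∧ C * C * C = 1 ∧ S * S * S = 1 ∧ (∀ A, S * A = A * S) ∧ S ≠ 1 ∧
    n1 * C = S * S * (C * n1) ∧ g * n1 = S * C * g ∧ g1 * n1 = S * S * (n1 * C) * g1 ∧
    g2 * n1 = n1 * n1 * C * g2 ∧ s * n1 = n1 * n1 * s ∧ n1 ∉ Subgroup.center (Cfsg.SU 3 F 2) := by
  obtain ⟨l, hl, hl2, -, -⟩ := exists_lam hF (Or.inl rfl)
  have hl1 : l ≠ 1 := by rintro rfl; exact hl2 (one_mul _)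
  have h2 := two_eq_zero hF rfl
  have hr := lam_root hF hl hl1
  have neg1 : ∀ a : F, -a = a := fun a => by linear_combination (-a) * h2
  let g : Cfsg.SU 3 F 2 := suMk hF !![1, 1, 1; 1, l, l ^ 2; 1, l ^ 2, l]
    (by
      rw [Matrix.det_fin_three]
      simp
      linear_combination (-(l * l) + l + 3) * hr - (3 * l + 2) * h2)
    (fun x y => by
      have e : ∀ u v : F, (u + v) ^ 2 = u ^ 2 + v ^ 2 := fun u v => by linear_combination (u * v) * h2
      simp [Cfsg.hermForm, Fin.sum_univ_three, Matrix.mulVec, dotProduct, e, mul_pow]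
      ring_nf
      grind)
  have happ : ∀ x : Fin 3 → F, app g x =
      ![x 0 + x 1 + x 2, x 0 + l * x 1 + l ^ 2 * x 2, x 0 + l ^ 2 * x 1 + l * x 2] := by
    intro x
    funext i
    show (!![1, 1, 1; 1, l, l ^ 2; 1, l ^ 2, l] *ᵥ x) i = _
    fin_cases i <;> simp [Matrix.mulVec, dotProduct, Fin.sum_univ_three]
  have hs : (0 : F) * 0 ^ 2 + 1 * 1 ^ 2 = 1 := by simp
  have ht : l * l ^ 2 + (0 : F) * 0 ^ 2 = 1 := by simpa using hl
  have ht' : l ^ 2 * (l ^ 2) ^ 2 + (0 : F) * 0 ^ 2 = 1 := by linear_combination (l * l ^ 2 + 1) * hl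
  let C := p12 (el2 hF (0 : F) 1 hs) * p01 (el2 hF (0 : F) 1 hs)
  let n1 := p01 (el2 hF l 0 ht)
  let S := p01 (el2 hF l 0 ht) * p12 (el2 hF (l ^ 2) 0 ht')
  let s := p01 (el2 hF (0 : F) 1 hs)
  have hC : ∀ x, app C x = ![x 1, x 2, x 0] := fun x => by
    rw [app_mul, app_p12, app_p01]; funext i; fin_cases i <;> simp [app_el2, neg1]
  have hn1 : ∀ x, app n1 x = ![l * x 0, l ^ 2 * x 1, x 2] := fun x => by
    rw [app_p01]; funext i; fin_cases i <;> simp [app_el2]
  have hsw : ∀ x, app s x = ![x 1, x 0, x 2] := fun x => by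
    rw [app_p01]; funext i; fin_cases i <;> simp [app_el2, neg1]
  have hS : ∀ x, app S x = l • x := fun x => by
    rw [app_mul, app_p12, app_p01]; funext i
    fin_cases i <;> simp [app_el2] <;> grind
  let d1 : Fin 3 → F := ![l, 1, 1]
  let d2 : Fin 3 → F := ![l ^ 2, 1, 1]
  have hd1 : ∀ i, d1 i * d1 i ^ 2 = 1 := fun i => by fin_cases i <;> simp [d1, hl]
  have hd2 : ∀ i, d2 i * d2 i ^ 2 = 1 := fun i => by
    fin_cases i <;> simp [d2]
    linear_combination (l * l ^ 2 + 1) * hl
  have hl4 : l ^ 4 = l := by linear_combination l * hl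
  refine ⟨n1, C, S, s, g, dconj d2 hd2 g, dconj d1 hd1 g, l, hl, hl1, ?_, ?_, ?_, ?_, ?_, ?_, ?_, ?_, ?_, ?_, ?_⟩
  · refine ext_app fun x => funext fun i => ?_
    rw [app_mul, app_mul, app_one, hn1, hn1, hn1]
    fin_cases i <;> simp <;> grind
  · refine ext_app fun x => funext fun i => ?_
    simp only [app_mul (C * C), app_mul C C, hC, app_one]
    fin_cases i <;> simp
  · refine ext_app fun x => funext fun i => ?_
    simp only [app_mul (S * S), app_mul S S, app_one, hS, smul_smul, Pi.smul_apply, smul_eq_mul]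
    linear_combination (x i) * hl
  · exact fun A => scalar_commute hF hS
  · intro e
    apply hl1
    have := congrArg (fun X => app X (ev 0 : Fin 3 → F) 0) e
    simpa [hS, app_one, ev] using this
  · refine ext_app fun x => funext fun i => ?_
    simp only [app_mul n1, app_mul (S * S), app_mul S S, app_mul C n1, hn1, hC, hS]
    fin_cases i <;> simp <;> grind
  · refine ext_app fun x => funext fun i => ?_
    simp only [app_mul g, app_mul (S * C), app_mul S C, happ, hn1, hC, hS]
    fin_cases i <;> simp <;> grind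
  · refine ext_app fun x => funext fun i => ?_
    simp only [app_mul (dconj d2 hd2 g), app_mul (S * S * (n1 * C)), app_mul (S * S), app_mul S S, app_mul n1 C,
      app_dconj, happ, hn1, hC, hS]
    fin_cases i <;> simp [d2, app_dconj, happ] <;> grind
  · refine ext_app fun x => funext fun i => ?_
    simp only [app_mul (dconj d1 hd1 g), app_mul (n1 * n1 * C), app_mul (n1 * n1), app_mul n1 n1,
      app_dconj, happ, hn1, hC]
    fin_cases i <;> simp [d1, app_dconj, happ] <;> grind
  · refine ext_app fun x => funext fun i => ?_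
    simp only [app_mul s n1, app_mul (n1 * n1), app_mul n1 n1, hn1, hsw]
    fin_cases i <;> simp <;> grind
  · intro h
    have := congrArg (fun X => app X (ev 0 : Fin 3 → F) 1) (Subgroup.mem_center_iff.1 h s)
    simp [app_mul, hn1, hsw, ev] at this
    exact hl1 (by linear_combination -(l * l) * this + (1 - l) * hl)

/-- Homomorphisms killing the centre are trivial on the torus. -/
theorem no_psu_embedding (φ : Cfsg.SU 3 F 2 →* Cfsg.SU 4 F 2) (hker : φ.ker = Subgroup.center _) : False := by
  obtain ⟨n1, C, S, s, g, g1, g2, l, hl, hl1, n13, C3, -, hSc, -, hrel, c1, c2, c3, c4, hnc⟩ := exists_su3_data hF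
  have hS : φ S = 1 := by
    rw [← MonoidHom.mem_ker, hker, Subgroup.mem_center_iff]
    exact fun A => (hSc A).symm
  set T := φ n1 with hTdef
  set D := φ C with hDdef
  have hTD : T * D = D * T := by rw [hTdef, hDdef, ← map_mul, hrel, map_mul, map_mul, hS, one_mul, one_mul, map_mul]
  have hT3 : ∀ x, app T (app T (app T x)) = x := fun x => by
    rw [← app_mul, ← app_mul, hTdef, ← map_mul, ← map_mul, n13, map_one, app_one]
  have hD3 : ∀ x, app D (app D (app D x)) = x := fun x => by
    rw [← app_mul, ← app_mul, hDdef, ← map_mul, ← map_mul, C3, map_one, app_one]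
  have hT1 : T ≠ 1 := fun e => hnc (hker ▸ MonoidHom.mem_ker.2 e)
  have hl0 : l ≠ 0 := by rintro rfl; simp at hl
  have hl' : l * l * l = 1 := by linear_combination hl
  have hll : l * l ≠ 1 := fun e => hl1 (by linear_combination hl' - l * e)
  have conj1 : φ g * T = D * φ g := by rw [hTdef, hDdef, ← map_mul, c1, map_mul, map_mul, hS, one_mul]
  have conj2 : φ g1 * T = T * D * φ g1 := by
    rw [hTdef, hDdef, ← map_mul, c2, map_mul, map_mul, map_mul, map_mul, hS, one_mul, one_mul]
  have conj3 : φ g2 * T = T * T * D * φ g2 := by rw [hTdef, hDdef, ← map_mul, c3, map_mul, map_mul, map_mul]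
  have conj4 : φ s * T = T * T * φ s := by rw [hTdef, ← map_mul, c4, map_mul, map_mul]
  -- the three companions, indexed by the scalar they have on the `l`-eigenspace
  have comp : ∀ γ : F, γ * γ * γ = 1 → ∃ B, B * T = T * B ∧
      Module.finrank F (eigSp B 1) = Module.finrank F (eigSp T 1) ∧
      (∀ x c, app T x = l • x → app D x = c • x → app B x = (γ * c) • x) ∧
      (∀ x c, app T x = (l * l) • x → app D x = c • x → app B x = (γ * γ * c) • x) ∧
      (∀ x, app T x = x → app B x = app D x) := by
    intro γ hγ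
    rcases cube_cases hF hl hl1 hγ with h | h | h
    · subst h
      refine ⟨D, hTD.symm, (finrank_eig_conj conj1 1).symm, fun x c _ hc => by rw [hc, one_mul],
        fun x c _ hc => by rw [hc, one_mul, one_mul], fun x _ => rfl⟩
    · rw [h]
      refine ⟨T * D, by rw [mul_assoc, ← hTD],
        (finrank_eig_conj conj2 1).symm, fun x c hx hc => ?_, fun x c hx hc => ?_, fun x hx => ?_⟩
      · rw [app_mul, hc, app_smul, hx, smul_smul, mul_comm]
      · rw [app_mul, hc, app_smul, hx, smul_smul, mul_comm]
      · rw [app_mul, ← app_mul T D, hTD, app_mul, hx]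
    · rw [h]
      refine ⟨T * T * D, by rw [show T * T * D * T = T * T * (D * T) by group, ← hTD]; group,
        (finrank_eig_conj conj3 1).symm, fun x c hx hc => ?_, fun x c hx hc => ?_, fun x hx => ?_⟩
      · simp only [app_mul, hc, app_smul, hx, smul_smul]
        congr 1; ring
      · simp only [app_mul, hc, app_smul, hx, smul_smul]
        congr 1; ring
      · have e : app T (app D x) = app D x := by rw [← app_mul, hTD, app_mul, hx]
        rw [app_mul, app_mul, e, e]
  set E1 := eigSp T 1 with hE1
  set Ea := eigSp T l with hEa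
  set Eb := eigSp T (l * l) with hEb
  have hne : ∀ {a b : F}, a ≠ b → Disjoint (eigSp T a) (eigSp T b) := fun {a b} hab => by
    rw [Submodule.disjoint_def]
    intro x h1 h2
    rw [mem_eigSp] at h1 h2
    have : (a - b) • x = 0 := by rw [sub_smul, ← h1, ← h2, sub_self]
    exact (smul_eq_zero.1 this).resolve_left (sub_ne_zero.2 hab)
  have hsup : E1 ⊔ Ea ⊔ Eb = ⊤ := eq_top_iff.2 fun x _ => by
    rw [← prj_sum hF hl hl1 T x]
    exact add_mem (add_mem (Submodule.mem_sup_left (Submodule.mem_sup_left (prj_mem hT3 (by ring) x)))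
      (Submodule.mem_sup_left (Submodule.mem_sup_right (prj_mem hT3 hl' x))))
      (Submodule.mem_sup_right (prj_mem hT3 (by linear_combination (l * l * l + 1) * hl') x))
  have hab : Module.finrank F Ea = Module.finrank F Eb := by
    rw [hEa, finrank_eig_conj conj4]
    suffices e : eigSp (T * T) l = Eb by rw [e]
    refine Submodule.ext fun x => ?_
    rw [hEb, mem_eigSp, mem_eigSp, app_mul]
    constructor
    · intro h
      have := congrArg (app T) h
      rw [hT3, app_smul] at this
      calc app T x = (l * l) • (l • app T x) := by rw [smul_smul, hl', one_smul]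
        _ = (l * l) • x := by rw [← this]
    · intro h
      rw [h, app_smul, h, smul_smul]
      congr 1; linear_combination l * hl'
  have hdim : Module.finrank F E1 + Module.finrank F Ea + Module.finrank F Eb ≥ 4 := by
    have h1 := Submodule.finrank_add_le_finrank_add_finrank (E1 ⊔ Ea) Eb
    have h2 := Submodule.finrank_add_le_finrank_add_finrank E1 Ea
    rw [hsup] at h1
    rw [finrank_top, Module.finrank_fintype_fun_eq_card, Fintype.card_fin] at h1
    omega
  have hdis2 : Disjoint (E1 ⊔ Ea) Eb := by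
    rw [Submodule.disjoint_def]
    intro x hx hxb
    obtain ⟨u, hu, v, hv, rfl⟩ := Submodule.mem_sup.1 hx
    rw [hE1, mem_eigSp] at hu
    rw [hEa, mem_eigSp] at hv
    rw [hEb, mem_eigSp, app_add, hu, hv] at hxb
    have h1 := congrArg (app T) hxb
    simp only [app_add, app_smul, hu, hv, smul_smul] at h1
    funext i
    have e0 := congrFun hxb i
    have e1 := congrFun h1 i
    simp at e0 e1
    have hh : (1 - l * l) * u i + (l - l * l) * v i = 0 := by linear_combination e0
    have hh1 : (1 - l * l) * u i + l * (l - l * l) * v i = 0 := by linear_combination e1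
    have hv0 : v i = 0 := by
      have : (l - 1) * (l - l * l) * v i = 0 := by linear_combination hh1 - hh
      rcases mul_eq_zero.1 this with h | h
      · rcases mul_eq_zero.1 h with h | h
        · exact absurd (sub_eq_zero.1 h) hl1
        · exact absurd (mul_left_cancel₀ hl0 (show l * 1 = l * l by linear_combination h)) hl1.symm
      · exact h
    have hu0 : u i = 0 := by
      rw [hv0] at hh
      exact mul_left_cancel₀ (sub_ne_zero.2 hll.symm) (by linear_combination hh)
    simp [hu0, hv0]
  have hdim' : Module.finrank F E1 + Module.finrank F Ea + Module.finrank F Eb = 4 := by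
    rw [← Submodule.finrank_sup_add_finrank_inf_eq E1 Ea, (hne hl1.symm).eq_bot, finrank_bot, add_zero,
      ← Submodule.finrank_sup_add_finrank_inf_eq (E1 ⊔ Ea) Eb, hdis2.eq_bot, finrank_bot, add_zero, hsup,
      finrank_top, Module.finrank_fintype_fun_eq_card, Fintype.card_fin]
  have hE14 : Module.finrank F E1 ≠ 4 := fun e => hT1 (ext_app fun x => by
    have : x ∈ E1 := by
      rw [Submodule.eq_top_of_finrank_eq (e.trans (by simp))]; trivial
    rw [hE1, mem_eigSp, one_smul] at this
    rw [this, app_one])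
  have hEa0 : Ea ≠ ⊥ := fun e => by
    rw [e, finrank_bot] at hab hdim'
    omega
  -- a joint eigenvector in an eigenspace
  have joint : ∀ γ : F, eigSp T γ ≠ ⊥ → ∃ (x : Fin 4 → F) (c : F), x ≠ 0 ∧ c * c * c = 1 ∧ app T x = γ • x ∧ app D x = c • x := by
    intro γ h
    obtain ⟨x, hx, hx0⟩ := Submodule.exists_mem_ne_zero_of_ne_bot h
    rw [mem_eigSp] at hx
    obtain ⟨c, hc, hne⟩ := exists_prj_ne hF hl hl1 D hx0
    exact ⟨prj D c x, c, hne, hc, by rw [prj_comm hTD.symm, hx]; simp only [prj, app_smul, smul_add, smul_comm γ],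
      mem_eigSp.1 (prj_mem hD3 hc x)⟩
  obtain ⟨x, c, hx0, hc, hxT, hxD⟩ := joint l hEa0
  obtain ⟨B, hBT, hBf, hBa, hBb, hB1⟩ := comp (c * c) (by linear_combination (c * c * c + 1) * hc)
  have hBx : app B x = x := by rw [hBa x c hxT hxD, hc, one_smul]
  have hxB : x ∈ eigSp B 1 := mem_eigSp.2 (by rw [hBx, one_smul])
  have hf : Module.finrank F E1 = 2 := by
    have h0 : Module.finrank F E1 ≠ 0 := fun e => by
      have : eigSp B 1 = ⊥ := Submodule.finrank_eq_zero.1 (hBf.trans e)
      exact hx0 ((Submodule.mem_bot F).1 (this ▸ hxB))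
    omega
  have ha1 : Module.finrank F Ea = 1 := by omega
  have hb1 : Module.finrank F Eb = 1 := by omega
  obtain ⟨y, d, hy0, hd, hyT, hyD⟩ := joint (l * l) (fun e => by
    rw [hEb, e, finrank_bot] at hb1; omega)
  obtain ⟨γ, hγ, hγc, hγd⟩ : ∃ γ : F, γ * γ * γ = 1 ∧ γ * c ≠ 1 ∧ γ * γ * d ≠ 1 := by
    by_contra hne'
    push Not at hne'
    have a1 := hne' 1 (by ring)
    have a2 := hne' l hl'
    have a3 := hne' (l * l) (by linear_combination (l * l * l + 1) * hl')
    have hl3 : l ≠ l * l := fun e => hl1 (mul_left_cancel₀ hl0 (show l * l = l * 1 by linear_combination -e))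
    rcases cube_cases hF hl hl1 hc with h | h | h
    · subst h
      have b2 := a2 (by rw [mul_one]; exact hl1)
      have b3 := a3 (by rw [mul_one]; exact hll)
      exact hll (by linear_combination b3 - (l * l) * b2)
    · rw [h] at a1 a2 a3
      have b1 := a1 (by rw [one_mul]; exact hl1)
      have b2 := a2 hll
      exact hll (by linear_combination b2 - (l * l) * b1)
    · rw [h] at a1 a2 a3
      have b1 := a1 (by rw [one_mul]; exact hll)
      have b3 := a3 (by intro e; exact hl1 (by linear_combination e - l * hl'))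
      exact hl1 (by linear_combination b3 - (l * l * l * l) * b1 - l * hl')
  obtain ⟨B3, hB3T, hB3f, hB3a, hB3b, hB31⟩ := comp γ hγ
  have span1 : ∀ {E : Submodule F (Fin 4 → F)} {v : Fin 4 → F}, Module.finrank F E = 1 → v ∈ E → v ≠ 0 →
      ∀ w ∈ E, ∃ t : F, w = t • v := by
    intro E v hE hv hv0 w hw
    have : (F ∙ v : Submodule F (Fin 4 → F)) = E :=
      Submodule.eq_of_le_of_finrank_le ((Submodule.span_singleton_le_iff_mem _ _).2 hv)
        (by rw [hE, finrank_span_singleton hv0])
    obtain ⟨t, ht⟩ := Submodule.mem_span_singleton.1 (this ▸ hw)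
    exact ⟨t, ht.symm⟩
  have hfix : eigSp B3 1 = E1 := by
    refine Submodule.eq_of_le_of_finrank_le ?_ (hB3f.ge)
    intro v hv
    rw [mem_eigSp, one_smul] at hv
    have pf : ∀ γ', app B3 (prj T γ' v) = prj T γ' v := fun γ' => by rw [prj_comm hB3T.symm, hv]
    obtain ⟨t, ht⟩ := span1 ha1 (mem_eigSp.2 hxT) hx0 _ (prj_mem hT3 hl' v)
    obtain ⟨u, hu⟩ := span1 hb1 (mem_eigSp.2 hyT) hy0 _ (prj_mem hT3 (γ := l * l) (by linear_combination (l * l * l + 1) * hl') v)
    have kill : ∀ {r a : F} {w : Fin 4 → F}, w ≠ 0 → a ≠ 1 → a • r • w = r • w → r • w = 0 := by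
      intro r a w _ ha e
      have : (a - 1) • (r • w) = 0 := by rw [sub_smul, one_smul, e, sub_self]
      exact (smul_eq_zero.1 this).resolve_left (sub_ne_zero.2 ha)
    have t0 : t • x = 0 := kill hx0 hγc (by
      have := pf l
      rw [ht, app_smul, hB3a x c hxT hxD] at this
      rw [smul_comm]; exact this)
    have u0 : u • y = 0 := kill hy0 hγd (by
      have := pf (l * l)
      rw [hu, app_smul, hB3b y d hyT hyD] at this
      rw [smul_comm]; exact this)
    have e := prj_sum hF hl hl1 T v
    rw [ht, hu, t0, u0, add_zero, add_zero] at e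
    rw [← e]
    exact prj_mem hT3 (by ring) v
  have hD1 : ∀ v ∈ E1, app D v = v := by
    intro v hv
    have hvT : app T v = v := by rw [hE1, mem_eigSp, one_smul] at hv; exact hv
    rw [← hB31 v hvT]
    have := mem_eigSp.1 (hfix.ge hv)
    rwa [one_smul] at this
  have hle : E1 = eigSp B 1 := Submodule.eq_of_le_of_finrank_le (fun v hv => by
    have hvT : app T v = v := by rw [hE1, mem_eigSp, one_smul] at hv; exact hv
    rw [mem_eigSp, one_smul, hB1 v hvT, hD1 v hv]) hBf.le
  have : x ∈ E1 := hle.ge hxB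
  exact hx0 (Submodule.disjoint_def.1 (hne hl1.symm) x this (mem_eigSp.2 hxT))

/-- Embeddings of `SU 3` in `SU 4` fix a non-singular point. -/
theorem embedding_range (φ : Cfsg.SU 3 F 2 →* Cfsg.SU 4 F 2) (hinj : Function.Injective φ) :
    ∃ (P : Matrix.GeneralLinearGroup (Fin 4) F) (hP : IsIsom 2 P), φ.range = blk P hP (iv 0 3) := by
  classical
  obtain ⟨n1, C, S, s, g, g1, g2, l, hl, hl1, n13, C3, S3, hSc, hS1, hrel, -, -, -, -, -⟩ := exists_su3_data hF
  have h2 := two_eq_zero hF rfl
  have hl' : l * l * l = 1 := by linear_combination hl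
  set z := φ S with hzdef
  set T := φ n1 with hTdef
  set D := φ C with hDdef
  have hz3 : ∀ x, app z (app z (app z x)) = x := fun x => by
    rw [← app_mul, ← app_mul, hzdef, ← map_mul, ← map_mul, S3, map_one, app_one]
  have hT3 : ∀ x, app T (app T (app T x)) = x := fun x => by
    rw [← app_mul, ← app_mul, hTdef, ← map_mul, ← map_mul, n13, map_one, app_one]
  have hzc : ∀ A, z * φ A = φ A * z := fun A => by rw [hzdef, ← map_mul, hSc, map_mul]
  have hTD : T * D = z * z * (D * T) := by rw [hTdef, hDdef, hzdef, ← map_mul, hrel, map_mul, map_mul, map_mul]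
  have big : ∀ γ : F, γ * γ * γ = 1 → γ ≠ 1 → eigSp z γ ≠ ⊥ → 3 ≤ Module.finrank F (eigSp z γ) := by
    intro γ hγ hγ1 hne
    obtain ⟨x, hx, hx0⟩ := Submodule.exists_mem_ne_zero_of_ne_bot hne
    rw [mem_eigSp] at hx
    obtain ⟨α, hα, hα0⟩ := exists_prj_ne hF hl hl1 T hx0
    set v := prj T α x with hv
    have hvz : app z v = γ • v := by
      rw [hv, hTdef, prj_comm (hzc n1).symm, hx]; simp only [prj, app_smul, smul_add, smul_comm γ]
    have hvT : app T v = α • v := mem_eigSp.1 (prj_mem hT3 hα x)
    let w : Fin 3 → Fin 4 → F := ![v, app D v, app D (app D v)]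
    have hwz : ∀ i, app z (w i) = γ • w i := by
      have e : ∀ y, app z (app D y) = app D (app z y) := fun y => by
        rw [← app_mul, hDdef, hzc, app_mul]
      intro i; fin_cases i <;> simp [w, e, hvz, app_smul]
    have shift : ∀ y b, app z y = γ • y → app T y = b • y → app T (app D y) = (γ * γ * b) • app D y := by
      intro y b hy hb
      have e : ∀ y, app z (app D y) = app D (app z y) := fun y => by
        rw [← app_mul, hDdef, hzc, app_mul]
      rw [← app_mul, hTD, app_mul, app_mul D T, hb, app_smul, app_mul, app_smul, app_smul, e, hy, app_smul,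
        app_smul, e, hy, app_smul, smul_smul, smul_smul]
      congr 1; ring
    have hwT : ∀ i, app T (w i) = (![α, γ * γ * α, γ * α] i) • w i := by
      have h1 := shift v α hvz hvT
      have h2' := shift (app D v) _ (hwz 1) h1
      intro i; fin_cases i
      · exact hvT
      · exact h1
      · show app T (app D (app D v)) = (γ * α) • app D (app D v)
        rw [h2']; congr 1; linear_combination (γ * α) * hγ
    have hα' : α ≠ 0 := by rintro rfl; simp at hα
    have hγ0 : γ ≠ 0 := by rintro rfl; simp at hγ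
    have hind : LinearIndependent F w := by
      refine Module.End.eigenvectors_linearIndependent' (Matrix.mulVecLin (mat T)) ![α, γ * γ * α, γ * α] ?_ w
        fun i => Module.End.hasEigenvector_iff.2 ⟨Module.End.mem_eigenspace_iff.2 (hwT i), ?_⟩
      · have e1 : γ * γ * α ≠ α := fun e => hγ1 (by
          have : γ * γ = 1 := mul_right_cancel₀ hα' (by rw [e, one_mul])
          linear_combination hγ - γ * this)
        have e2 : γ * α ≠ α := fun e => hγ1 (mul_right_cancel₀ hα' (by rw [e, one_mul]))
        have e3 : γ * γ * α ≠ γ * α := fun e => hγ1 (by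
          have : γ * (γ - 1) * α = 0 := by linear_combination e
          simpa [hγ0, hα', sub_eq_zero] using this)
        intro i j hij
        fin_cases i <;> fin_cases j <;>
          first
          | rfl
          | exact absurd hij e1
          | exact absurd hij.symm e1
          | exact absurd hij e2
          | exact absurd hij.symm e2
          | exact absurd hij e3
          | exact absurd hij.symm e3
      · fin_cases i <;> simp [w]
        · exact hα0
        · exact fun e => hα0 (app_inj (e.trans (app_zero D).symm))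
        · exact fun e => hα0 (app_inj (app_inj (e.trans ((app_zero D).symm.trans (congrArg _ (app_zero D).symm)))))
    have := Submodule.finrank_mono (Submodule.span_le.2 (show Set.range w ⊆ eigSp z γ by
      rintro _ ⟨i, rfl⟩; exact mem_eigSp.2 (hwz i)))
    rw [finrank_span_eq_card hind, Fintype.card_fin] at this
    exact this
  -- a non-trivial eigenvalue
  obtain ⟨γ, hγ, hγ1, hne⟩ : ∃ γ : F, γ * γ * γ = 1 ∧ γ ≠ 1 ∧ eigSp z γ ≠ ⊥ := by
    by_contra hno
    push Not at hno
    apply hS1
    apply hinj
    rw [← hzdef, map_one]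
    refine ext_app fun x => ?_
    have a : prj z l x = 0 := (Submodule.mem_bot F).1 (hno l hl' hl1 ▸ prj_mem hz3 hl' x)
    have hll : l * l ≠ 1 := fun e => hl1 (by linear_combination hl' - l * e)
    have hl2' : (l * l) * (l * l) * (l * l) = 1 := by linear_combination (l * l * l + 1) * hl'
    have b : prj z (l * l) x = 0 := (Submodule.mem_bot F).1 (hno (l * l) hl2' hll ▸ prj_mem hz3 hl2' x)
    have e := prj_sum hF hl hl1 z x
    rw [a, b, add_zero, add_zero] at e
    have := mem_eigSp.1 (prj_mem hz3 (γ := 1) (by ring) x)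
    rw [e, one_smul] at this
    rw [app_one]; exact this
  have h3 := big γ hγ hγ1 hne
  set E := eigSp z γ with hE
  set E1 := eigSp z 1 with hE1
  have hdis : ∀ {a b : F}, a ≠ b → Disjoint (eigSp z a) (eigSp z b) := fun {a b} hab => by
    rw [Submodule.disjoint_def]
    intro x h1 h2
    rw [mem_eigSp] at h1 h2
    have : (a - b) • x = 0 := by rw [sub_smul, ← h1, ← h2, sub_self]
    exact (smul_eq_zero.1 this).resolve_left (sub_ne_zero.2 hab)
  have other : eigSp z (γ * γ) = ⊥ := by
    by_contra h
    have hγγ : γ * γ ≠ 1 := fun e => hγ1 (by linear_combination hγ - γ * e)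
    have h' := big (γ * γ) (by linear_combination (γ * γ * γ + 1) * hγ) hγγ h
    have hd := hdis (a := γ) (b := γ * γ) (fun e => hγ1 (by linear_combination hγ + γ * e + e))
    have := Submodule.finrank_add_finrank_le_of_disjoint hd
    rw [← hE] at this
    rw [Module.finrank_fintype_fun_eq_card, Fintype.card_fin] at this
    omega
  have hsum : E ⊔ E1 = ⊤ := eq_top_iff.2 fun x _ => by
    have hγ' : γ * γ * γ = 1 := hγ
    have hl2 : γ * γ ^ 2 = 1 := by linear_combination hγ
    have e := prj_sum hF hl2 hγ1 z x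
    have b : prj z (γ * γ) x = 0 :=
      (Submodule.mem_bot F).1 (other ▸ prj_mem hz3 (by linear_combination (γ * γ * γ + 1) * hγ) x)
    rw [b, add_zero] at e
    rw [← e]
    exact add_mem (Submodule.mem_sup_right (prj_mem hz3 (by ring) x)) (Submodule.mem_sup_left (prj_mem hz3 hγ' x))
  have hE4 : Module.finrank F E ≠ 4 := fun e => by
    have hall : ∀ x, app z x = γ • x := fun x => mem_eigSp.1 (by
      rw [← hE, Submodule.eq_top_of_finrank_eq (e.trans (by simp))]; trivial)
    obtain ⟨c, hc, hc'⟩ := center_scalar hF (z := z) (Subgroup.mem_center_iff.2 fun A => (scalar_commute hF hall).symm)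
    have hcγ : c = γ := by
      have := congrFun ((hc' (ev 0)).symm.trans (hall (ev 0))) 0
      simpa [ev] using this
    rw [hcγ] at hc
    exact hγ1 (by linear_combination hc - γ * hγ)
  have hEE : Module.finrank F E + Module.finrank F E1 = 4 := by
    rw [← Submodule.finrank_sup_add_finrank_inf_eq E E1, hsum, (hdis hγ1).eq_bot, finrank_bot, add_zero,
      finrank_top, Module.finrank_fintype_fun_eq_card, Fintype.card_fin]
  have h11 : Module.finrank F E1 = 1 := by
    have := Submodule.finrank_le E
    rw [Module.finrank_fintype_fun_eq_card, Fintype.card_fin] at this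
    omega
  obtain ⟨d0, hd0, hd00⟩ := Submodule.exists_mem_ne_zero_of_ne_bot (p := E1) (fun e => by
    rw [e, finrank_bot] at h11; omega)
  have span1 : ∀ w ∈ E1, ∃ t : F, w = t • d0 := fun w hw => by
    have : (F ∙ d0 : Submodule F (Fin 4 → F)) = E1 :=
      Submodule.eq_of_le_of_finrank_le ((Submodule.span_singleton_le_iff_mem _ _).2 hd0)
        (by rw [h11, finrank_span_singleton hd00])
    obtain ⟨t, ht⟩ := Submodule.mem_span_singleton.1 (this ▸ hw)
    exact ⟨t, ht.symm⟩
  have horth : ∀ x ∈ E, Cfsg.hermForm 4 F 2 d0 x = 0 := fun x hx => by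
    rw [hE, mem_eigSp] at hx
    rw [hE1, mem_eigSp] at hd0
    have := herm_app z d0 x
    rw [hx, hd0, one_smul, herm_smul_right hF] at this
    by_contra hne0
    have e : γ ^ 2 = 1 := mul_right_cancel₀ hne0 (by rw [this, one_mul])
    exact hγ1 (by linear_combination hγ - γ * e)
  have hd0n : Cfsg.hermForm 4 F 2 d0 d0 ≠ 0 := by
    intro h0
    apply hd00
    funext j
    obtain ⟨a, ha, b, hb, e⟩ := Submodule.mem_sup.1 (hsum ▸ Submodule.mem_top (x := (ev j : Fin 4 → F)))
    obtain ⟨t, rfl⟩ := span1 b hb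
    have := herm_ev hF d0 j
    rw [← e, herm_add_right hF, horth a ha, herm_smul_right hF, h0, mul_zero, add_zero] at this
    exact this.symm
  obtain ⟨cc, hcc⟩ := exists_norm hF (c := (Cfsg.hermForm 4 F 2 d0 d0)⁻¹) (by rw [inv_pow, herm_self_fix hF])
  set d := cc • d0 with hd
  have hdd : Cfsg.hermForm 4 F 2 d d = 1 := by
    rw [hd, herm_smul_left hF, herm_smul_right hF, ← mul_assoc, hcc, inv_mul_cancel₀ hd0n]
  obtain ⟨Q, hQ, hQd⟩ := exists_extend_frame hF (k := 1) (by norm_num : 1 ≤ 4) ![d] (fun i j => by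
    fin_cases i; fin_cases j; simpa using hdd)
  obtain ⟨P, hP, hPc⟩ := exists_frame hF ![col Q 1, col Q 2, col Q 3, col Q 0] (by
    intro i j
    fin_cases i <;> fin_cases j <;> simp [col_on hF hQ _ _])
  have hPd : col P 3 = d := by rw [hPc]; exact hQd 0
  have hdE : d ∈ E1 := E1.smul_mem _ hd0
  have hd0' : d ≠ 0 := fun e => by rw [e] at hdd; simp [Cfsg.hermForm] at hdd
  have hchi : ∀ A, ∃ t : F, app (φ A) d = t • d := fun A => by
    have hd1 : app z d = d := by rw [hE1, mem_eigSp, one_smul] at hdE; exact hdE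
    have hm : app (φ A) d ∈ E1 := by
      rw [hE1, mem_eigSp, one_smul, ← app_mul, hzc, app_mul, hd1]
    obtain ⟨t, ht⟩ := span1 _ hm
    refine ⟨t * cc⁻¹, ?_⟩
    have hcc0 : cc ≠ 0 := fun e => by rw [hd, e, zero_smul] at hd0'; exact hd0' rfl
    rw [hd, smul_smul, mul_assoc, inv_mul_cancel₀ hcc0, mul_one, ← hd, ht]
  choose χ hχ using hchi
  have uniq : ∀ {a b : F}, a • d = b • d → a = b := fun {a b} e => smul_left_injective F hd0' e
  have χmul : ∀ A B, χ (A * B) = χ A * χ B := fun A B => uniq (by
    rw [← hχ, map_mul, app_mul, hχ, app_smul, hχ, smul_smul, mul_comm])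
  have χone : χ 1 = 1 := uniq (by rw [← hχ, map_one, app_one, one_smul])
  have χnorm : ∀ A, χ A * χ A ^ 2 = 1 := fun A => by
    have := herm_app (φ A) d d
    rw [hχ, herm_smul_left hF, herm_smul_right hF, hdd, mul_one] at this
    exact this
  let δ : Cfsg.SU 3 F 2 →* Cfsg.SU 3 F 2 :=
    { toFun := fun A => suMk hF (χ A • mat A) (by
        rw [Matrix.det_smul, Fintype.card_fin, show (mat A).det = 1 from A.1.2, mul_one]
        linear_combination χnorm A) (fun x y => by
        rw [Matrix.smul_mulVec, Matrix.smul_mulVec, herm_smul_left hF, herm_smul_right hF]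
        show χ A * (χ A ^ 2 * Cfsg.hermForm 3 F 2 (app A x) (app A y)) = _
        rw [herm_app, ← mul_assoc, χnorm, one_mul])
      map_one' := ext_app fun x => by
        show (χ 1 • mat (1 : Cfsg.SU 3 F 2)) *ᵥ x = app 1 x
        rw [χone, one_smul]; rfl
      map_mul' := fun A B => ext_app fun x => by
        rw [app_mul]
        show (χ (A * B) • mat (A * B)) *ᵥ x = (χ A • mat A) *ᵥ ((χ B • mat B) *ᵥ x)
        rw [χmul, mat_mul, Matrix.smul_mulVec, Matrix.smul_mulVec, Matrix.smul_mulVec, Matrix.mulVec_smul,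
          smul_smul, Matrix.mulVec_mulVec] }
  have hδ : ∀ A x, app (δ A) x = χ A • app A x := fun A x => Matrix.smul_mulVec _ _ _
  have pairs : ∀ p : Cfsg.SU 2 F 2 →* Cfsg.SU 3 F 2, ∀ B, δ (p B) = p B := by
    intro p B
    let ψ : Cfsg.SU 2 F 2 →* F := { toFun := fun B => χ (p B), map_one' := by rw [map_one, χone],
                                    map_mul' := fun a b => by rw [map_mul, χmul] }
    have : (⊤ : Subgroup (Cfsg.SU 2 F 2)) ≤ ψ.ker := by
      rw [← gen_p hF (Or.inl rfl), Subgroup.closure_le]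
      intro A hA
      rw [SetLike.mem_coe, MonoidHom.mem_ker]
      have h1 : ψ A * ψ A = 1 := by rw [← map_mul, ← pow_two, show A ^ 2 = 1 from hA, map_one]
      have hsq : (ψ A - 1) * (ψ A - 1) = 0 := by linear_combination h1 + (1 - ψ A) * h2
      exact sub_eq_zero.1 (mul_self_eq_zero.1 hsq)
    have hχ1 : χ (p B) = 1 := MonoidHom.mem_ker.1 (this (Subgroup.mem_top B))
    exact ext_app fun x => by rw [hδ, hχ1, one_smul]
  have χ1 : ∀ A, χ A = 1 := fun A => by
    have h := fixed_two hF rfl δ (pairs p01) (pairs p12) A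
    by_contra hne'
    have e : (χ A - 1) • app A (ev 0 : Fin 3 → F) = 0 := by rw [sub_smul, one_smul, ← hδ, h, sub_self]
    have := (smul_eq_zero.1 e).resolve_left (sub_ne_zero.2 hne')
    have h1 := app_inj (this.trans (app_zero A).symm)
    exact one_ne_zero (α := F) (by simpa [ev] using congrFun h1 0)
  refine ⟨P, hP, ?_⟩
  haveI : Finite (blk P hP (iv 0 3)) := inferInstance
  refine Subgroup.eq_of_le_of_card_ge ?_ ?_
  · rintro _ ⟨A, rfl⟩
    refine (mem_blk hP).2 fun i hi => ?_
    obtain rfl : i = 3 := by fin_cases i <;> simp [iv] at hi ⊢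
    rw [hPd, hχ, χ1, one_smul]
  · rw [card_blk, card_supp_iv hF (by norm_num)]
    exact le_of_eq (Nat.card_congr (MonoidHom.ofInjective hinj).toEquiv)

/-- An involution and an element of order three generating a block fix a unit vector. -/
theorem fixed_unit (i i' : Cfsg.SU 3 F 2) (hi : i * i = 1) (hi' : i' * i' = 1)
    (ht3 : i * i' * (i * i') * (i * i') = 1) (hne : i * i' ≠ 1) :
    ∃ u : Fin 3 → F, Cfsg.hermForm 3 F 2 u u = 1 ∧ app i u = u ∧ app i' u = u := by
  obtain ⟨l, hl, hl2, -, -⟩ := exists_lam hF (Or.inl rfl)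
  have hl1 : l ≠ 1 := by rintro rfl; exact hl2 (one_mul _)
  have h2 := two_eq_zero hF rfl
  have hdim : ∀ j : Cfsg.SU 3 F 2, j * j = 1 → 2 ≤ Module.finrank F (eigSp j 1) := by
    intro j hj
    let f := Matrix.mulVecLin (mat j) - (1 : F) • LinearMap.id
    have h1 := LinearMap.finrank_range_add_finrank_ker f
    have h2' : LinearMap.range f ≤ LinearMap.ker f := by
      rintro _ ⟨x, rfl⟩
      show _ ∈ eigSp j 1
      rw [mem_eigSp, one_smul]
      have hfx : f x = app j x - x := by simp [f, app]
      have he : app j (app j x) = x := by rw [← app_mul, hj, app_one]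
      rw [hfx, sub_eq_add_neg, ← neg_one_smul F x, app_add, app_smul, he]
      funext t
      simp
      linear_combination (x t - app j x t) * h2
    have h3 := Submodule.finrank_mono h2'
    rw [Module.finrank_fintype_fun_eq_card, Fintype.card_fin] at h1
    show 2 ≤ Module.finrank F (LinearMap.ker f)
    omega
  obtain ⟨u, hu, hu0⟩ : ∃ u ∈ eigSp i 1 ⊓ eigSp i' 1, u ≠ (0 : Fin 3 → F) := by
    refine Submodule.exists_mem_ne_zero_of_ne_bot fun e => ?_
    have := Submodule.finrank_add_finrank_le_of_disjoint (disjoint_iff.2 e)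
    rw [Module.finrank_fintype_fun_eq_card, Fintype.card_fin] at this
    have := hdim i hi
    have := hdim i' hi'
    omega
  have hu1 : app i u = u := by simpa [mem_eigSp] using hu.1
  have hu2 : app i' u = u := by simpa [mem_eigSp] using hu.2
  set T := i * i' with hT
  have hTu : app T u = u := by rw [hT, app_mul, hu2, hu1]
  have hT3 : ∀ x, app T (app T (app T x)) = x := fun x => by rw [← app_mul, ← app_mul, ht3, app_one]
  have hn : Cfsg.hermForm 3 F 2 u u ≠ 0 := by
    intro huu
    obtain ⟨y, hy⟩ : ∃ y, Cfsg.hermForm 3 F 2 u y ≠ 0 := by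
      by_contra hno
      push Not at hno
      exact hu0 ((hermSesq_goodForm (n := 3) hF).nondeg u fun y => by
        rw [hermSesq_apply, ← herm_conj hF u y, hno y]; simp)
    set v := prj T 1 y with hv
    have hTv : app T v = v := by simpa [mem_eigSp] using prj_mem hT3 (γ := (1 : F)) (by ring) y
    have huv : Cfsg.hermForm 3 F 2 u v ≠ 0 := by
      have e1 : Cfsg.hermForm 3 F 2 u (app T y) = Cfsg.hermForm 3 F 2 u y := by
        conv_lhs => rw [← hTu]
        exact herm_app T u y
      have e2 : Cfsg.hermForm 3 F 2 u (app T (app T y)) = Cfsg.hermForm 3 F 2 u y := by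
        conv_lhs => rw [← hTu]
        rw [herm_app, e1]
      rw [hv, prj, one_mul, one_smul, one_smul, herm_add_right hF, herm_add_right hF, e1, e2]
      intro e; exact hy (by linear_combination e - (Cfsg.hermForm 3 F 2 u y) * h2)
    have hvu : Cfsg.hermForm 3 F 2 v u ≠ 0 := fun e => huv (by rw [← herm_conj hF v u, e]; simp)
    let L : (Fin 3 → F) →ₗ[F] F × F :=
      { toFun := fun x => (Cfsg.hermForm 3 F 2 x u, Cfsg.hermForm 3 F 2 x v)
        map_add' := fun a b => by simp [herm_add_left hF]
        map_smul' := fun c a => by simp [herm_smul_left hF] }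
    obtain ⟨w, hw, hw0⟩ := Submodule.exists_mem_ne_zero_of_ne_bot
      (LinearMap.ker_ne_bot_of_finrank_lt (f := L) (by simp))
    rw [LinearMap.mem_ker] at hw
    have hwu : Cfsg.hermForm 3 F 2 w u = 0 := congrArg Prod.fst hw
    have hwv : Cfsg.hermForm 3 F 2 w v = 0 := congrArg Prod.snd hw
    have hind : LinearIndependent F ![u, v, w] := by
      rw [Fintype.linearIndependent_iff]
      intro g hg
      simp [Fin.sum_univ_three] at hg
      have h00 : ∀ z : Fin 3 → F, Cfsg.hermForm 3 F 2 0 z = 0 := fun z => by simp [Cfsg.hermForm]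
      have h0 := congrArg (fun x => Cfsg.hermForm 3 F 2 x u) hg
      simp only [herm_add_left hF, herm_smul_left hF, huu, hwu] at h0
      have g1 : g 1 = 0 := by simpa [hvu, h00] using h0
      have h1 := congrArg (fun x => Cfsg.hermForm 3 F 2 x v) hg
      simp only [herm_add_left hF, herm_smul_left hF, hwv, g1] at h1
      have g0 : g 0 = 0 := by simpa [huv, h00] using h1
      rw [g0, g1] at hg
      have g2 : g 2 = 0 := by simpa [hw0] using hg
      intro t; fin_cases t <;> assumption
    let b := basisOfLinearIndependentOfCardEqFinrank hind (by simp)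
    obtain ⟨c, hc⟩ : ∃ c : F, app T w = c • w := by
      have e : app T w = ∑ t, (b.repr (app T w)) t • ![u, v, w] t := by
        conv_lhs => rw [← b.sum_repr (app T w)]
        simp [b]
      rw [Fin.sum_univ_three] at e
      simp at e
      set r := b.repr (app T w) with hr
      have p0 : Cfsg.hermForm 3 F 2 (app T w) u = 0 := by
        conv_lhs => rw [← hTu]
        rw [herm_app, hwu]
      have p1 : Cfsg.hermForm 3 F 2 (app T w) v = 0 := by
        conv_lhs => rw [← hTv]
        rw [herm_app, hwv]
      rw [e] at p0 p1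
      simp only [herm_add_left hF, herm_smul_left hF, huu, hwu, hwv] at p0 p1
      have r1 : r 1 = 0 := by simpa [hvu] using p0
      rw [r1] at p1
      have r0 : r 0 = 0 := by simpa [huv] using p1
      exact ⟨r 2, by rw [e, r0, r1]; simp⟩
    have hMdet : (Matrix.of fun t s => ![u, v, w] s t).det ≠ 0 := by
      have hcols : LinearIndependent F (Matrix.of fun t s => ![u, v, w] s t).col := hind
      exact (Matrix.isUnit_iff_isUnit_det _).1 (Matrix.linearIndependent_cols_iff_isUnit.1 hcols) |>.ne_zero
    have hMT : mat T * (Matrix.of fun t s => ![u, v, w] s t) =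
        (Matrix.of fun t s => ![u, v, w] s t) * Matrix.diagonal ![1, 1, c] := by
      ext t s
      rw [Matrix.mul_diagonal]
      fin_cases s
      · simpa [Matrix.mul_apply, app, Matrix.mulVec, dotProduct] using congrFun hTu t
      · simpa [Matrix.mul_apply, app, Matrix.mulVec, dotProduct] using congrFun hTv t
      · simpa [Matrix.mul_apply, app, Matrix.mulVec, dotProduct, mul_comm] using congrFun hc t
    have hd := congrArg Matrix.det hMT
    rw [Matrix.det_mul, Matrix.det_mul, Matrix.det_diagonal, show (mat T).det = 1 from T.1.2, one_mul] at hd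
    simp [Fin.prod_univ_three] at hd
    have hc1 : c = 1 := mul_left_cancel₀ hMdet (by rw [mul_one]; exact hd.symm)
    apply hne
    refine ext_app fun x => ?_
    rw [app_one]
    conv_lhs => rw [← b.sum_repr x]
    conv_rhs => rw [← b.sum_repr x]
    rw [app_sum]
    refine Finset.sum_congr rfl fun t _ => ?_
    rw [app_smul]
    congr 1
    fin_cases t <;> simp [b, hTu, hTv, hc, hc1]
  obtain ⟨cc, hcc⟩ := exists_norm hF (c := (Cfsg.hermForm 3 F 2 u u)⁻¹) (by rw [inv_pow, herm_self_fix hF])
  refine ⟨cc • u, ?_, by rw [app_smul, hu1], by rw [app_smul, hu2]⟩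
  rw [herm_smul_left hF, herm_smul_right hF, ← mul_assoc, hcc, inv_mul_cancel₀ hn]

end Cfsg.Agent.Lib.PhanWeak91
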