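import Cfsg.Agent.Lib.PhanWeak91.Chain
import Cfsg.Agent.Lib.Classical.UnitaryStandard
import Cfsg.Agent.Lib.Classical.UnitaryCentre

/-!
Orthonormal frames, conjugated blocks, kernels of homomorphisms out of `SU 4`.
-/

set_option autoImplicit false
set_option linter.unusedSectionVars false

namespace Cfsg.Agent.Lib.PhanWeak91

open Matrix Cfsg.Agent.Lib.Forms
open scoped commutatorElement

variable {F : Type*} [Field F] [Fintype F] {q m : ℕ}

/-- An orthonormal family. -/
def ON (q : ℕ) {ι : Type*} [DecidableEq ι] (v : ι → Fin m → F) : Prop :=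
  ∀ i j, Cfsg.hermForm m F q (v i) (v j) = if i = j then 1 else 0

/-- A block carried by an isometry. -/
def blk (P : Matrix.GeneralLinearGroup (Fin m) F) (hP : IsIsom q P) (s : Set (Fin m)) :
    Subgroup (Cfsg.SU m F q) := (supp s).map (conjIso P hP)

/-- The image of a standard vector. -/
def col (P : Matrix.GeneralLinearGroup (Fin m) F) (i : Fin m) : Fin m → F :=
  (P : Matrix (Fin m) (Fin m) F) *ᵥ ev i

theorem mem_blk {P : Matrix.GeneralLinearGroup (Fin m) F} (hP : IsIsom q P) {s : Set (Fin m)}
    {A : Cfsg.SU m F q} : A ∈ blk P hP s ↔ ∀ i, i ∉ s → app A (col P i) = col P i := by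
  constructor
  · rintro ⟨B, hB, rfl⟩ i hi
    rw [col, app_conjIso, hB i hi]
  · intro h
    obtain ⟨B, rfl⟩ := conjIso_surjective P hP A
    refine ⟨B, fun i hi => ?_, rfl⟩
    have := h i hi
    rw [col, app_conjIso] at this
    have e := congrArg (fun y => (↑P⁻¹ : Matrix (Fin m) (Fin m) F) *ᵥ y) this
    simpa [Matrix.mulVec_mulVec] using e

theorem card_blk (P : Matrix.GeneralLinearGroup (Fin m) F) (hP : IsIsom q P) (s : Set (Fin m)) :
    Nat.card (blk P hP s) = Nat.card (supp (F := F) (q := q) s) :=
  Subgroup.card_map_of_injective (conjIso_injective P hP)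

theorem col_herm {P : Matrix.GeneralLinearGroup (Fin m) F} (hP : IsIsom q P) (i j : Fin m) :
    Cfsg.hermForm m F q (col P i) (col P j) = Cfsg.hermForm m F q (ev i : Fin m → F) (ev j) := hP _ _

variable (hF : Fintype.card F = q ^ 2)
include hF

theorem col_on {P : Matrix.GeneralLinearGroup (Fin m) F} (hP : IsIsom q P) : ON q (col P) := fun i j => by
  rw [col_herm hP, herm_ev hF, ev_apply]
  simp [eq_comm]

theorem card_supp_range {k : ℕ} {f : Fin k → Fin m} (hf : Function.Injective f) :
    Nat.card (supp (F := F) (q := q) (Set.range f)) = Nat.card (Cfsg.SU k F q) := by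
  rw [← range_emb hF hf]
  exact (Nat.card_congr (MonoidHom.ofInjective (emb_injective hf)).toEquiv).symm

theorem card_supp_iv {a k : ℕ} (h : a + k ≤ m) :
    Nat.card (supp (F := F) (q := q) (iv a k : Set (Fin m))) = Nat.card (Cfsg.SU k F q) := by
  rw [← range_ivf a k h, card_supp_range hF (ivf_injective a k h)]

/-- The matrix with given orthonormal columns. -/
theorem exists_frame (b : Fin m → Fin m → F) (hb : ON q b) :
    ∃ (P : Matrix.GeneralLinearGroup (Fin m) F) (_ : IsIsom q P), ∀ i, col P i = b i := by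
  let M : Matrix (Fin m) (Fin m) F := Matrix.of fun r c => b c r
  have hMv : ∀ u, M *ᵥ u = ∑ c, u c • b c := fun u => by
    funext r
    simp [M, Matrix.mulVec, dotProduct, Finset.sum_apply, mul_comm]
  have hpres : ∀ u v, Cfsg.hermForm m F q (M *ᵥ u) (M *ᵥ v) = Cfsg.hermForm m F q u v := fun u v => by
    rw [hMv, hMv, ← hermSesq_apply hF]
    simp only [map_sum, LinearMap.sum_apply, LinearMap.map_smulₛₗ, LinearMap.smul_apply, hermSesq_apply,
      RingHom.id_apply, qPowHom_apply, smul_eq_mul, hb _ _]
    simp [Cfsg.hermForm, mul_comm]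
  have hdet : M.det ≠ 0 := by
    intro h0
    obtain ⟨u, hu0, hu⟩ := Matrix.exists_mulVec_eq_zero_iff.2 h0
    apply hu0
    funext i
    have := hpres u (ev i)
    rw [hu, herm_ev hF] at this
    rw [← this]
    simp [Cfsg.hermForm]
  refine ⟨Matrix.GeneralLinearGroup.mkOfDetNeZero M hdet, fun u v => hpres u v, fun i => ?_⟩
  show M *ᵥ ev i = b i
  funext r
  simp [M, ev]

/-- Orthonormal families extend to orthonormal bases. -/
theorem exists_extend_frame {k : ℕ} (hk : k ≤ m) (v : Fin k → Fin m → F) (hv : ON q v) :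
    ∃ (P : Matrix.GeneralLinearGroup (Fin m) F) (_ : IsIsom q P), ∀ i : Fin k, col P (Fin.castLE hk i) = v i := by
  have key : ∀ l, (hl : k ≤ l) → l ≤ m → ∃ w : Fin l → Fin m → F, ON q w ∧ ∀ i, w (Fin.castLE hl i) = v i := by
    intro l hl
    induction l, hl using Nat.le_induction with
    | base => exact fun _ => ⟨v, hv, fun i => rfl⟩
    | succ l hl ih =>
      intro hlm
      obtain ⟨w, hw, hwv⟩ := ih (by omega)
      obtain ⟨x, hx0, hx⟩ := (hermSesq_goodForm (n := m) hF).exists_orth_anisotropic
        (hermitian_polarization (qPowHom_ne_id hF) (hermSesq_isSymm hF)) (v := w)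
        (fun i j hij => by rw [hermSesq_apply, hw, if_neg hij.symm])
        (fun i => by rw [hermSesq_apply, hw, if_pos rfl]; exact one_ne_zero)
        (by rw [Module.finrank_fintype_fun_eq_card, Fintype.card_fin]; omega)
      simp only [hermSesq_apply] at hx hx0
      obtain ⟨c, hc⟩ := exists_norm hF (c := (Cfsg.hermForm m F q x x)⁻¹)
        (by rw [inv_pow, herm_self_fix hF])
      refine ⟨Fin.snoc w (c • x), fun i j => ?_, fun i => ?_⟩
      · have hx0' : ∀ i, Cfsg.hermForm m F q (w i) x = 0 ∧ Cfsg.hermForm m F q x (w i) = 0 := fun i => by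
          have h1 := hx0 i
          refine ⟨?_, ?_⟩
          · first
            | exact h1
            | rw [← herm_conj hF, h1, zero_pow (q_pos hF).ne']
          · first
            | exact h1
            | rw [← herm_conj hF, h1, zero_pow (q_pos hF).ne']
        refine Fin.lastCases ?_ (fun i => ?_) i <;> refine Fin.lastCases ?_ (fun j => ?_) j
        · rw [Fin.snoc_last, herm_smul_left hF, herm_smul_right hF, ← mul_assoc, hc, inv_mul_cancel₀ hx,
            if_pos rfl]
        · rw [Fin.snoc_last, Fin.snoc_castSucc, herm_smul_left hF, (hx0' j).2, mul_zero,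
            if_neg (Fin.castSucc_lt_last j).ne']
        · rw [Fin.snoc_last, Fin.snoc_castSucc, herm_smul_right hF, (hx0' i).1, mul_zero,
            if_neg (Fin.castSucc_lt_last i).ne]
        · rw [Fin.snoc_castSucc, Fin.snoc_castSucc, hw]
          simp
      · rw [← hwv, show Fin.castLE (Nat.le_succ_of_le hl) i = (Fin.castLE hl i).castSucc from rfl,
          Fin.snoc_castSucc]
  obtain ⟨w, hw, hwv⟩ := key m hk le_rfl
  obtain ⟨P, hP, hPw⟩ := exists_frame hF w hw
  exact ⟨P, hP, fun i => by rw [hPw, hwv]⟩

/-- Central elements are scalar. -/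
theorem center_scalar {n : ℕ} {z : Cfsg.SU (n + 1) F q} (hz : z ∈ Subgroup.center _) :
    ∃ c : F, c ^ (n + 1) = 1 ∧ ∀ x, app z x = c • x := by
  have h := Classical.center_SU_scalar hF z hz 0
  refine ⟨mat z 0 0, ?_, fun x => ?_⟩
  · have hd := z.1.2
    rw [h, Matrix.det_diagonal, Finset.prod_const, Finset.card_univ, Fintype.card_fin] at hd
    exact hd
  · show mat z *ᵥ x = _
    rw [show mat z = Matrix.diagonal fun _ => mat z 0 0 from h]
    funext i
    simp [Matrix.mulVec_diagonal]

theorem scalar_commute {z A : Cfsg.SU m F q} {c : F} (hz : ∀ x, app z x = c • x) : z * A = A * z :=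
  ext_app fun x => by rw [app_mul z A, app_mul A z, hz, hz, app_smul]

/-- The kernel of a homomorphism with nontrivial image is central. -/
theorem ker_le_center {G : Type*} [Group G] (g : Cfsg.SU 4 F q →* G) (hg : g.range ≠ ⊥) :
    g.ker ≤ Subgroup.center _ := by
  haveI := Classical.isSimpleGroup_PSU hF 2 (by norm_num) (by norm_num)
  have hN : (g.ker.map (QuotientGroup.mk' (Subgroup.center (Cfsg.SU 4 F q)))).Normal :=
    g.normal_ker.map _ (QuotientGroup.mk'_surjective _)
  rcases hN.eq_bot_or_eq_top with h | h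
  · intro x hx
    have := Subgroup.mem_map_of_mem (QuotientGroup.mk' (Subgroup.center (Cfsg.SU 4 F q))) hx
    rw [h, Subgroup.mem_bot] at this
    exact (QuotientGroup.eq_one_iff x).1 this
  · exfalso
    apply hg
    have hker : commutator (Cfsg.SU 4 F q) ≤ g.ker := by
      rw [commutator_def, Subgroup.commutator_le]
      intro a _ b _
      have dec : ∀ a, ∃ z, (∀ y, z * y = y * z) ∧ g a = g z := fun a => by
        obtain ⟨k, hk, hka⟩ := (h ▸ Subgroup.mem_top
          (QuotientGroup.mk' (Subgroup.center (Cfsg.SU 4 F q)) a) :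
          QuotientGroup.mk' _ a ∈ g.ker.map (QuotientGroup.mk' (Subgroup.center (Cfsg.SU 4 F q))))
        exact ⟨k⁻¹ * a, fun y => (Subgroup.mem_center_iff.1 (QuotientGroup.eq.1 hka) y).symm,
          by rw [map_mul, map_inv, MonoidHom.mem_ker.1 hk, inv_one, one_mul]⟩
      obtain ⟨z, hz, ea⟩ := dec a
      rw [MonoidHom.mem_ker, map_commutatorElement, ea, ← map_commutatorElement]
      rw [show ⁅z, b⁆ = 1 from commutatorElement_eq_one_iff_mul_comm.2 (hz b), map_one]
    rw [Classical.commutator_SU hF 2 (by norm_num) (by norm_num), top_le_iff, MonoidHom.ker_eq_top_iff] at hker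
    rw [hker, MonoidHom.range_one]

/-- Elements of order dividing `p` which agree up to a scalar of finite order prime to `p` are equal. -/
theorem eq_of_scalar {X Y z : Cfsg.SU 4 F q} {c : F} (hq : q = 2 ∨ q = 3) (hz : ∀ x, app z x = c • x)
    (hc : c ^ 4 = 1) (e : X = Y * z) (hX : X ^ q = 1) (hY : Y ^ q = 1) : X = Y := by
  have hzq : z ^ q = 1 := by
    have hcm : Commute Y z := (scalar_commute hF hz).symm
    rw [e, hcm.mul_pow, hY, one_mul] at hX
    exact hX
  have hzp : ∀ k : ℕ, ∀ x, app (z ^ k) x = c ^ k • x := by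
    intro k x
    induction k with
    | zero => simp [app_one]
    | succ k ih => rw [pow_succ, app_mul, hz, app_smul, ih, smul_smul, pow_succ']
  have hcq : c ^ q = 1 := by
    have := congrArg (fun A => app A (ev 0) 0) hzq
    simp only [hzp, app_one] at this
    simpa [ev] using this
  have hc1 : c = 1 := by
    have := pow_q_pow_q hF c
    rw [hcq, one_pow] at this
    exact this.symm
  have : z = 1 := ext_app fun x => by rw [hz, hc1, one_smul, app_one]
  rw [e, this, mul_one]

/-- `SU 2` is generated by its elements of order dividing `p`. -/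
theorem gen_p (hq : q = 2 ∨ q = 3) : Subgroup.closure {A : Cfsg.SU 2 F q | A ^ q = 1} = ⊤ := by
  set K := Subgroup.closure {A : Cfsg.SU 2 F q | A ^ q = 1} with hK
  have hq0 := q_pos hF
  have one_el : ∀ h, el2 hF (1 : F) 0 h = 1 := fun h => ext_app fun x => by
    rw [app_el2, app_one]; funext i; fin_cases i <;> simp [zero_pow hq0.ne']
  -- anti-diagonal elements give diagonal ones
  have diag_of : (∀ b h, el2 hF 0 b h ∈ K) → ∀ μ h, el2 hF μ 0 h ∈ K := by
    intro hm μ h
    have hb : (0 : F) * 0 ^ q + μ * μ ^ q = 1 := by simpa [zero_pow hq0.ne'] using h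
    have hb' : (0 : F) * 0 ^ q + (-1) * (-1) ^ q = 1 := by
      rw [zero_mul, zero_add, neg_one_fix hF]; ring
    obtain ⟨h', e⟩ := el2_mul hF hb' hb
    have := mul_mem (hm _ hb') (hm _ hb)
    rw [e] at this
    convert this using 1
    rw [el2_ext]
    exact ⟨by rw [neg_one_fix hF]; ring, by simp [zero_pow hq0.ne']⟩
  refine eq_top_iff.2 fun A _ => ?_
  obtain ⟨a, b, hab, rfl⟩ := exists_el2 hF A
  rcases hq with hq | hq
  · subst hq
    have h2 := two_eq_zero hF rfl
    have hm : ∀ b h, el2 hF (0 : F) b h ∈ K := fun b h => by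
      refine Subgroup.subset_closure ?_
      show el2 hF (0 : F) b h ^ 2 = 1
      rw [pow_two]
      obtain ⟨h', e⟩ := el2_mul hF h h
      rw [e, ← one_el (by simp), el2_ext]
      have : b ^ 2 * b = 1 := by linear_combination h
      refine ⟨?_, by simp [zero_pow hq0.ne']⟩
      linear_combination -this - h2
    by_cases ha : a = 0
    · subst ha; exact hm b hab
    by_cases hb : b = 0
    · subst hb; exact diag_of hm a hab
    exfalso
    rw [norm_two hF rfl ha, norm_two hF rfl hb] at hab
    exact one_ne_zero (α := F) (by linear_combination hab)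
  · subst hq
    have h3 := three_eq_zero hF rfl
    have ord3 : ∀ a b h, a + a ^ 3 = -1 → el2 hF a b h ∈ K := by
      intro a b h hT
      refine Subgroup.subset_closure ?_
      show el2 hF a b h ^ 3 = 1
      rw [pow_succ, pow_two]
      obtain ⟨h1, e1⟩ := el2_mul hF h h
      rw [e1]
      obtain ⟨h2, e2⟩ := el2_mul hF h1 h
      rw [e2, ← one_el (by simp), el2_ext]
      have e : ∀ u v : F, (u - v) ^ 3 = u ^ 3 - v ^ 3 := fun u v => by
        linear_combination (-(u ^ 2 * v) + u * v ^ 2) * h3
      refine ⟨?_, ?_⟩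
      · have hbt : b * a + a ^ 3 * b = -b := by linear_combination b * hT
        rw [hbt]
        have hb : b ^ 3 * b = 1 - a * a ^ 3 := by linear_combination h
        have ha3 : a ^ 3 = -1 - a := by linear_combination hT
        have hb' : b ^ 3 * b = 1 + a + a * a := by linear_combination hb - a * ha3
        linear_combination (1 - a) * hb' + (1 : F) * ha3 - ha3
      · simp only [e, mul_pow, pow_q_pow_q hF]
        linear_combination b * (a ^ 2 + a ^ 3 * a + a ^ 3 * a ^ 3 - b * b ^ 3) * 0 + b * (-1) * h
          + b * (a + a ^ 3 - 1) * hT + b * 0 * h3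
    obtain ⟨x, hx⟩ := exists_neg_one hF
    obtain ⟨a0, ha0, hT0⟩ : ∃ a0 : F, a0 * a0 ^ 3 = -1 ∧ a0 + a0 ^ 3 = -1 := by
      have hx0 : x ≠ 0 := by rintro rfl; simp at hx
      have hs : (x + x ^ 3) * (x + x ^ 3) = 1 := by
        linear_combination (x * x - 0) * 0 + (x ^ 2 + 2 - 0) * 0 + (2 + x * x) * hx + (-1 : F) * h3
      rcases mul_self_eq_one_iff.1 hs with h | h
      · exact ⟨-x, by linear_combination hx, by linear_combination -h⟩
      · exact ⟨x, hx, h⟩
    have hm : ∀ y h, el2 hF (0 : F) y h ∈ K := by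
      intro y h
      have ha00 : a0 ≠ 0 := by rintro rfl; simp at ha0
      have hy : y * y ^ 3 = 1 := by linear_combination h
      set b := -y / a0 with hb
      have hba : b * a0 = -y := by rw [hb, div_mul_cancel₀ _ ha00]
      have hbN : b * b ^ 3 = -1 := by
        have e : (b * a0) * (b * a0) ^ 3 = y * y ^ 3 := by rw [hba]; ring
        rw [hy, mul_pow] at e
        linear_combination -e + (b * b ^ 3) * ha0
      have h1 : a0 * a0 ^ 3 + b * b ^ 3 = 1 := by linear_combination ha0 + hbN - h3
      set b' := -(a0 * a0) * b with hb'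
      have h2 : a0 * a0 ^ 3 + b' * b' ^ 3 = 1 := by
        rw [hb']
        linear_combination ha0 + hbN - h3 + (b * b ^ 3 * (a0 * a0 ^ 3 - 1)) * ha0
      obtain ⟨h', e⟩ := el2_mul hF h1 h2
      have := mul_mem (ord3 _ _ h1 hT0) (ord3 _ _ h2 hT0)
      rw [e] at this
      convert this using 1
      rw [el2_ext, hb']
      refine ⟨?_, ?_⟩
      · linear_combination -(a0 * a0) * hbN
      · clear_value b
        linear_combination -2 * hba + (b * a0) * ha0 + y * h3
    by_cases ha : a = 0
    · subst ha; exact hm b hab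
    by_cases hb : b = 0
    · subst hb; exact diag_of hm a hab
    have hna : a * a ^ 3 = -1 ∧ b * b ^ 3 = -1 := by
      rcases norm_three hF rfl ha with e1 | e1 <;> rcases norm_three hF rfl hb with e2 | e2
      · rw [e1, e2] at hab; exact absurd hab (fun h => one_ne_zero (α := F) (by linear_combination h))
      · rw [e1, e2] at hab; exact absurd hab (fun h => one_ne_zero (α := F) (by linear_combination -h))
      · rw [e1, e2] at hab; exact absurd hab (fun h => one_ne_zero (α := F) (by linear_combination -h))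
      · exact ⟨e1, e2⟩
    have hs : (a + a ^ 3) * (a + a ^ 3) = 1 := by linear_combination (2 + a * a) * hna.1 + (-1 : F) * h3
    rcases mul_self_eq_one_iff.1 hs with hT | hT
    · have hn : -a * (-a) ^ 3 + -b * (-b) ^ 3 = 1 := by linear_combination hab
      have hneg : (-1 : F) * (-1) ^ 3 + (0 : F) * 0 ^ 3 = 1 := by ring
      obtain ⟨h', e⟩ := el2_mul hF hneg hn
      have := mul_mem (diag_of hm _ hneg) (ord3 _ _ hn (by linear_combination -hT))
      rw [e] at this
      convert this using 1
      rw [el2_ext]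
      exact ⟨by ring, by ring⟩
    · exact ord3 a b hab hT

end Cfsg.Agent.Lib.PhanWeak91
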