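import Cfsg.Agent.Lib.PhanWeak91.Trans

/-!
Generation of block subgroups by smaller blocks, and the stabiliser of an isotropic vector.
-/

set_option autoImplicit false
set_option linter.unusedSectionVars false

namespace Cfsg.Agent.Lib.PhanWeak91

open Matrix Cfsg.Agent.Lib.Forms

variable {F : Type*} [Field F] [Fintype F] {q m : ℕ}

/-- The elements fixing a vector. -/
def stab (v : Fin m → F) : Subgroup (Cfsg.SU m F q) where
  carrier := {A | app A v = v}
  one_mem' := app_one _
  mul_mem' {A B} hA hB := by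
    show app (A * B) v = v
    rw [app_mul, hB, hA]
  inv_mem' {A} hA := by
    show app A⁻¹ v = v
    conv_lhs => rw [← hA]
    rw [app_inv_app]

theorem mem_stab {v : Fin m → F} {A : Cfsg.SU m F q} : A ∈ stab v ↔ app A v = v := Iff.rfl

variable (hF : Fintype.card F = q ^ 2)
include hF

theorem exists_pair_app {i j : Fin m} (hij : i ≠ j) {x y : Fin m → F} (hx : Van {i, j} x) (hy : Van {i, j} y)
    (hh : Cfsg.hermForm m F q x x = Cfsg.hermForm m F q y y) (h3 : Cfsg.hermForm m F q y y ≠ 0) :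
    ∃ A ∈ supp ({i, j} : Set (Fin m)), app (A : Cfsg.SU m F q) x = y := by
  have hr : Set.range ![i, j] = ({i, j} : Set (Fin m)) := by simp [Set.pair_comm]
  have hinj : Function.Injective ![i, j] := by
    intro a b e
    fin_cases a <;> fin_cases b <;> simp_all
  have hy0 : y ≠ 0 := by
    rintro rfl
    exact h3 (by simp [Cfsg.hermForm])
  have hx0 : x ≠ 0 := by
    rintro rfl
    exact h3 (by rw [← hh]; simp [Cfsg.hermForm])
  rw [← hr] at hx hy ⊢
  exact exists_supp_app hF hinj le_rfl hx hy hx0 hy0 hh (Or.inr h3)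

theorem exists_swap {i j : Fin m} (hij : i ≠ j) :
    ∃ A ∈ supp ({i, j} : Set (Fin m)), app (A : Cfsg.SU m F q) (ev i) = ev j := by
  refine exists_pair_app hF hij (van_ev (by simp)) (van_ev (by simp)) ?_ ?_
  · rw [herm_ev_ev hF, herm_ev_ev hF]
  · rw [herm_ev_ev hF]; exact one_ne_zero

/-- A block is generated by a co-point block and one pair through the point. -/
theorem gen_point {K : Subgroup (Cfsg.SU m F q)} {a k : ℕ} (hak : a + k ≤ m) (hk : 3 ≤ k)
    {i0 i1 : Fin m} (h0 : i0 ∉ iv a k) (h1 : i1 ∈ iv a k) (hH : supp (iv a k) ≤ K)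
    (hP : supp ({i0, i1} : Set (Fin m)) ≤ K) : supp (insert i0 (iv a k)) ≤ K := by
  have h01 : i0 ≠ i1 := fun e => h0 (e ▸ h1)
  intro A hA
  obtain ⟨i2, i3, h23, h2, h3, h21, h31⟩ : ∃ i2 i3 : Fin m, i2 ≠ i3 ∧ i2 ∈ iv a k ∧ i3 ∈ iv a k ∧
      i2 ≠ i1 ∧ i3 ≠ i1 := by
    simp only [iv, Set.mem_setOf_eq] at h1 ⊢
    by_cases e0 : (i1 : ℕ) = a
    · exact ⟨⟨a + 1, by omega⟩, ⟨a + 2, by omega⟩, by simp, by simp; omega, by simp; omega,
        by simp [Fin.ext_iff]; omega, by simp [Fin.ext_iff]; omega⟩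
    · by_cases e1 : (i1 : ℕ) = a + 1
      · exact ⟨⟨a, by omega⟩, ⟨a + 2, by omega⟩, by simp, by simp; omega, by simp; omega,
          by simp [Fin.ext_iff]; omega, by simp [Fin.ext_iff]; omega⟩
      · exact ⟨⟨a, by omega⟩, ⟨a + 1, by omega⟩, by simp, by simp; omega, by simp; omega,
          by simp [Fin.ext_iff]; omega, by simp [Fin.ext_iff]; omega⟩
  obtain ⟨D, hD, hD1⟩ := exists_swap hF h01
  set v := app A (ev i0) with hv
  have hvan : Van (insert i0 (iv a k)) v := van_app hF hA (van_ev (Set.mem_insert _ _))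
  set y := v - v i0 • (ev i0 : Fin m → F) with hy
  have hyv : Van (iv a k) y := by
    intro l hl
    by_cases hl0 : l = i0
    · subst hl0; simp [hy, ev_apply]
    · have := hvan l (by simp [hl, hl0])
      simp [hy, ev_apply, hl0, this]
  obtain ⟨C, hC, hCy⟩ := exists_iv_app_pair hF hak hk hyv h23 h2 h3
  have hC0 : app C (ev i0) = ev i0 := hC i0 h0
  have hD' : app D (app C y) = app C y := fix_of_van hD (fun l hl => hCy l (by
    simp only [Set.mem_compl_iff, not_not, Set.mem_insert_iff, Set.mem_singleton_iff] at hl ⊢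
    rintro (rfl | rfl) <;> rcases hl with e | e
    · exact h0 (e ▸ h2)
    · exact h21 e
    · exact h0 (e ▸ h3)
    · exact h31 e))
  set u := app D (app C v) with hu
  have huv : u = v i0 • (ev i1 : Fin m → F) + app C y := by
    rw [hu, show v = v i0 • (ev i0 : Fin m → F) + y by rw [hy]; abel, app_add, app_smul, hC0, app_add,
      app_smul, hD1, hD']
    simp [hy, ev_apply]
  have hunit : Cfsg.hermForm m F q u u = 1 := by
    rw [hu, herm_app, herm_app, hv, herm_app, herm_ev_ev hF]
  have huvan : Van (iv a k) u := by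
    rw [huv]
    intro l hl
    rw [Pi.add_apply, hCy l (by
      simp only [Set.mem_insert_iff, Set.mem_singleton_iff]
      rintro (rfl | rfl) <;> [exact hl h2; exact hl h3]), Pi.smul_apply, ev_apply,
      if_neg (fun e : l = i1 => hl (e ▸ h1))]
    simp
  obtain ⟨C2, hC2, hC2u⟩ := exists_iv_app hF hak (by omega) huvan (van_ev h1)
    (fun e => by rw [e] at hunit; simp [Cfsg.hermForm] at hunit)
    (fun e => one_ne_zero (α := F) (by simpa [ev] using congrFun e i1))
    (by rw [hunit, herm_ev_ev hF]) (Or.inl hk)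
  set B := D⁻¹ * C2 * D * C * A with hB
  have hB0 : app B (ev i0) = ev i0 := by
    rw [hB, app_mul, app_mul, app_mul, app_mul, ← hv, ← hu, hC2u, ← hD1, app_inv_app]
  have hsub : supp ({i0, i1} : Set (Fin m)) ≤ supp (F := F) (q := q) (insert i0 (iv a k)) :=
    supp_mono (by intro l hl; rcases hl with rfl | rfl <;> simp [h1])
  have hBs : B ∈ supp (iv a k) := by
    have hBins : B ∈ supp (insert i0 (iv a k)) :=
      mul_mem (mul_mem (mul_mem (mul_mem (inv_mem (hsub hD)) (supp_mono (Set.subset_insert _ _) hC2))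
        (hsub hD)) (supp_mono (Set.subset_insert _ _) hC)) hA
    intro l hl
    by_cases hl0 : l = i0
    · rw [hl0, hB0]
    · exact hBins l (by simp [hl, hl0])
  have : A = C⁻¹ * D⁻¹ * C2⁻¹ * D * B := by rw [hB]; group
  rw [this]
  exact mul_mem (mul_mem (mul_mem (mul_mem (inv_mem (hH hC)) (inv_mem (hP hD))) (inv_mem (hH hC2))) (hP hD))
    (hH hBs)

theorem gen_left {K : Subgroup (Cfsg.SU m F q)} {a k : ℕ} (hak : a + k ≤ m) (hk : 4 ≤ k)
    (h1 : supp (iv (a + 1) (k - 1)) ≤ K) (h2 : supp (iv a 2) ≤ K) : supp (iv a k) ≤ K := by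
  refine le_trans (supp_mono fun l hl => ?_) (gen_point hF (K := K) (a := a + 1) (k := k - 1) (by omega) (by omega)
    (i0 := ⟨a, by omega⟩) (i1 := ⟨a + 1, by omega⟩) (by simp [iv]) (by simp [iv]; omega) h1
    (le_trans (supp_mono fun l hl => ?_) h2))
  · simp only [iv, Set.mem_setOf_eq, Set.mem_insert_iff, Fin.ext_iff] at hl ⊢
    omega
  · simp only [iv, Set.mem_setOf_eq, Set.mem_insert_iff, Set.mem_singleton_iff, Fin.ext_iff] at hl ⊢
    omega

theorem gen_two {K : Subgroup (Cfsg.SU m F q)} {a k : ℕ} (hak : a + k ≤ m) (hk : 4 ≤ k)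
    (h1 : supp (iv a (k - 1)) ≤ K) (h2 : supp (iv (a + 1) (k - 1)) ≤ K) : supp (iv a k) ≤ K :=
  gen_left hF hak hk h2 (le_trans (supp_mono (iv_sub le_rfl (by omega))) h1)

theorem gen_three {K : Subgroup (Cfsg.SU m F q)} : ∀ (k a : ℕ), a + k ≤ m → 3 ≤ k →
    (∀ c, a ≤ c → c + 3 ≤ a + k → supp (iv c 3) ≤ K) → supp (iv a k) ≤ K
  | 0, _, _, h, _ => absurd h (by omega)
  | k + 1, a, hak, hk, h => by
    rcases (by omega : k + 1 = 3 ∨ 4 ≤ k + 1) with e | e
    · rw [e]; exact h a le_rfl (by omega)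
    · exact gen_two hF hak e
        (gen_three k a (by omega) (by omega) fun c h1 h2 => h c h1 (by omega))
        (gen_three k (a + 1) (by omega) (by omega) fun c h1 h2 => h c (by omega) (by omega))

/-- The stabiliser of an isotropic vector on the first two coordinates of a block. -/
theorem stab_isotropic {K : Subgroup (Cfsg.SU m F q)} {a k : ℕ} (hak : a + k ≤ m) (hk : 5 ≤ k) {ζ : F}
    (hζ : ζ * ζ ^ q = -1) {i1 i2 : Fin m} (e1 : (i1 : ℕ) = a + 1) (e2 : (i2 : ℕ) = a + 2)
    (hmid : supp (iv (a + 1) (k - 2)) ⊓ stab ((ev i1 : Fin m → F) + ζ • ev i2) ≤ K)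
    (htail : supp (iv (a + 3) (k - 3)) ≤ K) :
    supp (iv (a + 1) (k - 1)) ⊓ stab ((ev i1 : Fin m → F) + ζ • ev i2) ≤ K := by
  obtain ⟨τ, hτ⟩ : ∃ τ : F, τ + τ ^ q = 1 := by
    obtain ⟨τ, hτ⟩ := exists_add_conj_eq_one (qPowHom_ne_id hF) (qPowHom_qPowHom hF)
    exact ⟨τ, by rwa [qPowHom_apply] at hτ⟩
  have h12 : i1 ≠ i2 := fun e => by rw [e] at e1; omega
  have hq := q_pos hF
  set v : Fin m → F := ev i1 + ζ • ev i2 with hv
  set w : Fin m → F := τ • ev i1 + ((τ - 1) * ζ) • ev i2 with hw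
  let i3 : Fin m := ⟨a + 3, by omega⟩
  let iL : Fin m := ⟨a + k - 1, by omega⟩
  have h3L : i3 ≠ iL := by simp [i3, iL, Fin.ext_iff]; omega
  have hvv : Cfsg.hermForm m F q v v = 0 := by
    have := herm_pair hq h12 1 ζ
    rw [one_smul, hζ] at this
    rw [hv, this]; simp
  have hwv : Cfsg.hermForm m F q w v = 1 := by
    rw [hw, herm_add_left hF, herm_smul_left hF, herm_smul_left hF, hv, herm_add_right hF, herm_smul_right hF,
      herm_add_right hF, herm_smul_right hF]
    simp [herm_ev hF, ev_apply, h12, h12.symm]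
    linear_combination (τ - 1) * hζ
  have hww : Cfsg.hermForm m F q w w = 0 := by
    have e : (τ - 1) ^ q = τ ^ q - 1 := by simpa using map_sub (qPowHom hF) τ 1
    rw [hw, herm_pair hq h12, mul_pow, e]
    linear_combination ((τ - 1) * (τ ^ q - 1)) * hζ + hτ
  have hfix : ∀ {s : Set (Fin m)} {B : Cfsg.SU m F q}, B ∈ supp s → i1 ∉ s → i2 ∉ s → ∀ x y : F,
      app B (x • (ev i1 : Fin m → F) + y • ev i2) = x • ev i1 + y • ev i2 := by
    intro s B hB ha hb x y
    rw [app_add, app_smul, app_smul, hB i1 ha, hB i2 hb]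
  rintro g ⟨hg, hgv : app g v = v⟩
  set w' := app g w with hw'
  have hwvan : Van (iv (a + 1) (k - 1)) w := by
    intro l hl
    simp only [iv, Set.mem_setOf_eq] at hl
    rw [hw]
    simp [ev_apply, Fin.ext_iff]
    rw [if_neg (by omega), if_neg (by omega)]; simp
  have hw'van : Van (iv (a + 1) (k - 1)) w' := van_app hF hg hwvan
  set r := w' - w with hr
  set c := r i1 with hc
  set b := r iL with hb
  set z : Fin m → F := r - c • v - b • ev iL with hz
  have hrv : Cfsg.hermForm m F q r v = 0 := by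
    have h' : Cfsg.hermForm m F q w' v = 1 := by rw [hw', ← hwv]; conv_lhs => rw [← hgv]
                                                 exact herm_app g w v
    have : r = w' + (-1 : F) • w := by rw [hr]; simp [sub_eq_add_neg]
    rw [this, herm_add_left hF, herm_smul_left hF, h', hwv]; ring
  have hr2 : r i2 = c * ζ := by
    rw [hv, herm_add_right hF, herm_smul_right hF, herm_ev hF, herm_ev hF, ← hc] at hrv
    linear_combination (ζ * hrv - (r i2) * hζ) * (-1)
  have hzvan : ∀ l : Fin m, ¬ (a + 3 ≤ (l : ℕ) ∧ (l : ℕ) + 1 < a + k) → z l = 0 := by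
    intro l hl
    rw [hz]
    simp only [Pi.sub_apply, Pi.smul_apply, hv, Pi.add_apply, ev_apply, smul_eq_mul]
    by_cases hl1 : l = i1
    · subst hl1; simp [h12, ← hc, show l ≠ iL from fun e => by rw [e] at e1; simp [iL] at e1; omega]
    by_cases hl2 : l = i2
    · subst hl2
      simp [h12.symm, hr2, show l ≠ iL from fun e => by rw [e] at e2; simp [iL] at e2; omega]
    by_cases hlL : l = iL
    · subst hlL
      simp [← hb, show iL ≠ i1 from hl1, show iL ≠ i2 from hl2]
    have hlv : r l = 0 := by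
      have hout : l ∉ iv (a + 1) (k - 1) := by
        simp [iv, iL, Fin.ext_iff] at hl1 hl2 hlL ⊢; omega
      rw [hr, Pi.sub_apply, hw'van l hout, hwvan l hout, sub_zero]
    simp [hl1, hl2, hlL, hlv]
  have zperp : ∀ y : Fin m → F, Van {i1, i2, iL} y → Cfsg.hermForm m F q z y = 0 := by
    intro y hy
    refine Finset.sum_eq_zero fun l _ => ?_
    by_cases hl : a + 3 ≤ (l : ℕ) ∧ (l : ℕ) + 1 < a + k
    · rw [hy l (by simp [iL, Fin.ext_iff]; omega), zero_pow hq.ne', mul_zero]
    · rw [hzvan l hl, zero_mul]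
  have hzv : Cfsg.hermForm m F q z v = 0 := zperp v fun l hl => by
    simp only [Set.mem_insert_iff, Set.mem_singleton_iff, not_or] at hl
    simp [hv, ev_apply, hl.1, hl.2.1]
  have hzw : Cfsg.hermForm m F q z w = 0 := zperp w fun l hl => by
    simp only [Set.mem_insert_iff, Set.mem_singleton_iff, not_or] at hl
    simp [hw, ev_apply, hl.1, hl.2.1]
  have hzL : Cfsg.hermForm m F q z (ev iL) = 0 := zperp _ (van_ev (by simp))
  have hLv : Cfsg.hermForm m F q (ev iL) v = 0 := by
    rw [← herm_conj hF v (ev iL), herm_ev hF]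
    have : v iL = 0 := by simp [hv, ev_apply, iL, Fin.ext_iff]; rw [if_neg (by omega), if_neg (by omega)]; simp
    rw [this, zero_pow hq.ne']
  have hLw : Cfsg.hermForm m F q (ev iL) w = 0 := by
    rw [← herm_conj hF w (ev iL), herm_ev hF]
    have : w iL = 0 := by simp [hw, ev_apply, iL, Fin.ext_iff]; rw [if_neg (by omega), if_neg (by omega)]; simp
    rw [this, zero_pow hq.ne']
  set Nz := Cfsg.hermForm m F q z z with hNz
  set d2 := -(b * b ^ q) * τ with hd2
  set d1 := c - d2 with hd1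
  have hbb : (b * b ^ q) ^ q = b * b ^ q := by rw [mul_pow, pow_q_pow_q hF, mul_comm]
  have hd2q : d2 ^ q + d2 + b * b ^ q = 0 := by
    have e : d2 ^ q = -(b * b ^ q) * τ ^ q := by
      have := map_neg (qPowHom hF) (b * b ^ q)
      simp only [qPowHom_apply, hbb] at this
      rw [hd2, mul_pow, this]
    rw [e, hd2]; linear_combination -(b * b ^ q) * hτ
  have hw'eq : w' = w + z + c • v + b • ev iL := by rw [hz, hr]; abel
  have hd1q : d1 ^ q + d1 + Nz = 0 := by
    have h' : Cfsg.hermForm m F q w' w' = 0 := by rw [hw', herm_app, hww]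
    have sym : ∀ {x y : Fin m → F}, Cfsg.hermForm m F q x y = 0 → Cfsg.hermForm m F q y x = 0 :=
      fun {x y} e => by rw [← herm_conj hF x y, e, zero_pow hq.ne']
    rw [hw'eq] at h'
    simp only [herm_add_left hF, herm_add_right hF, herm_smul_left hF, herm_smul_right hF, hww, hvv, hwv,
      hzv, hzw, hzL, hLv, hLw, sym hzv, sym hzw, sym hzL, sym hLv, sym hLw, herm_ev_ev hF, ← hNz] at h'
    rw [show Cfsg.hermForm m F q v w = 1 by rw [← herm_conj hF w v, hwv, one_pow]] at h'
    have e : d1 ^ q = c ^ q - d2 ^ q := by simpa [hd1] using map_sub (qPowHom hF) c d2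
    rw [e, hd1]
    linear_combination h' - hd2q
  -- the Eichler element inside the middle block
  let E : ∀ (y : Fin m → F) (d : F), Cfsg.hermForm m F q y v = 0 → d ^ q + d + Cfsg.hermForm m F q y y = 0 →
      Cfsg.SU m F q := fun y d hy hd =>
    suMk hF (eichlerMatrix q v y d) (det_eichlerMatrix hF d hvv hy) (eichlerMatrix_preserves hF hvv hy hd)
  have hE : ∀ y d hy hd x, app (E y d hy hd) x = x - Cfsg.hermForm m F q x v • y +
      (Cfsg.hermForm m F q x y + d * Cfsg.hermForm m F q x v) • v := fun y d hy hd x => eichlerMatrix_mulVec v y x d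
  have hEmem : ∀ y d hy hd, (∀ l : Fin m, ¬ (a + 3 ≤ (l : ℕ) ∧ (l : ℕ) + 1 < a + k) → y l = 0) →
      E y d hy hd ∈ supp (iv (a + 1) (k - 2)) ⊓ stab v := by
    intro y d hy hd hyv
    refine ⟨fun l hl => ?_, ?_⟩
    · simp only [iv, Set.mem_setOf_eq] at hl
      rw [hE y d hy hd, show Cfsg.hermForm m F q (ev l) v = 0 by
        rw [← herm_conj hF v (ev l), herm_ev hF, show v l = 0 by
          simp [hv, ev_apply, Fin.ext_iff]; rw [if_neg (by omega), if_neg (by omega)]; simp, zero_pow hq.ne'],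
        show Cfsg.hermForm m F q (ev l) y = 0 by
          rw [← herm_conj hF y (ev l), herm_ev hF, hyv l (by omega), zero_pow hq.ne']]
      simp
    · show app _ v = v
      rw [hE y d hy hd, hvv, show Cfsg.hermForm m F q v y = 0 by rw [← herm_conj hF y v, hy, zero_pow hq.ne']]
      simp
  have hy1 : Cfsg.hermForm m F q (-z) v = 0 := by
    rw [← neg_one_smul F z, herm_smul_left hF, hzv, mul_zero]
  have hn1 : Cfsg.hermForm m F q (-z) (-z) = Nz := by
    rw [← neg_one_smul F z, herm_smul_left hF, herm_smul_right hF, neg_one_fix hF, hNz]; ring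
  set y2 : Fin m → F := (-b) • ev i3 with hy2def
  have h3v : Cfsg.hermForm m F q (ev i3) v = 0 := by
    rw [← herm_conj hF v (ev i3), herm_ev hF]
    have : v i3 = 0 := by simp [hv, ev_apply, i3, Fin.ext_iff]; rw [if_neg (by omega), if_neg (by omega)]; simp
    rw [this, zero_pow hq.ne']
  have hy2 : Cfsg.hermForm m F q y2 v = 0 := by rw [hy2def, herm_smul_left hF, h3v, mul_zero]
  have hn2 : Cfsg.hermForm m F q y2 y2 = b * b ^ q := by
    have := map_neg (qPowHom hF) b
    simp only [qPowHom_apply] at this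
    rw [hy2def, herm_smul_left hF, herm_smul_right hF, herm_ev_ev hF, this]; ring
  set E1 := E (-z) d1 hy1 (by rw [hn1]; exact hd1q) with hE1
  set E2 := E y2 d2 hy2 (by rw [hn2]; exact hd2q) with hE2
  obtain ⟨S, hS, hS3⟩ := exists_swap hF h3L
  have hS' : S ∈ supp (iv (a + 3) (k - 3)) := supp_mono (fun l hl => by
    simp only [iv, Set.mem_setOf_eq, Set.mem_insert_iff, Set.mem_singleton_iff, i3, iL, Fin.ext_iff] at hl ⊢
    omega) hS
  have ni1 : i1 ∉ iv (a + 3) (k - 3) := by simp [iv]; omega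
  have ni2 : i2 ∉ iv (a + 3) (k - 3) := by simp [iv]; omega
  have hSv : app S v = v := by
    have := hfix hS' ni1 ni2 1 ζ
    rwa [one_smul] at this
  have hSw : app S w = w := hfix hS' ni1 ni2 _ _
  have hSw' : app S⁻¹ w = w := by conv_lhs => rw [← hSw]
                                  rw [app_inv_app]
  have hkey : app (E1 * S * E2 * S⁻¹) w = w' := by
    rw [app_mul, app_mul, app_mul, hSw', hE2, hE y2 d2 hy2 (by rw [hn2]; exact hd2q), hwv,
      show Cfsg.hermForm m F q w y2 = 0 by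
        rw [hy2def, herm_smul_right hF, herm_ev hF]
        have : w i3 = 0 := by simp [hw, ev_apply, i3, Fin.ext_iff]; rw [if_neg (by omega), if_neg (by omega)]; simp
        rw [this, mul_zero]]
    simp only [one_smul, zero_add, mul_one]
    rw [hy2def, sub_eq_add_neg, ← neg_smul, neg_neg]
    simp only [app_add, app_smul, hSw, hS3, hSv]
    rw [hE1]
    simp only [hE (-z) d1 hy1 (by rw [hn1]; exact hd1q)]
    simp only [herm_add_left hF, herm_smul_left hF, hwv, hLv, hvv]
    have sz : ∀ {x : Fin m → F}, Cfsg.hermForm m F q z x = 0 → Cfsg.hermForm m F q x (-z) = 0 := fun {x} e => by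
      rw [← neg_one_smul F z, herm_smul_right hF, ← herm_conj hF z x, e, zero_pow hq.ne', mul_zero]
    rw [sz hzw, sz hzL, sz hzv, hw'eq]
    simp only [mul_zero, add_zero, mul_one, one_smul, zero_add, hd1, smul_neg, sub_neg_eq_add]
    module
  have hm1 : E1 ∈ supp (iv (a + 1) (k - 2)) ⊓ stab v :=
    hEmem (-z) d1 hy1 (by rw [hn1]; exact hd1q) (fun l hl => by simp [hzvan l hl])
  have hm2 : E2 ∈ supp (iv (a + 1) (k - 2)) ⊓ stab v :=
    hEmem y2 d2 hy2 (by rw [hn2]; exact hd2q) (fun l hl => by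
      rw [hy2def, Pi.smul_apply, ev_apply, if_neg (fun e => hl (by rw [e]; simp [i3]; omega)), smul_zero])
  have hK1 : E1 * S * E2 * S⁻¹ ∈ K :=
    mul_mem (mul_mem (mul_mem (hmid hm1) (htail hS')) (hmid hm2)) (inv_mem (htail hS'))
  set T := E1 * S * E2 * S⁻¹ with hT
  have hTv : app T v = v := by
    have hmS : S ∈ stab v := hSv
    exact mem_stab.1 (mul_mem (mul_mem (mul_mem hm1.2 hmS) hm2.2) (inv_mem hmS))
  set g' := T⁻¹ * g with hg'
  have gv : app g' v = v := by
    rw [hg', app_mul, hgv]; conv_lhs => rw [← hTv]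
    rw [app_inv_app]
  have gw : app g' w = w := by rw [hg', app_mul, ← hw', ← hkey, app_inv_app]
  have hTs : T ∈ supp (iv (a + 1) (k - 1)) := by
    have s1 : supp (iv (a + 1) (k - 2)) ≤ supp (F := F) (q := q) (iv (a + 1) (k - 1) : Set (Fin m)) :=
      supp_mono (iv_sub le_rfl (by omega))
    have s2 : supp (iv (a + 3) (k - 3)) ≤ supp (F := F) (q := q) (iv (a + 1) (k - 1) : Set (Fin m)) :=
      supp_mono (iv_sub (by omega) (by omega))
    exact mul_mem (mul_mem (mul_mem (s1 hm1.1) (s2 hS')) (s1 hm2.1)) (inv_mem (s2 hS'))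
  have g1 : app g' (ev i1) = ev i1 := by
    have e : (ev i1 : Fin m → F) = w + (-(τ - 1)) • v := by
      rw [hw, hv, smul_add, smul_smul]
      module
    rw [e, app_add, app_smul, gv, gw]
  have g2 : app g' (ev i2) = ev i2 := by
    have hz0 : ζ ≠ 0 := by rintro rfl; simp at hζ
    have e : (ev i2 : Fin m → F) = ζ⁻¹ • (v + (-1 : F) • ev i1) := by
      rw [hv, smul_add, smul_add, smul_smul, smul_smul, inv_mul_cancel₀ hz0, one_smul]
      module
    rw [e, app_smul, app_add, app_smul, gv, g1]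
  have : g' ∈ supp (iv (a + 3) (k - 3)) := by
    intro l hl
    by_cases hl1 : l = i1
    · rw [hl1, g1]
    by_cases hl2 : l = i2
    · rw [hl2, g2]
    refine (mul_mem (inv_mem hTs) hg) l ?_
    simp [iv, Fin.ext_iff] at hl hl1 hl2 ⊢; omega
  have hgeq : g = T * g' := by rw [hg']; group
  rw [hgeq]
  exact mul_mem hK1 (htail this)

end Cfsg.Agent.Lib.PhanWeak91
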