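import Cfsg.Agent.Lib.PhanWeak91.Gen

/-!
Gluing compatible homomorphisms on windows of four consecutive coordinates.
-/

set_option autoImplicit false
set_option linter.unusedSectionVars false

namespace Cfsg.Agent.Lib.PhanWeak91

open Matrix

variable {F : Type*} [Field F] [Fintype F] {q m : ℕ} {G : Type*} [Group G]

/-- The left stabiliser of a subset. -/
def leftStab {H : Type*} [Group H] (W : Set H) : Subgroup H where
  carrier := {g | ∀ w, g * w ∈ W ↔ w ∈ W}
  one_mem' w := by rw [one_mul]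
  mul_mem' {a b} ha hb w := by rw [mul_assoc, ha, hb]
  inv_mem' {a} ha w := by
    conv_rhs => rw [← mul_inv_cancel_left a w]
    rw [ha]

/-- The embedding of a window. -/
def win (i : ℕ) (hi : i + 4 ≤ m) : Cfsg.SU 4 F q →* Cfsg.SU m F q := emb (ivf i 4 hi) (ivf_injective i 4 hi)

/-- Compatible homomorphisms on windows. -/
structure Windows (m : ℕ) (F : Type*) [Field F] [Fintype F] (q : ℕ) (G : Type*) [Group G] where
  h : ∀ i, i + 4 ≤ m → (Cfsg.SU 4 F q →* G)
  U : ℕ → Subgroup G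
  V : ℕ → Subgroup G
  mapU : ∀ i (hi : i + 4 ≤ m) j, j ≤ 2 → ∀ B ∈ supp (F := F) (q := q) (iv j 2 : Set (Fin 4)), h i hi B ∈ U (i + j)
  mapV : ∀ i (hi : i + 4 ≤ m) j, j ≤ 1 → ∀ B ∈ supp (F := F) (q := q) (iv j 3 : Set (Fin 4)), h i hi B ∈ V (i + j)
  agree : ∀ i (hi : i + 4 ≤ m) (hi' : i + 1 + 4 ≤ m) (B : Cfsg.SU 3 F q),
    h i hi (emb (ivf 1 3 (by norm_num)) (ivf_injective _ _ _) B) =
      h (i + 1) hi' (emb (ivf 0 3 (by norm_num)) (ivf_injective _ _ _) B)
  commUV : ∀ a c, a + 2 ≤ m → c + 3 ≤ m → (a + 2 ≤ c ∨ c + 3 ≤ a) → ∀ x ∈ U a, ∀ y ∈ V c, x * y = y * x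
  commVV : ∀ a c, c + 3 ≤ m → a + 3 ≤ c → ∀ x ∈ V a, ∀ y ∈ V c, x * y = y * x

variable (D : Windows m F q G)

/-- The graph of one window. -/
def Windows.graph (i : ℕ) (hi : i + 4 ≤ m) : Subgroup (Cfsg.SU m F q × G) :=
  ((win i hi).prod (D.h i hi)).range

/-- The subgroup generated by the graphs inside a block. -/
def Windows.gam (a k : ℕ) : Subgroup (Cfsg.SU m F q × G) :=
  ⨆ (i : ℕ), ⨆ (hi : i + 4 ≤ m), ⨆ (_ : a ≤ i ∧ i + 4 ≤ a + k), D.graph i hi

theorem Windows.graph_le {i : ℕ} (hi : i + 4 ≤ m) {a k : ℕ} (h : a ≤ i ∧ i + 4 ≤ a + k) :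
    D.graph i hi ≤ D.gam a k :=
  le_iSup_of_le i (le_iSup_of_le hi (le_iSup_of_le h le_rfl))

theorem Windows.gam_mono {a k b l : ℕ} (h1 : b ≤ a) (h2 : a + k ≤ b + l) : D.gam a k ≤ D.gam b l :=
  iSup_le fun _ => iSup_le fun hi => iSup_le fun h => D.graph_le hi ⟨by omega, by omega⟩

variable (hF : Fintype.card F = q ^ 2)
include hF

theorem range_win (i : ℕ) (hi : i + 4 ≤ m) : (win (F := F) (q := q) i hi).range = supp (iv i 4) := by
  rw [win, range_emb hF, range_ivf]

theorem Windows.fst_mem {a k : ℕ} {γ : Cfsg.SU m F q × G} (hγ : γ ∈ D.gam a k) :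
    γ.1 ∈ supp (iv a k) := by
  have : D.gam a k ≤ (supp (iv a k)).comap (MonoidHom.fst _ _) :=
    iSup_le fun i => iSup_le fun hi => iSup_le fun h => by
      rintro _ ⟨B, rfl⟩
      refine supp_mono (iv_sub h.1 h.2) ?_
      rw [← range_win hF i hi]
      exact ⟨B, rfl⟩
  exact this hγ

theorem Windows.exists_lift {a k : ℕ} (hak : a + k ≤ m) (hk : 4 ≤ k) {g : Cfsg.SU m F q}
    (hg : g ∈ supp (iv a k)) : ∃ γ ∈ D.gam a k, γ.1 = g := by
  have h1 : supp (iv a k) ≤ (D.gam a k).map (MonoidHom.fst _ _) := by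
    refine gen_three hF k a hak (by omega) fun c hc1 hc2 => ?_
    obtain ⟨i, hi1, hi2, hi3⟩ : ∃ i, a ≤ i ∧ i + 4 ≤ a + k ∧ (i ≤ c ∧ c + 3 ≤ i + 4) :=
      ⟨min c (a + k - 4), by omega, by omega, by omega⟩
    have hi : i + 4 ≤ m := by omega
    intro x hx
    have hx' := supp_mono (iv_sub hi3.1 hi3.2) hx
    rw [← range_win hF i hi] at hx'
    obtain ⟨B, hB⟩ := hx'
    exact ⟨(win i hi B, D.h i hi B), D.graph_le hi ⟨hi1, hi2⟩ ⟨B, rfl⟩, hB⟩
  obtain ⟨γ, hγ, e⟩ := h1 hg
  exact ⟨γ, hγ, e⟩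

omit hF in
/-- Injectivity of the first projection. -/
def Windows.Inj (a k : ℕ) : Prop := ∀ γ ∈ D.gam a k, γ.1 = 1 → γ = 1

omit hF in
theorem Windows.Inj.ext {a k : ℕ} (h : D.Inj a k) {γ δ : Cfsg.SU m F q × G} (hγ : γ ∈ D.gam a k)
    (hδ : δ ∈ D.gam a k) (e : γ.1 = δ.1) : γ = δ := by
  have := h (γ * δ⁻¹) (mul_mem hγ (inv_mem hδ)) (by simp [e])
  rwa [mul_inv_eq_one] at this

omit hF in
theorem Windows.inj_four (a : ℕ) (ha : a + 4 ≤ m) : D.Inj a 4 := by
  intro γ hγ h1
  have : D.gam a 4 ≤ D.graph a ha :=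
    iSup_le fun i => iSup_le fun hi => iSup_le fun h => by
      obtain rfl : i = a := by omega
      exact le_rfl
  obtain ⟨B, rfl⟩ := this hγ
  have hB : B = 1 := emb_injective (ivf_injective a 4 ha) (by simpa [win] using h1)
  simp [hB]

/-- A lift of a short block element inside a window. -/
theorem Windows.lift_small {a k c l : ℕ} (hak : a + k ≤ m) (hk : 4 ≤ k) (hinj : D.Inj a k) (hl : l ≤ 4)
    (h1 : a ≤ c) (h2 : c + l ≤ a + k) {γ : Cfsg.SU m F q × G} (hγ : γ ∈ D.gam a k)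
    (hs : γ.1 ∈ supp (iv c l)) :
    ∃ i j, ∃ hi : i + 4 ≤ m, c = i + j ∧ j + l ≤ 4 ∧
      ∃ B ∈ supp (F := F) (q := q) (iv j l : Set (Fin 4)), γ = (win i hi B, D.h i hi B) := by
  obtain ⟨i, hi1, hi2, hi3⟩ : ∃ i, a ≤ i ∧ i + 4 ≤ a + k ∧ (i ≤ c ∧ c + l ≤ i + 4) :=
    ⟨min c (a + k - 4), by omega, by omega, by omega⟩
  have hi : i + 4 ≤ m := by omega
  obtain ⟨B, hB⟩ : γ.1 ∈ (win i hi).range := by
    rw [range_win hF]; exact supp_mono (iv_sub hi3.1 hi3.2) hs
  refine ⟨i, c - i, hi, by omega, by omega, B, fun t ht => funext fun s => ?_,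
    hinj.ext D hγ (D.graph_le hi ⟨hi1, hi2⟩ ⟨B, rfl⟩) hB.symm⟩
  have hne : ivf i 4 hi t ∉ iv c l := by
    simp only [iv, ivf, Set.mem_setOf_eq] at ht ⊢; omega
  have := congrFun (hs _ hne) (ivf i 4 hi s)
  rw [← hB, win, app_emb_ev] at this
  rw [this, ev_apply, ev_apply]
  simp [(ivf_injective i 4 hi).eq_iff]

theorem Windows.snd_U {a k c : ℕ} (hak : a + k ≤ m) (hk : 4 ≤ k) (hinj : D.Inj a k)
    (h1 : a ≤ c) (h2 : c + 2 ≤ a + k) {γ : Cfsg.SU m F q × G} (hγ : γ ∈ D.gam a k)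
    (hs : γ.1 ∈ supp (iv c 2)) : γ.2 ∈ D.U c := by
  obtain ⟨i, j, hi, e, hj, B, hB, rfl⟩ := D.lift_small hF hak hk hinj (by omega) h1 h2 hγ hs
  rw [e]; exact D.mapU i hi j (by omega) B hB

theorem Windows.snd_V {a k c : ℕ} (hak : a + k ≤ m) (hk : 4 ≤ k) (hinj : D.Inj a k)
    (h1 : a ≤ c) (h2 : c + 3 ≤ a + k) {γ : Cfsg.SU m F q × G} (hγ : γ ∈ D.gam a k)
    (hs : γ.1 ∈ supp (iv c 3)) : γ.2 ∈ D.V c := by
  obtain ⟨i, j, hi, e, hj, B, hB, rfl⟩ := D.lift_small hF hak hk hinj (by omega) h1 h2 hγ hs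
  rw [e]; exact D.mapV i hi j (by omega) B hB

/-- Commutation of a lifted element with lifts of a far block. -/
theorem Windows.comm_far {a k c l : ℕ} (hak : a + k ≤ m) (hk : 4 ≤ k) (hinj : D.Inj a k) (hl : 3 ≤ l)
    (h1 : a ≤ c) (h2 : c + l ≤ a + k) {x : G}
    (hx : ∀ d, c ≤ d → d + 3 ≤ c + l → ∀ y ∈ D.V d, x * y = y * x) {δ : Cfsg.SU m F q × G}
    (hδ : δ ∈ D.gam a k) (hs : δ.1 ∈ supp (iv c l)) : x * δ.2 = δ.2 * x := by
  let P : Subgroup (Cfsg.SU m F q × G) := D.gam a k ⊓ (Subgroup.centralizer {x}).comap (MonoidHom.snd _ _)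
  have hP : supp (iv c l) ≤ P.map (MonoidHom.fst _ _) := by
    refine gen_three hF l c (by omega) hl fun d hd1 hd2 g hg => ?_
    obtain ⟨γ, hγ, rfl⟩ := D.exists_lift hF hak hk (supp_mono (iv_sub (by omega) (by omega)) hg)
    refine ⟨γ, ⟨hγ, ?_⟩, rfl⟩
    refine Subgroup.mem_centralizer_iff.2 fun y hy => ?_
    rw [Set.mem_singleton_iff] at hy
    subst hy
    exact hx d hd1 hd2 _ (D.snd_V hF hak hk hinj (by omega) (by omega) hγ hg)
  obtain ⟨δ', ⟨hδ', hc⟩, e⟩ := hP hs
  obtain rfl := hinj.ext D hδ' hδ e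
  exact Subgroup.mem_centralizer_iff.1 hc x rfl

/-- The inductive step. -/
theorem Windows.inj_step {a k : ℕ} (hak : a + k ≤ m) (hk : 5 ≤ k) (hL : D.Inj a (k - 1))
    (h0 : D.Inj (a + 1) (k - 1)) : D.Inj a k := by
  let ia : Fin m := ⟨a, by omega⟩
  let i1 : Fin m := ⟨a + 1, by omega⟩
  let i2 : Fin m := ⟨a + 2, by omega⟩
  set L := D.gam a (k - 1) with hLdef
  set H := D.gam (a + 1) (k - 1) with hHdef
  have hq := q_pos hF
  -- middle lifts coincide
  have mid : ∀ γ ∈ L, γ.1 ∈ supp (iv (a + 1) (k - 2)) → γ ∈ H := by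
    intro γ hγ hs
    by_cases hk6 : 6 ≤ k
    · obtain ⟨δ, hδ, e⟩ := D.exists_lift hF (by omega) (by omega) hs
      rw [hL.ext D hγ (D.gam_mono (by omega) (by omega) hδ) e.symm]
      exact D.gam_mono (by omega) (by omega) hδ
    · obtain rfl : k = 5 := by omega
      have ha : a + 4 ≤ m := by omega
      have hr : supp (iv (a + 1) 3) = (emb (F := F) (q := q) (ivf (a + 1) 3 (by omega : a + 1 + 3 ≤ m))
          (ivf_injective _ _ _)).range := by rw [range_emb hF, range_ivf]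
      rw [hr] at hs
      obtain ⟨B, hB⟩ := hs
      have e1 : win a ha (emb (ivf 1 3 (by norm_num)) (ivf_injective _ _ _) B) = γ.1 := by
        rw [← hB, win, emb_comp]
        congr 1
      have e2 : win (a + 1) (by omega) (emb (ivf 0 3 (by norm_num)) (ivf_injective _ _ _) B) = γ.1 := by
        rw [← hB, win, emb_comp]
        congr 1
      have := hL.ext D hγ (D.graph_le ha ⟨le_rfl, by omega⟩ ⟨_, rfl⟩) e1.symm
      rw [this]
      refine D.graph_le (i := a + 1) (by omega) ⟨le_rfl, by omega⟩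
        ⟨emb (ivf 0 3 (by norm_num)) (ivf_injective _ _ _) B, ?_⟩
      exact Prod.ext (e2.trans e1.symm) (D.agree a ha (by omega) B).symm
  have fix : ∀ γ ∈ H, app γ.1 (ev ia) = ev ia := fun γ hγ => D.fst_mem hF hγ ia (by simp [iv, ia])
  have stabL : ∀ γ ∈ L, app γ.1 (ev ia) = ev ia → γ ∈ H := by
    intro γ hγ e
    refine mid γ hγ fun t ht => ?_
    by_cases hta : t = ia
    · rw [hta, e]
    · exact D.fst_mem hF hγ t (by simp [iv, ia, Fin.ext_iff] at ht hta ⊢; omega)
  -- lifts of the middle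
  have midlift : ∀ g ∈ supp (iv (a + 1) (k - 2)), ∃ γ, γ ∈ L ∧ γ ∈ H ∧ γ.1 = g := by
    intro g hg
    obtain ⟨γ, hγ, e⟩ := D.exists_lift hF (a := a) (k := k - 1) (by omega) (by omega)
      (supp_mono (iv_sub (by omega) (by omega)) hg)
    exact ⟨γ, hγ, mid γ hγ (e ▸ hg), e⟩
  -- commutation with far blocks
  have comm2 : ∀ γ ∈ L, γ.1 ∈ supp (iv a 2) → ∀ δ ∈ H, δ.1 ∈ supp (iv (a + 2) (k - 2)) → γ * δ = δ * γ := by
    intro γ hγ hg δ hδ hd
    refine Prod.ext (supp_comm hF (iv_disj le_rfl) hg hd) ?_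
    refine D.comm_far hF (by omega) (by omega) h0 (by omega) (by omega) (by omega) ?_ hδ hd
    intro d hd1 hd2 y hy
    exact D.commUV a d (by omega) (by omega) (Or.inl hd1) _
      (D.snd_U hF (a := a) (k := k - 1) (by omega) (by omega) hL le_rfl (by omega) hγ hg) y hy
  have comm3 : ∀ γ ∈ L, γ.1 ∈ supp (iv a 3) → ∀ δ ∈ H, δ.1 ∈ supp (iv (a + 3) (k - 3)) → γ * δ = δ * γ := by
    intro γ hγ hg δ hδ hd
    refine Prod.ext (supp_comm hF (iv_disj le_rfl) hg hd) ?_
    have hV := D.snd_V hF (a := a) (k := k - 1) (by omega) (by omega) hL le_rfl (by omega) hγ hg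
    by_cases hk6 : 6 ≤ k
    · refine D.comm_far hF (by omega) (by omega) h0 (by omega) (by omega) (by omega) ?_ hδ hd
      intro d hd1 hd2 y hy
      exact D.commVV a d (by omega) hd1 _ hV y hy
    · have e2 : k - 3 = 2 := by omega
      rw [e2] at hd
      exact (D.commUV (a + 3) a (by omega) (by omega) (Or.inr le_rfl) _
        (D.snd_U hF (by omega) (by omega) h0 (by omega) (by omega) hδ hd) _ hV).symm
  -- the key lemma
  have key : ∀ p ∈ H, ∀ l ∈ L, ∀ l' ∈ L, app (p * l).1 (ev ia) = app l'.1 (ev ia) → l'⁻¹ * p * l ∈ H := by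
    intro p hp l hl l' hl' e
    set v1 := app l.1 (ev ia) with hv1
    set v2 := app l'.1 (ev ia) with hv2
    have ev12 : app p.1 v1 = v2 := by rw [← e, hv1, Prod.fst_mul, app_mul]
    have hvan : ∀ γ ∈ L, Van (iv a (k - 1)) (app γ.1 (ev ia)) := fun γ hγ =>
      van_app hF (D.fst_mem hF hγ) (van_ev (by simp [iv, ia]; omega))
    set α := v1 ia with hα
    have hα2 : v2 ia = α := by
      rw [← ev12, app_off hF (D.fst_mem hF hp) _ (by simp [iv, ia])]
    set x1 := v1 - α • (ev ia : Fin m → F) with hx1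
    set x2 := v2 - α • (ev ia : Fin m → F) with hx2
    have vanx : ∀ v : Fin m → F, Van (iv a (k - 1)) v → v ia = α →
        Van (iv (a + 1) (k - 2)) (v - α • (ev ia : Fin m → F)) := by
      intro v hv hva t ht
      by_cases hta : t = ia
      · subst hta; simp [hva, ev_apply]
      · simp [ev_apply, hta]
        exact hv t (by simp [iv, ia, Fin.ext_iff] at ht hta ⊢; omega)
    have hxv1 : Van (iv (a + 1) (k - 2)) x1 := vanx v1 (hvan l hl) rfl
    have hxv2 : Van (iv (a + 1) (k - 2)) x2 := vanx v2 (hvan l' hl') hα2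
    have hpx : app p.1 x1 = x2 := by
      rw [hx1, hx2, sub_eq_add_neg, app_add, ev12, ← neg_smul, app_smul, fix p hp, neg_smul,
        sub_eq_add_neg]
    -- a canonical representative
    obtain ⟨xs, k0, hk0, hmove, hnn, hk0e, hstab⟩ : ∃ (xs : Fin m → F) (k0 : Cfsg.SU m F q × G), k0 ∈ L ∧
        Van (iv (a + 1) (k - 2)) xs ∧
        ((xs = 0 ↔ x1 = 0) ∧ Cfsg.hermForm m F q xs xs = Cfsg.hermForm m F q x1 x1) ∧
        app k0.1 (ev ia) = α • (ev ia : Fin m → F) + xs ∧
        ∀ γ ∈ H, app γ.1 xs = xs → k0⁻¹ * γ * k0 ∈ H := by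
      have nv1 : α * α ^ q + Cfsg.hermForm m F q x1 x1 = 1 := by
        have e1 : Cfsg.hermForm m F q v1 v1 = 1 := by rw [hv1, herm_app, herm_ev_ev hF]
        have hd : v1 = α • (ev ia : Fin m → F) + x1 := by rw [hx1]; abel
        have hx1a : Cfsg.hermForm m F q x1 (ev ia) = 0 := by
          rw [herm_ev hF]; exact hxv1 ia (by simp [iv, ia])
        have hx1b : Cfsg.hermForm m F q (ev ia) x1 = 0 := by
          rw [← Forms.herm_conj hF x1 (ev ia), hx1a, zero_pow hq.ne']
        rw [hd] at e1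
        simp only [Forms.herm_add_left hF, Forms.herm_add_right hF, Forms.herm_smul_left hF,
          Forms.herm_smul_right hF, hx1a, hx1b, herm_ev_ev hF] at e1
        linear_combination e1
      have conjH : ∀ {k0 : Cfsg.SU m F q × G} {xs : Fin m → F}, k0 ∈ L →
          app k0.1 (ev ia) = α • (ev ia : Fin m → F) + xs →
          ∀ g ∈ supp (iv (a + 1) (k - 2)), app g xs = xs →
          g ∈ (H ⊓ H.comap (MulAut.conj k0⁻¹).toMonoidHom).map (MonoidHom.fst _ _) := by
        intro k0 xs hk0 he g hg hgx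
        obtain ⟨ρ, hρL, hρH, rfl⟩ := midlift g hg
        refine ⟨ρ, ⟨hρH, ?_⟩, rfl⟩
        show k0⁻¹ * ρ * k0⁻¹⁻¹ ∈ H
        rw [inv_inv]
        refine stabL _ (mul_mem (mul_mem (inv_mem hk0) hρL) hk0) ?_
        rw [Prod.fst_mul, Prod.fst_mul, app_mul, app_mul, he, app_add, app_smul, fix ρ hρH, hgx, ← he,
          Prod.fst_inv, app_inv_app]
      have finish : ∀ {k0 : Cfsg.SU m F q × G} {xs : Fin m → F},
          supp (iv (a + 1) (k - 1)) ⊓ stab xs ≤
            (H ⊓ H.comap (MulAut.conj k0⁻¹).toMonoidHom).map (MonoidHom.fst _ _) →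
          ∀ γ ∈ H, app γ.1 xs = xs → k0⁻¹ * γ * k0 ∈ H := by
        intro k0 xs hle γ hγ hx
        obtain ⟨γ', ⟨hγ', hc⟩, e'⟩ := hle ⟨D.fst_mem hF hγ, hx⟩
        obtain rfl := h0.ext D hγ' hγ e'
        have hc' : k0⁻¹ * γ' * k0⁻¹⁻¹ ∈ H := hc
        rwa [inv_inv] at hc'
      have hia1 : ia ≠ i1 := by simp [ia, i1, Fin.ext_iff]
      by_cases hxx : x1 = 0
      · have hαu : α * α ^ q = 1 := by rw [hxx] at nv1; simpa [Cfsg.hermForm] using nv1
        obtain ⟨g, hg, hge⟩ := exists_iv_app hF (a := a) (k := 2) (by omega) le_rfl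
          (x := (ev ia : Fin m → F)) (y := α • ev ia) (van_ev (by simp [iv, ia]))
          (fun t ht => by
            rw [Pi.smul_apply, van_ev (s := iv a 2) (by simp [iv, ia]) t ht, smul_zero])
          (fun e => one_ne_zero (α := F) (by simpa [ev] using congrFun e ia))
          (fun e => by
            have := congrFun e ia
            simp [ev] at this
            rw [this] at hαu; simp at hαu)
          (by rw [Forms.herm_smul_left hF, Forms.herm_smul_right hF, herm_ev_ev hF, mul_one, hαu])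
          (Or.inr (by rw [Forms.herm_smul_left hF, Forms.herm_smul_right hF, herm_ev_ev hF, mul_one, hαu]
                      exact one_ne_zero))
        obtain ⟨k0, hk0, rfl⟩ := D.exists_lift hF (a := a) (k := k - 1) (by omega) (by omega)
          (supp_mono (iv_sub le_rfl (by omega)) hg)
        refine ⟨0, k0, hk0, fun _ _ => rfl, ⟨by simp [hxx], by rw [hxx]⟩, by rw [hge, add_zero], ?_⟩
        refine finish (le_trans inf_le_left ?_)
        refine gen_two hF (by omega) (by omega) (fun g' hg' => conjH (xs := 0) hk0 (by rw [hge, add_zero])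
          g' (supp_mono (iv_sub le_rfl (by omega)) hg') (app_zero _)) fun g' hg' => ?_
        obtain ⟨ρ, hρ, rfl⟩ := D.exists_lift hF (a := a + 1) (k := k - 1) (by omega) (by omega)
          (supp_mono (iv_sub (by omega) (by omega)) hg')
        refine ⟨ρ, ⟨hρ, ?_⟩, rfl⟩
        show k0⁻¹ * ρ * k0⁻¹⁻¹ ∈ H
        rw [inv_inv, mul_assoc, ← comm2 k0 hk0 hg ρ hρ (supp_mono (iv_sub (by omega) (by omega)) hg'),
          inv_mul_cancel_left]
        exact hρ
      by_cases hn : Cfsg.hermForm m F q x1 x1 = 0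
      · obtain ⟨ζ, hζ⟩ := exists_neg_one hF
        have h12 : i1 ≠ i2 := by simp [i1, i2, Fin.ext_iff]
        set xs : Fin m → F := (ev i1 : Fin m → F) + ζ • ev i2 with hxs
        have hvan' : Van (iv (a + 1) 2) xs := fun t ht => by
          simp only [iv, Set.mem_setOf_eq] at ht
          rw [hxs, Pi.add_apply, Pi.smul_apply, ev_apply, ev_apply, if_neg (fun e => ht (by rw [e]; simp [i1])),
            if_neg (fun e => ht (by rw [e]; simp [i2]))]
          simp
        have hxsn : Cfsg.hermForm m F q xs xs = 0 := by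
          have := herm_pair hq h12 1 ζ
          rw [one_smul, hζ] at this
          rw [hxs, this]; simp
        have hxs0 : xs ≠ 0 := fun e => by
          have := congrFun e i1
          simp [hxs, ev_apply, h12] at this
        have hαu : α * α ^ q = 1 := by rw [hn, add_zero] at nv1; exact nv1
        set vs := α • (ev ia : Fin m → F) + xs with hvs
        have hvsv : Van (iv a 3) vs := fun t ht => by
          rw [hvs, Pi.add_apply, Pi.smul_apply, hvan' t (fun h => ht (iv_sub (by omega) (by omega) h)),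
            van_ev (s := iv a 3) (by simp [iv, ia]) t ht]
          simp
        have hvsn : Cfsg.hermForm m F q vs vs = 1 := by
          have h1 : Cfsg.hermForm m F q xs (ev ia) = 0 := by
            rw [herm_ev hF]; exact hvan' ia (by simp [iv, ia])
          have h2 : Cfsg.hermForm m F q (ev ia) xs = 0 := by
            rw [← Forms.herm_conj hF xs (ev ia), h1, zero_pow hq.ne']
          simp only [hvs, Forms.herm_add_left hF, Forms.herm_add_right hF, Forms.herm_smul_left hF,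
            Forms.herm_smul_right hF, h1, h2, hxsn, herm_ev_ev hF]
          linear_combination hαu
        obtain ⟨g, hg, hge⟩ := exists_iv_app hF (a := a) (k := 3) (by omega) (by omega)
          (x := (ev ia : Fin m → F)) (y := vs) (van_ev (by simp [iv, ia])) hvsv
          (fun e => one_ne_zero (α := F) (by simpa [ev] using congrFun e ia))
          (fun e => by rw [e] at hvsn; simp [Cfsg.hermForm] at hvsn)
          (by rw [herm_ev_ev hF, hvsn]) (Or.inl le_rfl)
        obtain ⟨k0, hk0, rfl⟩ := D.exists_lift hF (a := a) (k := k - 1) (by omega) (by omega)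
          (supp_mono (iv_sub le_rfl (by omega)) hg)
        refine ⟨xs, k0, hk0, fun t ht => hvan' t (fun h => ht (iv_sub le_rfl (by omega) h)),
          ⟨by simp [hxx, hxs0], by rw [hxsn, hn]⟩, hge, ?_⟩
        refine finish (stab_isotropic hF hak hk hζ (i1 := i1) (i2 := i2) rfl rfl
          (fun g' hg' => conjH hk0 hge g' hg'.1 hg'.2) fun g' hg' => ?_)
        obtain ⟨ρ, hρ, rfl⟩ := D.exists_lift hF (a := a + 1) (k := k - 1) (by omega) (by omega)
          (supp_mono (iv_sub (by omega) (by omega)) hg')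
        refine ⟨ρ, ⟨hρ, ?_⟩, rfl⟩
        show k0⁻¹ * ρ * k0⁻¹⁻¹ ∈ H
        rw [inv_inv, mul_assoc, ← comm3 k0 hk0 hg ρ hρ hg', inv_mul_cancel_left]
        exact hρ
      · obtain ⟨c, hc⟩ := exists_norm hF (herm_self_fix hF x1)
        have hc0 : c ≠ 0 := by rintro rfl; simp at hc; exact hn hc.symm
        set xs : Fin m → F := c • ev i1 with hxs
        have hvan' : Van (iv (a + 1) 1) xs := fun t ht => by
          rw [hxs, Pi.smul_apply, van_ev (s := iv (a + 1) 1) (by simp [iv, i1]) t ht, smul_zero]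
        have hxsn : Cfsg.hermForm m F q xs xs = Cfsg.hermForm m F q x1 x1 := by
          rw [hxs, Forms.herm_smul_left hF, Forms.herm_smul_right hF, herm_ev_ev hF, mul_one, hc]
        set vs := α • (ev ia : Fin m → F) + xs with hvs
        have hvsn : Cfsg.hermForm m F q vs vs = 1 := by
          rw [hvs, hxs, herm_pair hq hia1, hc, nv1]
        obtain ⟨g, hg, hge⟩ := exists_iv_app hF (a := a) (k := 2) (by omega) le_rfl
          (x := (ev ia : Fin m → F)) (y := vs) (van_ev (by simp [iv, ia]))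
          (fun t ht => by
            rw [hvs, Pi.add_apply, Pi.smul_apply, van_ev (s := iv a 2) (by simp [iv, ia]) t ht,
              hvan' t (fun h => ht (iv_sub (by omega) (by omega) h))]
            simp)
          (fun e => one_ne_zero (α := F) (by simpa [ev] using congrFun e ia))
          (fun e => by rw [e] at hvsn; simp [Cfsg.hermForm] at hvsn)
          (by rw [herm_ev_ev hF, hvsn]) (Or.inr (by rw [hvsn]; exact one_ne_zero))
        obtain ⟨k0, hk0, rfl⟩ := D.exists_lift hF (a := a) (k := k - 1) (by omega) (by omega)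
          (supp_mono (iv_sub le_rfl (by omega)) hg)
        refine ⟨xs, k0, hk0, fun t ht => hvan' t (fun h => ht (iv_sub le_rfl (by omega) h)),
          ⟨⟨fun e => absurd (by simpa [hxs, hc0, ev] using congrFun e i1) id,
            fun e => absurd e hxx⟩, hxsn⟩, hge, ?_⟩
        refine finish ?_
        rintro g' ⟨hg', hg'x : app g' xs = xs⟩
        have hg'' : g' ∈ supp (iv (a + 2) (k - 2)) := by
          intro t ht
          by_cases ht1 : t = i1
          · subst ht1
            have := hg'x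
            rw [hxs, app_smul] at this
            exact smul_right_injective _ hc0 this
          · exact hg' t (by simp [iv, i1, Fin.ext_iff] at ht ht1 ⊢; omega)
        obtain ⟨ρ, hρ, rfl⟩ := D.exists_lift hF (a := a + 1) (k := k - 1) (by omega) (by omega) hg'
        refine ⟨ρ, ⟨hρ, ?_⟩, rfl⟩
        show k0⁻¹ * ρ * k0⁻¹⁻¹ ∈ H
        rw [inv_inv, mul_assoc, ← comm2 k0 hk0 hg ρ hρ hg'', inv_mul_cancel_left]
        exact hρ
    -- move both middles to the representative
    have moveTo : ∀ x : Fin m → F, Van (iv (a + 1) (k - 2)) x → (xs = 0 ↔ x = 0) →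
        Cfsg.hermForm m F q xs xs = Cfsg.hermForm m F q x x →
        ∃ ρ, ρ ∈ L ∧ ρ ∈ H ∧ app ρ.1 x = xs := by
      intro x hx hiff hnorm
      by_cases hx0 : x = 0
      · exact ⟨1, one_mem _, one_mem _, by rw [Prod.fst_one, app_one, hx0, hiff.2 hx0]⟩
      obtain ⟨g, hg, hgx⟩ := exists_iv_app hF (a := a + 1) (k := k - 2) (by omega) (by omega) hx hmove hx0
        (fun e => hx0 (hiff.1 e)) hnorm.symm (Or.inl (by omega))
      obtain ⟨ρ, h1, h2, rfl⟩ := midlift g hg
      exact ⟨ρ, h1, h2, hgx⟩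
    obtain ⟨ρ1, hρ1L, hρ1H, hρ1⟩ := moveTo x1 hxv1 hnn.1 hnn.2
    obtain ⟨ρ2, hρ2L, hρ2H, hρ2⟩ := moveTo x2 hxv2
      (by rw [hnn.1, ← hpx]; exact ⟨fun e => by rw [e, app_zero], fun e => app_inj (e.trans (app_zero _).symm)⟩)
      (by rw [hnn.2, ← hpx, herm_app])
    set q' := ρ2 * p * ρ1⁻¹ with hq'
    have hq'H : q' ∈ H := mul_mem (mul_mem hρ2H hp) (inv_mem hρ1H)
    have hq'x : app q'.1 xs = xs := by
      rw [hq', Prod.fst_mul, Prod.fst_mul, app_mul, app_mul, ← hρ1, Prod.fst_inv, app_inv_app, hpx, hρ2]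
      exact hρ1.symm
    have hl1 : k0⁻¹ * (ρ1 * l) ∈ H := by
      refine stabL _ (mul_mem (inv_mem hk0) (mul_mem hρ1L hl)) ?_
      rw [Prod.fst_mul, Prod.fst_mul, app_mul, app_mul, ← hv1,
        show v1 = α • (ev ia : Fin m → F) + x1 by rw [hx1]; abel, app_add, app_smul, fix ρ1 hρ1H, hρ1,
        ← hk0e, Prod.fst_inv, app_inv_app]
    have hl2 : k0⁻¹ * (ρ2 * l') ∈ H := by
      refine stabL _ (mul_mem (inv_mem hk0) (mul_mem hρ2L hl')) ?_
      rw [Prod.fst_mul, Prod.fst_mul, app_mul, app_mul, ← hv2,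
        show v2 = α • (ev ia : Fin m → F) + x2 by rw [hx2]; abel, app_add, app_smul, fix ρ2 hρ2H, hρ2,
        ← hk0e, Prod.fst_inv, app_inv_app]
    have : l'⁻¹ * p * l = (k0⁻¹ * (ρ2 * l'))⁻¹ * (k0⁻¹ * q' * k0) * (k0⁻¹ * (ρ1 * l)) := by
      rw [hq']; group
    rw [this]
    exact mul_mem (mul_mem (inv_mem hl2) (hstab q' hq'H hq'x)) hl1
  -- closure of the double coset set
  let W : Set (Cfsg.SU m F q × G) := {γ | ∃ p ∈ H, ∃ l ∈ L, ∃ p' ∈ H, γ = p * l * p'}
  have hHW : H ≤ leftStab W := by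
    intro x hx w
    constructor
    · rintro ⟨p, hp, l, hl, p', hp', e⟩
      exact ⟨x⁻¹ * p, mul_mem (inv_mem hx) hp, l, hl, p', hp', by
        rw [← inv_mul_cancel_left x w, e]; group⟩
    · rintro ⟨p, hp, l, hl, p', hp', rfl⟩
      exact ⟨x * p, mul_mem hx hp, l, hl, p', hp', by group⟩
  have pairW : ∀ κ ∈ L, κ.1 ∈ supp (iv a 2) → ∀ w ∈ W, κ * w ∈ W := by
    rintro κ hκ hκs _ ⟨p, hp, l, hl, p', hp', rfl⟩
    set v := app (p * l).1 (ev ia) with hv
    have hvvan : Van (iv a k) v := by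
      rw [hv, Prod.fst_mul]
      exact van_app hF (mul_mem (supp_mono (iv_sub (by omega) (by omega)) (D.fst_mem hF hp))
        (supp_mono (iv_sub le_rfl (by omega)) (D.fst_mem hF hl))) (van_ev (by simp [iv, ia]; omega))
    let z : Fin m → F := fun t => if (a + 2 ≤ (t : ℕ)) then v t else 0
    have hz : Van (iv (a + 2) (k - 2)) z := fun t ht => by
      simp only [iv, Set.mem_setOf_eq] at ht
      show (if (a + 2 ≤ (t : ℕ)) then v t else 0) = 0
      split_ifs with h
      · exact hvvan t (by simp [iv]; omega)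
      · rfl
    obtain ⟨g, hg, hgz⟩ := exists_iv_app_pair hF (a := a + 2) (k := k - 2) (by omega) (by omega) hz
      (i := (⟨a + 2, by omega⟩ : Fin m)) (j := ⟨a + 3, by omega⟩) (by simp) (by simp [iv]; omega)
      (by simp [iv]; omega)
    obtain ⟨τ, hτ, rfl⟩ := D.exists_lift hF (a := a + 1) (k := k - 1) (by omega) (by omega)
      (supp_mono (iv_sub (by omega) (by omega)) hg)
    set v' := app τ.1 v with hv'
    have hv'van : Van (iv a (k - 1)) v' := by
      intro t ht
      simp only [iv, Set.mem_setOf_eq] at ht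
      by_cases htk : (t : ℕ) < a + k ∧ a ≤ (t : ℕ)
      · have hz' : app τ.1 z t = 0 := hgz t (by simp [Fin.ext_iff]; omega)
        have e : v = z + (v - z) := by abel
        have hfixed : app τ.1 (v - z) = v - z := fix_of_van hg (fun s hs => by
          simp only [Set.mem_compl_iff, not_not, iv, Set.mem_setOf_eq] at hs
          simp [z, show a + 2 ≤ (s : ℕ) from hs.1])
        rw [hv', e, app_add, hfixed, Pi.add_apply, hz', zero_add, Pi.sub_apply]
        simp [z, show a + 2 ≤ (t : ℕ) by omega]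
      · rw [hv', app_off hF hg _ (by simp [iv]; omega)]
        exact hvvan t (by simp [iv]; omega)
    have hv'n : Cfsg.hermForm m F q v' v' = 1 := by rw [hv', herm_app, hv, herm_app, herm_ev_ev hF]
    obtain ⟨g', hg', hg'e⟩ := exists_iv_app hF (a := a) (k := k - 1) (by omega) (by omega)
      (x := (ev ia : Fin m → F)) (y := v') (van_ev (by simp [iv, ia]; omega)) hv'van
      (fun e => one_ne_zero (α := F) (by simpa [ev] using congrFun e ia))
      (fun e => by rw [e] at hv'n; simp [Cfsg.hermForm] at hv'n)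
      (by rw [herm_ev_ev hF, hv'n]) (Or.inl (by omega))
    obtain ⟨l', hl', rfl⟩ := D.exists_lift hF (a := a) (k := k - 1) (by omega) (by omega) hg'
    have hk' := key (τ * p) (mul_mem hτ hp) l hl l' hl' (by
      rw [hg'e, hv', hv, mul_assoc, Prod.fst_mul, app_mul])
    refine ⟨τ⁻¹, inv_mem hτ, κ * l', mul_mem hκ hl', (l'⁻¹ * (τ * p) * l) * p', mul_mem hk' hp', ?_⟩
    have hc : κ * τ⁻¹ = τ⁻¹ * κ := comm2 κ hκ hκs τ⁻¹ (inv_mem hτ) (inv_mem hg)
    calc κ * (p * l * p') = κ * τ⁻¹ * (τ * p * l * p') := by group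
      _ = τ⁻¹ * κ * (τ * p * l * p') := by rw [hc]
      _ = τ⁻¹ * (κ * l') * (l'⁻¹ * (τ * p) * l * p') := by group
  have hLW : L ≤ leftStab W := by
    intro γ hγ
    have hgen : supp (iv a (k - 1)) ≤ (L ⊓ leftStab W).map (MonoidHom.fst _ _) := by
      refine gen_left hF (by omega) (by omega) (fun g hg => ?_) (fun g hg => ?_)
      · obtain ⟨ρ, h1, h2, rfl⟩ := midlift g (by rwa [show k - 1 - 1 = k - 2 by omega] at hg)
        exact ⟨ρ, ⟨h1, hHW h2⟩, rfl⟩
      · obtain ⟨κ, hκ, rfl⟩ := D.exists_lift hF (a := a) (k := k - 1) (by omega) (by omega)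
          (supp_mono (iv_sub le_rfl (by omega)) hg)
        refine ⟨κ, ⟨hκ, fun w => ⟨fun hw => ?_, fun hw => pairW κ hκ hg w hw⟩⟩, rfl⟩
        have := pairW κ⁻¹ (inv_mem hκ) (inv_mem hg) _ hw
        rwa [inv_mul_cancel_left] at this
    obtain ⟨γ', ⟨h1, h2⟩, e⟩ := hgen (D.fst_mem hF hγ)
    exact hL.ext D h1 hγ e ▸ h2
  have hall : D.gam a k ≤ leftStab W :=
    iSup_le fun i => iSup_le fun hi => iSup_le fun h => by
      by_cases hia : i + 4 ≤ a + (k - 1)
      · exact le_trans (D.graph_le hi ⟨h.1, hia⟩) hLW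
      · exact le_trans (D.graph_le hi (a := a + 1) (k := k - 1) ⟨by omega, by omega⟩) hHW
  intro γ hγ h1
  obtain ⟨p, hp, l, hl, p', hp', e⟩ : γ * 1 ∈ W :=
    (hall hγ 1).2 ⟨1, one_mem _, 1, one_mem _, 1, one_mem _, by group⟩
  rw [mul_one] at e
  have hlfix : app l.1 (ev ia) = ev ia := by
    have : l = p⁻¹ * γ * p'⁻¹ := by rw [e]; group
    rw [this, Prod.fst_mul, Prod.fst_mul, h1, mul_one, app_mul, fix _ (inv_mem hp'), fix _ (inv_mem hp)]
  have hγH : γ ∈ H := e ▸ mul_mem (mul_mem hp (stabL l hl hlfix)) hp'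
  exact h0 γ hγH h1

theorem Windows.inj_all : ∀ k a, a + k ≤ m → 4 ≤ k → D.Inj a k
  | 0, _, _, h => absurd h (by omega)
  | k + 1, a, hak, hk => by
    rcases (by omega : k + 1 = 4 ∨ 5 ≤ k + 1) with e | e
    · rw [e]; exact D.inj_four a (by omega)
    · exact D.inj_step hF hak e (Windows.inj_all k a (by omega) (by omega))
        (Windows.inj_all k (a + 1) (by omega) (by omega))

/-- The glued homomorphism. -/
theorem Windows.exists_hom (hm : 4 ≤ m) :
    ∃ f : Cfsg.SU m F q →* G, ∀ i (hi : i + 4 ≤ m) B, f (win i hi B) = D.h i hi B := by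
  have hinj := D.inj_all hF m 0 (by omega) hm
  let π : D.gam 0 m →* Cfsg.SU m F q := (MonoidHom.fst _ _).comp (D.gam 0 m).subtype
  have hb : Function.Bijective π := by
    refine ⟨fun x y e => Subtype.ext (hinj.ext D x.2 y.2 e), fun g => ?_⟩
    obtain ⟨γ, hγ, e⟩ := D.exists_lift hF (a := 0) (k := m) (by omega) hm (g := g)
      (by rw [supp_iv_full]; trivial)
    exact ⟨⟨γ, hγ⟩, e⟩
  let e := MulEquiv.ofBijective π hb
  refine ⟨(MonoidHom.snd _ _).comp ((D.gam 0 m).subtype.comp e.symm.toMonoidHom), fun i hi B => ?_⟩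
  have : e.symm (win i hi B) = ⟨(win i hi B, D.h i hi B), D.graph_le hi ⟨by omega, by omega⟩ ⟨B, rfl⟩⟩ := by
    rw [MulEquiv.symm_apply_eq]
    rfl
  show ((e.symm (win i hi B) : Cfsg.SU m F q × G)).2 = _
  rw [this]

end Cfsg.Agent.Lib.PhanWeak91
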