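import Cfsg.Agent.Lib.PhanWeak91.Assemble

/-!
For `q = 3`: a subgroup `SU 2` of an image of `SU 4` centralised by a square root of its central
involution is the image of a coordinate block.
-/

set_option autoImplicit false
set_option linter.unusedSectionVars false

namespace Cfsg.Agent.Lib.PhanWeak91

open Matrix Cfsg.Agent.Lib.Forms

variable {F : Type*} [Field F] [Fintype F] {G : Type*} [Group G]

/-- A cube root of one commuting with a non-scalar square root of a scalar is trivial. -/
theorem two_block (h3 : (3 : F) = 0) {κ : F} (hκ : κ ≠ 0) {M Y : Matrix (Fin 2) (Fin 2) F} (hM : M * M = κ • 1)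
    (hns : ¬ (M 0 1 = 0 ∧ M 1 0 = 0 ∧ M 0 0 = M 1 1)) (hY : Y * Y * Y = 1) (hc : Y * M = M * Y) : Y = 1 := by
  have h2 : (2 : F) ≠ 0 := fun e => one_ne_zero (α := F) (by linear_combination h3 - e)
  have e00 := congrFun (congrFun hM 0) 0
  have e01 := congrFun (congrFun hM 0) 1
  have e10 := congrFun (congrFun hM 1) 0
  have e11 := congrFun (congrFun hM 1) 1
  simp [Matrix.mul_apply, Fin.sum_univ_two] at e00 e01 e10 e11
  have hu : M 1 1 = -M 0 0 := by
    by_contra hne
    have hs : M 0 0 + M 1 1 ≠ 0 := fun e => hne (by linear_combination e)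
    have r0 : M 0 1 = 0 := mul_left_cancel₀ hs (by linear_combination e01)
    have s0 : M 1 0 = 0 := mul_left_cancel₀ hs (by linear_combination e10)
    have : (M 0 0 - M 1 1) * (M 0 0 + M 1 1) = 0 := by linear_combination e00 - e11
    exact hns ⟨r0, s0, sub_eq_zero.1 ((mul_eq_zero.1 this).resolve_right hs)⟩
  have hdet : Y.det = 1 := by
    have h := congrArg Matrix.det hY
    rw [Matrix.det_mul, Matrix.det_mul, Matrix.det_one] at h
    have hp : (Y.det - 1) * ((Y.det - 1) * (Y.det - 1)) = 0 := by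
      linear_combination h + (Y.det - Y.det * Y.det) * h3
    rcases mul_eq_zero.1 hp with e | e
    · exact sub_eq_zero.1 e
    · exact sub_eq_zero.1 (mul_self_eq_zero.1 e)
  have hd1 : (Y - 1).det = 0 := by
    have hz : (Y - 1) * (Y - 1) * (Y - 1) = 0 := by
      have e : (Y - 1) * (Y - 1) * (Y - 1) = Y * Y * Y - 1 - (3 : F) • (Y * Y - Y) := by
        rw [show (3 : F) = 1 + 1 + 1 by norm_num, add_smul, add_smul, one_smul]
        noncomm_ring
      rw [e, hY, h3, zero_smul, sub_self, sub_zero]
    have h := congrArg Matrix.det hz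
    rw [Matrix.det_mul, Matrix.det_mul, Matrix.det_zero] at h
    exact mul_self_eq_zero.1 ((mul_eq_zero.1 h).elim id (fun e => by rw [e, mul_zero]))
  rw [Matrix.det_fin_two] at hdet
  rw [Matrix.det_fin_two] at hd1
  simp at hd1
  set x := Y 0 0 - 1 with hx
  set y := Y 0 1 with hy
  set z := Y 1 0 with hz
  have htr : Y 1 1 = 1 - x := by
    rw [hx]
    linear_combination -hd1 + hdet
  have hxyz : x * x + y * z = 0 := by
    linear_combination -hd1 + x * htr
  have c00 := congrFun (congrFun hc 0) 0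
  have c01 := congrFun (congrFun hc 0) 1
  have c10 := congrFun (congrFun hc 1) 0
  simp [Matrix.mul_apply, Fin.sum_univ_two, ← hy, ← hz, hu, htr] at c00 c01 c10
  set p := M 0 0 with hp
  set r := M 0 1 with hr
  set s := M 1 0 with hs
  have q1 : p * y = x * r := mul_left_cancel₀ h2 (by linear_combination -c01 + (0 : F) * hx)
  have q2 : p * z = x * s := mul_left_cancel₀ h2 (by linear_combination c10 + (0 : F) * hx)
  have q3 : y * s = r * z := by linear_combination c00
  set k := x * p + r * z with hk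
  have ex : κ * x = p * k := by
    rw [hk]; linear_combination (-x) * e00 - r * q2
  have ey : κ * y = r * k := by
    rw [hk]; linear_combination (-y) * e00 + p * q1 + r * q3
  have ez : κ * z = s * k := by
    rw [hk]; linear_combination (-z) * e00 + p * q2
  have hk0 : κ * (k * k) = 0 := by
    have : κ * κ * (x * x + y * z) = 0 := by rw [hxyz, mul_zero]
    linear_combination this - (κ * x + p * k) * ex - κ * z * ey - r * k * ez - (k * k) * e00
  have k0 : k = 0 := mul_self_eq_zero.1 ((mul_eq_zero.1 hk0).resolve_left hκ)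
  rw [k0, mul_zero, mul_eq_zero] at ex ey ez
  have x0 := ex.resolve_left hκ
  have y0 := ey.resolve_left hκ
  have z0 := ez.resolve_left hκ
  ext i j
  fin_cases i <;> fin_cases j
  · show Y 0 0 = _
    simp
    linear_combination hx.symm + x0
  · show Y 0 1 = _
    simpa using y0
  · show Y 1 0 = _
    simpa using z0
  · show Y 1 1 = _
    simp [htr, x0]

variable (hF : Fintype.card F = 3 ^ 2)
include hF

theorem three_ne_two : (2 : F) ≠ 0 := fun e => one_ne_zero (α := F) (by linear_combination three_eq_zero hF rfl - e)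

/-- Subspaces with orthogonal complement contain an orthonormal pair when two-dimensional. -/
theorem exists_on_pair {E E' : Submodule F (Fin 4 → F)} (hc : E ⊔ E' = ⊤)
    (ho : ∀ x ∈ E, ∀ y ∈ E', Cfsg.hermForm 4 F 3 x y = 0) (hd2 : Module.finrank F E = 2) :
    ∃ a ∈ E, ∃ b ∈ E, Cfsg.hermForm 4 F 3 a a = 1 ∧ Cfsg.hermForm 4 F 3 b b = 1 ∧
      Cfsg.hermForm 4 F 3 a b = 0 := by
  have hq0 : (3 : ℕ) ≠ 0 := by norm_num
  have nd : ∀ x ∈ E, (∀ y ∈ E, Cfsg.hermForm 4 F 3 x y = 0) → x = 0 := by
    intro x hx h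
    refine (hermSesq_goodForm (n := 4) hF).nondeg x fun w => ?_
    rw [hermSesq_apply]
    obtain ⟨e, he, e', he', rfl⟩ := Submodule.mem_sup.1 (hc ▸ Submodule.mem_top (x := w))
    rw [← herm_conj hF x (e + e'), herm_add_right hF, h e he, ho x hx e' he', add_zero, zero_pow hq0]
  have aniso : ∀ T : Submodule F (Fin 4 → F), T ≤ E → (∀ x ∈ T, Cfsg.hermForm 4 F 3 x x = 0) →
      ∀ x ∈ T, ∀ y ∈ T, Cfsg.hermForm 4 F 3 x y = 0 := fun T _ h x hx y hy => by
    have := hermitian_polarization (qPowHom_ne_id hF) (hermSesq_isSymm (n := 4) hF) T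
      (fun z hz => by rw [hermSesq_apply]; exact h z hz) y hy x hx
    simpa using this
  have norm1 : ∀ x ∈ E, Cfsg.hermForm 4 F 3 x x ≠ 0 → ∃ c : F, Cfsg.hermForm 4 F 3 (c • x) (c • x) = 1 := by
    intro x _ hx
    obtain ⟨c, hc⟩ := exists_norm hF (c := (Cfsg.hermForm 4 F 3 x x)⁻¹) (by rw [inv_pow, herm_self_fix hF])
    exact ⟨c, by rw [herm_smul_left hF, herm_smul_right hF, ← mul_assoc, hc, inv_mul_cancel₀ hx]⟩
  obtain ⟨a0, ha0, han⟩ : ∃ a ∈ E, Cfsg.hermForm 4 F 3 a a ≠ 0 := by
    by_contra hne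
    push Not at hne
    have hE : E ≠ ⊥ := fun e => by rw [e, finrank_bot] at hd2; omega
    obtain ⟨x, hx, hx0⟩ := Submodule.exists_mem_ne_zero_of_ne_bot hE
    exact hx0 (nd x hx (aniso E le_rfl hne x hx))
  obtain ⟨c, hc1⟩ := norm1 a0 ha0 han
  set a := c • a0 with ha
  have haE : a ∈ E := E.smul_mem c ha0
  obtain ⟨w, hw, hwa⟩ : ∃ w ∈ E, w ∉ (F ∙ a : Submodule F (Fin 4 → F)) := by
    by_contra hne
    push Not at hne
    have h1 : Module.finrank F E ≤ Module.finrank F (F ∙ a : Submodule F (Fin 4 → F)) :=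
      Submodule.finrank_mono hne
    have h2 : Module.finrank F (F ∙ a : Submodule F (Fin 4 → F)) ≤ 1 := by
      simpa using finrank_span_le_card ({a} : Set (Fin 4 → F))
    omega
  set b0 := w + (-(Cfsg.hermForm 4 F 3 w a)) • a with hb0
  have hb0E : b0 ∈ E := E.add_mem hw (E.smul_mem _ haE)
  have hb0a : Cfsg.hermForm 4 F 3 b0 a = 0 := by
    rw [hb0, herm_add_left hF, herm_smul_left hF, hc1]; ring
  have hb00 : b0 ≠ 0 := fun e => hwa (Submodule.mem_span_singleton.2 ⟨Cfsg.hermForm 4 F 3 w a, by
    rw [hb0, neg_smul, ← sub_eq_add_neg, sub_eq_zero] at e; exact e.symm⟩)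
  have hbn : Cfsg.hermForm 4 F 3 b0 b0 ≠ 0 := by
    intro e
    apply hb00
    refine nd b0 hb0E fun y hy => ?_
    have hli : (Submodule.span F {a, b0} : Submodule F (Fin 4 → F)) = E := by
      refine Submodule.eq_of_le_of_finrank_le (Submodule.span_le.2 (by
        intro v hv; rcases hv with rfl | rfl <;> assumption)) ?_
      rw [hd2]
      have hind : LinearIndependent F ![a, b0] := by
        rw [LinearIndependent.pair_iff]
        intro s t hst
        have h1 := congrArg (fun v => Cfsg.hermForm 4 F 3 v a) hst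
        simp only [herm_add_left hF, herm_smul_left hF, hc1, hb0a] at h1
        have hs : s = 0 := by simpa [Cfsg.hermForm] using h1
        subst hs
        simp at hst
        exact ⟨rfl, hst.resolve_right hb00⟩
      have := finrank_span_eq_card hind
      rw [Fintype.card_fin] at this
      rw [show (Set.range ![a, b0]) = {a, b0} by simp [Set.pair_comm]] at this
      exact this.ge
    rw [← hli, Submodule.mem_span_pair] at hy
    obtain ⟨s, t, rfl⟩ := hy
    rw [herm_add_right hF, herm_smul_right hF s, herm_smul_right hF t, hb0a, e]; ring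
  obtain ⟨d, hd1⟩ := norm1 b0 hb0E hbn
  exact ⟨a, haE, d • b0, E.smul_mem d hb0E, hc1, hd1, by
    rw [herm_smul_right hF, ← herm_conj hF b0 a, hb0a, zero_pow hq0, mul_zero]⟩

end Cfsg.Agent.Lib.PhanWeak91
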