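import Cfsg.Agent.Lib.PhanWeak91.PairThree

/-!
For `q = 3`: recognition of block subgroups by a central square root.
-/

set_option autoImplicit false
set_option linter.unusedSectionVars false

namespace Cfsg.Agent.Lib.PhanWeak91

open Matrix Cfsg.Agent.Lib.Forms

variable {F : Type*} [Field F] [Fintype F] {G : Type*} [Group G]

/-- The sign vector of the middle frame. -/
def sgn : Fin 4 → F := ![1, 1, -1, -1]

variable (hF : Fintype.card F = 3 ^ 2)
include hF

theorem isotropic_finrank {E : Submodule F (Fin 4 → F)}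
    (h : ∀ x ∈ E, ∀ y ∈ E, Cfsg.hermForm 4 F 3 x y = 0) : Module.finrank F E ≤ 2 := by
  have hg := hermSesq_goodForm (n := 4) hF
  have h1 := hg.finrank_add_finrank_perp E
  have h2 : E ≤ perp (hermSesq hF 4) E := fun x hx y hy => by
    rw [hermSesq_apply]
    exact h x hx y hy
  have := Submodule.finrank_mono h2
  rw [Module.finrank_fintype_fun_eq_card, Fintype.card_fin] at h1
  omega

/-- A non-scalar element of determinant one with scalar square has orthogonal eigenplanes. -/
theorem exists_eigen_frame {S : Cfsg.SU 4 F 3} {κ : F} (hκ : κ ^ 4 = 1) (hS : ∀ x, app S (app S x) = κ • x)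
    (hns : ¬ ∃ c : F, ∀ x, app S x = c • x) :
    ∃ (μ : F) (P : Matrix.GeneralLinearGroup (Fin 4) F) (hP : IsIsom 3 P), μ ^ 4 = 1 ∧ μ * μ = κ ∧
      ∀ i, app S (col P i) = (μ * sgn i) • col P i := by
  have h2 := three_ne_two hF
  have h3 := three_eq_zero hF rfl
  obtain ⟨x0, hx0⟩ := exists_neg_one hF
  obtain ⟨μ, hμ⟩ : ∃ μ : F, μ * μ = κ := by
    have e4 : x0 * x0 * (x0 * x0) = -1 := by linear_combination hx0
    have : (κ - 1) * (κ + 1) * ((κ - x0 * x0) * (κ + x0 * x0)) = 0 := by
      linear_combination hκ - (κ * κ - 1) * e4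
    rcases mul_eq_zero.1 this with h | h <;> rcases mul_eq_zero.1 h with h | h
    · exact ⟨1, by linear_combination -h⟩
    · exact ⟨x0 * x0, by linear_combination e4 - h⟩
    · exact ⟨x0, by linear_combination -h⟩
    · exact ⟨x0 * x0 * x0, by linear_combination (x0 * x0) * e4 - h⟩
  have hμ0 : μ ≠ 0 := by rintro rfl; rw [← hμ] at hκ; simp at hκ
  set f : (Fin 4 → F) →ₗ[F] (Fin 4 → F) := Matrix.mulVecLin (mat S) with hf
  have hfa : ∀ x, f x = app S x := fun _ => rfl
  let E : F → Submodule F (Fin 4 → F) := fun a => LinearMap.ker (f - a • LinearMap.id)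
  have memE : ∀ a x, x ∈ E a ↔ app S x = a • x := fun a x => by
    simp [E, LinearMap.mem_ker, hfa, sub_eq_zero]
  have hsup : E μ ⊔ E (-μ) = ⊤ := by
    refine eq_top_iff.2 fun x _ => Submodule.mem_sup.2
      ⟨(2 : F)⁻¹ • (x + μ⁻¹ • app S x), (memE _ _).2 ?_, (2 : F)⁻¹ • (x + (-μ⁻¹) • app S x), (memE _ _).2 ?_, ?_⟩
    · rw [app_smul, app_add, app_smul, hS, ← hμ, smul_smul μ⁻¹, inv_mul_cancel_left₀ hμ0, smul_comm μ]
      congr 1
      rw [smul_add, smul_smul, mul_inv_cancel₀ hμ0, one_smul, add_comm]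
    · rw [app_smul, app_add, app_smul, hS, ← hμ, smul_smul (-μ⁻¹), neg_mul, inv_mul_cancel_left₀ hμ0,
        smul_comm (-μ)]
      congr 1
      rw [smul_add, smul_smul, neg_mul_neg, mul_inv_cancel₀ hμ0, one_smul, add_comm]
    · rw [← smul_add]
      rw [show x + μ⁻¹ • app S x + (x + -μ⁻¹ • app S x) = (2 : F) • x by rw [two_smul]; module]
      rw [smul_smul, inv_mul_cancel₀ h2, one_smul]
  have hinf : Disjoint (E μ) (E (-μ)) := by
    rw [Submodule.disjoint_def]
    intro x h1 h2'
    rw [memE] at h1 h2'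
    rw [h1] at h2'
    have h4 : (μ - -μ) • x = 0 := by rw [sub_smul, h2', sub_self]
    exact (smul_eq_zero.1 h4).resolve_left (by rw [sub_neg_eq_add, ← two_mul]; exact mul_ne_zero h2 hμ0)
  have hcompl : IsCompl (E μ) (E (-μ)) := ⟨hinf, codisjoint_iff.2 hsup⟩
  have hdim : Module.finrank F (E μ) + Module.finrank F (E (-μ)) = 4 := by
    rw [Submodule.finrank_add_eq_of_isCompl hcompl, Module.finrank_fintype_fun_eq_card, Fintype.card_fin]
  -- the determinant
  have hdet : μ ^ Module.finrank F (E μ) * (-μ) ^ Module.finrank F (E (-μ)) = 1 := by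
    let e := Submodule.prodEquivOfIsCompl _ _ hcompl
    have he : f = (e.toLinearMap ∘ₗ ((μ • LinearMap.id).prodMap ((-μ) • LinearMap.id))) ∘ₗ e.symm.toLinearMap := by
      refine LinearMap.ext fun x => ?_
      obtain ⟨⟨a, b⟩, rfl⟩ := e.surjective x
      have ha : app S (a : Fin 4 → F) = μ • (a : Fin 4 → F) := (memE _ _).1 a.2
      have hb : app S (b : Fin 4 → F) = (-μ) • (b : Fin 4 → F) := (memE _ _).1 b.2
      simp only [LinearMap.comp_apply, LinearEquiv.coe_coe, LinearEquiv.symm_apply_apply,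
        LinearMap.prodMap_apply, LinearMap.smul_apply, LinearMap.id_apply]
      simp [e, hfa, app_add, ha, hb]
    have hd : LinearMap.det f = 1 := by
      rw [hf, ← Matrix.toLin'_apply', LinearMap.det_toLin']
      exact S.1.2
    rw [he, LinearMap.comp_assoc, LinearMap.det_conj, LinearMap.det_prodMap, LinearMap.det_smul, LinearMap.det_smul,
      LinearMap.det_id] at hd
    simp only [LinearMap.det_id, mul_one] at hd
    exact hd
  have hμ8 : (μ ^ 4 - 1) * (μ ^ 4 + 1) = 0 := by
    rw [← hμ] at hκ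
    linear_combination hκ
  -- eigenvectors for equal or opposite values
  have pair : ∀ a b x y, x ∈ E a → y ∈ E b →
      Cfsg.hermForm 4 F 3 x y = a * b ^ 3 * Cfsg.hermForm 4 F 3 x y := by
    intro a b x y hx hy
    have := herm_app S x y
    rw [(memE _ _).1 hx, (memE _ _).1 hy, herm_smul_left hF, herm_smul_right hF] at this
    linear_combination -this
  have neg_add : ∀ a b, a * b ^ 3 ≠ 1 → ∀ x ∈ E a, ∀ y ∈ E b, Cfsg.hermForm 4 F 3 x y = 0 := by
    intro a b hab x hx y hy
    have := pair a b x y hx hy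
    by_contra hne
    exact hab (mul_right_cancel₀ hne (by linear_combination -this))
  rcases mul_eq_zero.1 hμ8 with h8 | h8
  swap
  · -- both planes would be totally isotropic
    exfalso
    have i1 := isotropic_finrank hF (E := E μ) (neg_add μ μ (fun e => h2 (by linear_combination h8 - e)))
    have i2 := isotropic_finrank hF (E := E (-μ))
      (neg_add (-μ) (-μ) (fun e => h2 (by linear_combination h8 - e)))
    rw [show Module.finrank F (E μ) = 2 by omega, show Module.finrank F (E (-μ)) = 2 by omega] at hdet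
    exact h2 (by linear_combination h8 - hdet)
  have hμ4 : μ ^ 4 = 1 := by linear_combination h8
  have hns' : ∀ a, E a ≠ ⊤ := fun a e => hns ⟨a, fun x => (memE _ _).1 (e ▸ Submodule.mem_top)⟩
  have htop : ∀ a, Module.finrank F (E a) = 4 → False := fun a e => hns' a (Submodule.eq_top_of_finrank_eq (by
    rw [e, Module.finrank_fintype_fun_eq_card, Fintype.card_fin]))
  have hb2 : Module.finrank F (E μ) = 2 ∧ Module.finrank F (E (-μ)) = 2 := by
    have t1 := htop μ
    have t2 := htop (-μ)
    rcases (by omega : (Module.finrank F (E μ) = 2 ∧ Module.finrank F (E (-μ)) = 2) ∨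
      (Module.finrank F (E μ) = 1 ∧ Module.finrank F (E (-μ)) = 3) ∨
      (Module.finrank F (E μ) = 3 ∧ Module.finrank F (E (-μ)) = 1) ∨
      Module.finrank F (E μ) = 4 ∨ Module.finrank F (E (-μ)) = 4) with h | ⟨h, h'⟩ | ⟨h, h'⟩ | h | h
    · exact h
    · exfalso; rw [h, h'] at hdet; exact h2 (by linear_combination -hdet - hμ4)
    · exfalso; rw [h, h'] at hdet; exact h2 (by linear_combination -hdet - hμ4)
    · exact absurd h t1
    · exact absurd h t2
  have ho : ∀ x ∈ E μ, ∀ y ∈ E (-μ), Cfsg.hermForm 4 F 3 x y = 0 :=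
    neg_add μ (-μ) (fun e => h2 (by linear_combination -e - hμ4))
  have ho' : ∀ x ∈ E (-μ), ∀ y ∈ E μ, Cfsg.hermForm 4 F 3 x y = 0 :=
    neg_add (-μ) μ (fun e => h2 (by linear_combination -e - hμ4))
  obtain ⟨a, ha, b, hb, haa, hbb, hab⟩ := exists_on_pair hF hsup ho hb2.1
  obtain ⟨c, hc, d, hd, hcc, hdd, hcd⟩ := exists_on_pair hF (by rw [sup_comm]; exact hsup) ho' hb2.2
  have hba : Cfsg.hermForm 4 F 3 b a = 0 := by rw [← herm_conj hF a b, hab]; simp
  have hdc : Cfsg.hermForm 4 F 3 d c = 0 := by rw [← herm_conj hF c d, hcd]; simp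
  obtain ⟨P, hP, hcol⟩ := exists_frame hF ![a, b, c, d] (by
    intro i j
    fin_cases i <;> fin_cases j <;>
      simp [haa, hbb, hab, hba, hcc, hdd, hcd, hdc, ho a ha c hc, ho a ha d hd, ho b hb c hc, ho b hb d hd,
        ho' c hc a ha, ho' c hc b hb, ho' d hd a ha, ho' d hd b hb])
  refine ⟨μ, P, hP, hμ4, hμ, fun i => ?_⟩
  rw [hcol]
  fin_cases i <;> simp [sgn, (memE _ _).1 ha, (memE _ _).1 hb, (memE _ _).1 hc, (memE _ _).1 hd]

/-- A subgroup `SU 2` centralised by a square root of a non-central involution of itself is a block image. -/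
theorem exists_pair_three (g : Cfsg.SU 4 F 3 →* G) (hker : g.ker ≤ Subgroup.center _) (U : Subgroup G)
    (hUle : U ≤ g.range) (e : Cfsg.SU 2 F 3 ≃* U) {c : G} (hc : c ∈ g.range)
    (hcU : ∀ u ∈ U, c * u = u * c) (htU : c * c ∈ U) (ht4 : c * c * (c * c) = 1)
    (htc : ∃ v ∈ g.range, c * c * v ≠ v * (c * c)) :
    ∃ (P : Matrix.GeneralLinearGroup (Fin 4) F) (hP : IsIsom 3 P), U = (blk P hP q01).map g := by
  classical
  have h3 := three_eq_zero hF rfl
  obtain ⟨C, rfl⟩ := hc
  let gens : Set (Cfsg.SU 4 F 3) := {X | X ^ 3 = 1 ∧ g X ∈ U}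
  set Ust := Subgroup.closure gens with hUst
  have hgU : Ust.map g = U := by
    refine le_antisymm ?_ ?_
    · rw [hUst, MonoidHom.map_closure, Subgroup.closure_le]
      rintro _ ⟨X, hX, rfl⟩; exact hX.2
    · have hlift : ∀ A : Cfsg.SU 2 F 3, A ^ 3 = 1 → ((e A : U) : G) ∈ Ust.map g := by
        intro A hA
        obtain ⟨X0, hX0⟩ := hUle (e A).2
        have hk : X0 ^ 3 ∈ g.ker := by
          rw [MonoidHom.mem_ker, map_pow, hX0, ← SubmonoidClass.coe_pow, ← map_pow, hA, map_one]
          rfl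
        obtain ⟨a, ha, hz⟩ := center_scalar hF (hker hk)
        refine ⟨X0 * X0 ^ 3, Subgroup.subset_closure ⟨?_, ?_⟩, ?_⟩
        · have hcm : Commute X0 (X0 ^ 3) := Commute.self_pow _ _
          rw [hcm.mul_pow]
          refine ext_app fun x => ?_
          rw [app_mul, show (X0 ^ 3) ^ 3 = X0 ^ 3 * X0 ^ 3 * X0 ^ 3 by rw [pow_succ, pow_two], app_mul, app_mul,
            app_one]
          simp only [hz, app_smul, smul_smul]
          rw [show a * (a * (a * a)) = a ^ 4 by ring, ha, one_smul]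
        · rw [map_mul, hX0, MonoidHom.mem_ker.1 hk, mul_one]; exact (e A).2
        · rw [map_mul, hX0, MonoidHom.mem_ker.1 hk, mul_one]
      intro u hu
      have : (⊤ : Subgroup (Cfsg.SU 2 F 3)) ≤ (Ust.map g).comap (U.subtype.comp e.toMonoidHom) := by
        rw [← gen_p hF (Or.inr rfl), Subgroup.closure_le]
        intro A hA; exact hlift A hA
      have := this (Subgroup.mem_top (e.symm ⟨u, hu⟩))
      simpa using this
  have hCc : ∀ X ∈ gens, C * X = X * C := fun X hX =>
    exact_comm hF (Or.inr rfl) g hker hX.1 (hcU _ hX.2)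
  have hk4 : C * C * (C * C) ∈ g.ker := by rw [MonoidHom.mem_ker, map_mul, map_mul, ht4]
  obtain ⟨κ, hκ, hCz⟩ := center_scalar hF (hker hk4)
  obtain ⟨μ, P, hP, hμ4, hμκ, hcolP⟩ := exists_eigen_frame hF (S := C * C) hκ
    (fun x => by rw [← app_mul, hCz]) (fun ⟨a, ha⟩ => by
      obtain ⟨v, ⟨V, rfl⟩, hv⟩ := htc
      apply hv
      rw [← map_mul, ← map_mul, ← map_mul, scalar_commute hF ha])
  have hμ0 : μ ≠ 0 := by rintro rfl; simp at hμ4
  obtain ⟨C', hC'⟩ := conjIso_surjective P hP C
  have hsq : ∀ j, app (C' * C') (ev j) = (μ * sgn j) • (ev j : Fin 4 → F) := fun j => by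
    have := hcolP j
    rw [col, ← hC', ← map_mul, app_conjIso, ← Matrix.mulVec_smul] at this
    have e' := congrArg (fun y => (↑P⁻¹ : Matrix (Fin 4) (Fin 4) F) *ᵥ y) this
    simpa [Matrix.mulVec_mulVec] using e'
  have hoff : ∀ A : Cfsg.SU 4 F 3, A * (C' * C') = C' * C' * A → ∀ i j, (sgn i : F) ≠ sgn j → mat A i j = 0 := by
    intro A hA i j hij
    have hD : ∀ x : Fin 4 → F, app (C' * C') x = fun t => μ * sgn t * x t := fun x => by
      conv_lhs => rw [← sum_ev x, app_sum]
      funext t
      simp [app_smul, hsq, Finset.sum_apply, ev_apply, mul_comm]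
    have e' := congrFun (congrArg (fun X => app X (ev j)) hA) i
    simp only [app_mul A, app_mul (C' * C'), hD (app A (ev j))] at e'
    rw [hsq, app_smul, Pi.smul_apply, smul_eq_mul, app_ev] at e'
    apply mul_left_cancel₀ (mul_ne_zero hμ0 (sub_ne_zero.2 hij))
    linear_combination -e'
  -- the two diagonal blocks
  let B : Cfsg.SU 4 F 3 → Bool → Matrix (Fin 2) (Fin 2) F := fun A s =>
    Matrix.of fun i j => mat A (if s then ![2, 3] i else ![0, 1] i) (if s then ![2, 3] j else ![0, 1] j)
  have hBmul : ∀ A A' : Cfsg.SU 4 F 3, (∀ i j, (sgn i : F) ≠ sgn j → mat A i j = 0) → ∀ s, B (A * A') s = B A s * B A' s := by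
    intro A A' hA s
    have h2 := three_ne_two hF
    have o : ∀ i j : Fin 4, (sgn i : F) * sgn j = -1 → mat A i j = 0 := fun i j h => hA i j (fun e' => by
      rw [e'] at h
      have : (sgn j : F) * sgn j = 1 := by fin_cases j <;> simp [sgn]
      exact h2 (by linear_combination h - this))
    ext i j
    cases s <;> fin_cases i <;> fin_cases j <;>
      simp [B, mat_mul, Matrix.mul_apply, Fin.sum_univ_four, Fin.sum_univ_two,
        o 0 2 (by simp [sgn]), o 0 3 (by simp [sgn]), o 1 2 (by simp [sgn]), o 1 3 (by simp [sgn]),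
        o 2 0 (by simp [sgn]), o 2 1 (by simp [sgn]), o 3 0 (by simp [sgn]), o 3 1 (by simp [sgn])]
  have hC'off := hoff C' (by group)
  have hB2 : ∀ s, B C' s * B C' s = (if s then -μ else μ) • 1 := fun s => by
    rw [← hBmul C' C' hC'off]
    ext i j
    simp only [B, Matrix.of_apply]
    rw [← app_ev, hsq, Pi.smul_apply, ev_apply]
    cases s <;> fin_cases i <;> fin_cases j <;> simp [sgn]
  let Scal : Bool → Prop := fun s => B C' s 0 1 = 0 ∧ B C' s 1 0 = 0 ∧ B C' s 0 0 = B C' s 1 1
  have hnot : ¬ (Scal false ∧ Scal true) := by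
    rintro ⟨⟨a01, a10, a00⟩, ⟨b01, b10, b00⟩⟩
    simp [B] at a01 a10 a00 b01 b10 b00
    have o : ∀ i j : Fin 4, (sgn i : F) * sgn j = -1 → mat C' i j = 0 := fun i j h => hC'off i j (fun e' => by
      rw [e'] at h
      have : (sgn j : F) * sgn j = 1 := by fin_cases j <;> simp [sgn]
      exact three_ne_two hF (by linear_combination h - this))
    have hdiag : mat C' = Matrix.diagonal ![mat C' 0 0, mat C' 0 0, mat C' 2 2, mat C' 2 2] := by
      ext i j
      fin_cases i <;> fin_cases j <;> simp [a01, a10, a00, b01, b10, b00,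
        o 0 2 (by simp [sgn]), o 0 3 (by simp [sgn]), o 1 2 (by simp [sgn]), o 1 3 (by simp [sgn]),
        o 2 0 (by simp [sgn]), o 2 1 (by simp [sgn]), o 3 0 (by simp [sgn]), o 3 1 (by simp [sgn])]
    have hd : (mat C').det = 1 := C'.1.2
    rw [hdiag, Matrix.det_diagonal, Fin.prod_univ_four] at hd
    simp at hd
    have s0 := congrFun (congrFun (hB2 false) 0) 0
    have s1 := congrFun (congrFun (hB2 true) 0) 0
    simp [B, Matrix.mul_apply, Fin.sum_univ_two, a01, b01] at s0 s1
    have hn := herm_app C' (ev 0) (ev 0)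
    rw [herm_ev_ev hF] at hn
    simp [Cfsg.hermForm, Fin.sum_univ_four, app_ev, a10, o 2 0 (by simp [sgn]), o 3 0 (by simp [sgn])] at hn
    set u := mat C' 0 0 with hu
    set v := mat C' 2 2 with hv
    have e2 : (2 : F) = 0 := by
      linear_combination -hd + (v * v) * s0 + μ * s1 - hn + (u * u + μ) * s0
    exact three_ne_two hF e2
  have triv : ∀ s, ¬ Scal s → ∀ X ∈ gens, ∀ X', conjIso P hP X' = X → B X' s = 1 ∧
      ∀ i j, (sgn i : F) ≠ sgn j → mat X' i j = 0 := by
    intro s hs X hX X' hX'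
    have hcm : C' * X' = X' * C' := conjIso_injective P hP (by rw [map_mul, map_mul, hC', hX', hCc X hX])
    have hoffX := hoff X' (by rw [← mul_assoc, ← hcm, mul_assoc, ← hcm, mul_assoc])
    refine ⟨two_block h3 (κ := if s then -μ else μ) (by cases s <;> simp [hμ0]) (hB2 s) hs ?_ ?_, hoffX⟩
    · have h1 : X' ^ 3 = 1 := conjIso_injective P hP (by rw [map_pow, hX', hX.1, map_one])
      rw [pow_succ', pow_two] at h1
      rw [mul_assoc, ← hBmul X' X' hoffX, ← hBmul X' _ hoffX, h1]
      ext i j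
      cases s <;> fin_cases i <;> fin_cases j <;> simp [B, mat_one]
    · rw [← hBmul X' C' hoffX, ← hBmul C' X' hC'off, hcm]
  have blk_final : ∀ (Q : Matrix.GeneralLinearGroup (Fin 4) F) (hQ : IsIsom 3 Q),
      gens ⊆ blk Q hQ q01 → U = (blk Q hQ q01).map g := by
    intro Q hQ hsub
    have hle : U ≤ (blk Q hQ q01).map g := by
      rw [← hgU]; exact Subgroup.map_mono ((Subgroup.closure_le _).2 hsub)
    haveI : Finite ((blk Q hQ q01).map g) :=
      Finite.of_surjective _ (g.subgroupMap_surjective (blk Q hQ q01))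
    refine Subgroup.eq_of_le_of_card_ge hle ?_
    calc Nat.card ((blk Q hQ q01).map g)
        ≤ Nat.card (blk Q hQ q01) :=
          Nat.card_le_card_of_surjective _ (g.subgroupMap_surjective (blk Q hQ q01))
      _ = Nat.card (Cfsg.SU 2 F 3) := by rw [card_blk, card_supp_iv hF (by norm_num)]
      _ = Nat.card U := Nat.card_congr e.toEquiv
  by_cases hs1 : Scal true
  · -- the first block is not scalar: the generators fix it
    have hs0 : ¬ Scal false := fun h => hnot ⟨h, hs1⟩
    obtain ⟨Q, hQ, hQc⟩ := exists_frame hF ![col P 2, col P 3, col P 0, col P 1] (by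
      intro i j
      fin_cases i <;> fin_cases j <;> simp [col_on hF hP _ _])
    refine ⟨Q, hQ, blk_final Q hQ fun X hX => (mem_blk hQ).2 fun i hi => ?_⟩
    obtain ⟨X', rfl⟩ := conjIso_surjective P hP X
    obtain ⟨hB, hof⟩ := triv false hs0 _ hX X' rfl
    have b00 := congrFun (congrFun hB 0) 0
    have b01 := congrFun (congrFun hB 0) 1
    have b10 := congrFun (congrFun hB 1) 0
    have b11 := congrFun (congrFun hB 1) 1
    simp [B] at b00 b01 b10 b11
    have fix : ∀ j : Fin 4, (j = 0 ∨ j = 1) → app X' (ev j) = ev j := by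
      intro j hj
      funext t
      rw [app_ev, ev_apply]
      rcases hj with rfl | rfl <;> fin_cases t <;>
        first
        | (simp [b00, b01, b10, b11]; done)
        | (rw [hof _ _ (by simp [sgn]; intro h; exact three_ne_two hF (by linear_combination -h))]; simp)
        | (rw [hof _ _ (by simp [sgn]; intro h; exact three_ne_two hF (by linear_combination h))]; simp)
    rw [hQc]
    have hi' : i = 2 ∨ i = 3 := by fin_cases i <;> simp [q01, iv] at hi ⊢
    rcases hi' with rfl | rfl
    · show app _ (col P 0) = col P 0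
      rw [col, app_conjIso, fix 0 (Or.inl rfl)]
    · show app _ (col P 1) = col P 1
      rw [col, app_conjIso, fix 1 (Or.inr rfl)]
  · refine ⟨P, hP, blk_final P hP fun X hX => (mem_blk hP).2 fun i hi => ?_⟩
    obtain ⟨X', rfl⟩ := conjIso_surjective P hP X
    obtain ⟨hB, hof⟩ := triv true hs1 _ hX X' rfl
    have b00 := congrFun (congrFun hB 0) 0
    have b01 := congrFun (congrFun hB 0) 1
    have b10 := congrFun (congrFun hB 1) 0
    have b11 := congrFun (congrFun hB 1) 1
    simp [B] at b00 b01 b10 b11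
    have fix : ∀ j : Fin 4, (j = 2 ∨ j = 3) → app X' (ev j) = ev j := by
      intro j hj
      funext t
      rw [app_ev, ev_apply]
      rcases hj with rfl | rfl <;> fin_cases t <;>
        first
        | (simp [b00, b01, b10, b11]; done)
        | (rw [hof _ _ (by simp [sgn]; intro h; exact three_ne_two hF (by linear_combination -h))]; simp)
        | (rw [hof _ _ (by simp [sgn]; intro h; exact three_ne_two hF (by linear_combination h))]; simp)
    rw [col, app_conjIso, fix i (by fin_cases i <;> simp [q01, iv] at hi ⊢)]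

end Cfsg.Agent.Lib.PhanWeak91
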