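import Cfsg.Agent.Lib.PhanWeak91.Auto

/-!
Rigidity of the pair of coordinate blocks in `SU 3` for `q = 2, 3`.
-/

set_option autoImplicit false
set_option linter.unusedSectionVars false

namespace Cfsg.Agent.Lib.PhanWeak91

open Matrix Cfsg.Agent.Lib.Forms

variable {F : Type*} [Field F] [Fintype F] {q : ℕ}

/-- The first pair in three coordinates. -/
def p01 : Cfsg.SU 2 F q →* Cfsg.SU 3 F q := emb (ivf 0 2 (by norm_num)) (ivf_injective _ _ _)

/-- The last pair in three coordinates. -/
def p12 : Cfsg.SU 2 F q →* Cfsg.SU 3 F q := emb (ivf 1 2 (by norm_num)) (ivf_injective _ _ _)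

theorem p01_injective : Function.Injective (p01 (F := F) (q := q)) := emb_injective _

theorem p12_injective : Function.Injective (p12 (F := F) (q := q)) := emb_injective _

theorem app_p01 (A : Cfsg.SU 2 F q) (x : Fin 3 → F) :
    app (p01 A) x = ![app A ![x 0, x 1] 0, app A ![x 0, x 1] 1, x 2] := by
  have e : (fun j => x (ivf 0 2 (by norm_num : 0 + 2 ≤ 3) j)) = ![x 0, x 1] := by
    funext j; fin_cases j <;> rfl
  funext i
  fin_cases i
  · exact (app_emb_range _ A x 0).trans (by rw [e]; rfl)
  · exact (app_emb_range _ A x 1).trans (by rw [e]; rfl)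
  · exact app_emb_off _ A x (by rw [range_ivf]; simp [iv])

theorem app_p12 (A : Cfsg.SU 2 F q) (x : Fin 3 → F) :
    app (p12 A) x = ![x 0, app A ![x 1, x 2] 0, app A ![x 1, x 2] 1] := by
  have e : (fun j => x (ivf 1 2 (by norm_num : 1 + 2 ≤ 3) j)) = ![x 1, x 2] := by
    funext j; fin_cases j <;> rfl
  funext i
  fin_cases i
  · exact app_emb_off _ A x (by rw [range_ivf]; simp [iv])
  · exact (app_emb_range _ A x 0).trans (by rw [e]; rfl)
  · exact (app_emb_range _ A x 1).trans (by rw [e]; rfl)

variable (hF : Fintype.card F = q ^ 2)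
include hF

theorem range_p01 : (p01 (F := F) (q := q)).range = supp (iv 0 2) := by rw [p01, range_emb hF, range_ivf]

theorem range_p12 : (p12 (F := F) (q := q)).range = supp (iv 1 2) := by rw [p12, range_emb hF, range_ivf]

theorem pow_succ_eq_one {x : F} (hx : x * x ^ q = 1) : x ^ (q + 1) = 1 := by rw [pow_succ', hx]

theorem two_eq_zero (hq : q = 2) : (2 : F) = 0 := by
  subst hq
  have h := FiniteField.cast_card_eq_zero F
  rw [hF] at h
  push_cast at h
  exact mul_self_eq_zero.1 (by linear_combination h)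

theorem three_eq_zero (hq : q = 3) : (3 : F) = 0 := by
  subst hq
  have h := FiniteField.cast_card_eq_zero F
  rw [hF] at h
  push_cast at h
  exact mul_self_eq_zero.1 (by linear_combination h)

theorem pow_card_sub_one {x : F} (hx : x ≠ 0) : x ^ (q ^ 2 - 1) = 1 := by
  rw [← hF]; exact FiniteField.pow_card_sub_one_eq_one x hx

theorem norm_two (hq : q = 2) {x : F} (hx : x ≠ 0) : x * x ^ q = 1 := by
  have := pow_card_sub_one hF hx
  subst hq
  norm_num at this
  linear_combination this

theorem norm_three (hq : q = 3) {x : F} (hx : x ≠ 0) : x * x ^ q = 1 ∨ x * x ^ q = -1 := by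
  have := pow_card_sub_one hF hx
  subst hq
  norm_num at this
  apply eq_or_eq_neg_of_sq_eq_sq
  linear_combination this

theorem exists_lam (hq : q = 2 ∨ q = 3) : ∃ l : F, l * l ^ q = 1 ∧ l * l ≠ 1 ∧
    (q = 3 → l * l = -1) ∧ ∀ μ : F, μ * μ ^ q = 1 → μ * μ ≠ 1 → μ = l ∨ μ = l ^ q := by
  rcases hq with hq | hq
  · obtain ⟨a, ha⟩ : ∃ a : F, a ^ q ≠ a := by
      by_contra hne
      push Not at hne
      exact qPowHom_ne_id hF (RingHom.ext fun x => by rw [qPowHom_apply, RingHom.id_apply, hne x])
    have h2 := two_eq_zero hF hq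
    have ha0 : a ≠ 0 := by rintro rfl; exact ha (zero_pow (q_pos hF).ne')
    have hn := norm_two hF hq ha0
    subst hq
    have ha1 : a ≠ 1 := by rintro rfl; exact ha (one_pow _)
    have root : ∀ μ : F, μ * μ ^ 2 = 1 → μ ≠ 1 → μ * μ + μ + 1 = 0 := fun μ h1 h2' => by
      apply mul_left_cancel₀ (sub_ne_zero.2 h2')
      linear_combination h1
    refine ⟨a, hn, fun e => ha1 ?_, fun h => absurd h (by norm_num), fun μ h1 h1' => ?_⟩
    · linear_combination hn - a * e
    · have r1 := root a hn ha1
      have r2 := root μ h1 (fun e => h1' (by rw [e, mul_one]))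
      rcases mul_eq_zero.1 (show (μ - a) * (μ - a ^ 2) = 0 by
        linear_combination r2 - r1 * μ - (1 - hn) * 0 + hn + (1 - μ + 0) * 0) with h | h
      · exact Or.inl (sub_eq_zero.1 h)
      · exact Or.inr (sub_eq_zero.1 h)
  · obtain ⟨x, hx⟩ := exists_neg_one hF
    have h3 := three_eq_zero hF hq
    subst hq
    have hll : x * x * (x * x) = -1 := by linear_combination hx
    refine ⟨x * x, by linear_combination (x * x ^ 3 - 1) * hx, fun e => ?_, fun _ => hll, fun μ h1 h1' => ?_⟩
    · exact one_ne_zero (α := F) (by linear_combination h3 + e - hll)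
    · have hm : μ * μ = -1 := by
        rcases mul_eq_zero.1 (show (μ * μ - 1) * (μ * μ + 1) = 0 by linear_combination h1) with h | h
        · exact absurd (sub_eq_zero.1 h) h1'
        · exact eq_neg_of_add_eq_zero_left h
      rcases mul_eq_zero.1 (show (μ - x * x) * (μ - (x * x) ^ 3) = 0 by
        linear_combination hm + (-μ * (x * x) + x * x * (x * x) - 1) * hll) with h | h
      · exact Or.inl (sub_eq_zero.1 h)
      · exact Or.inr (sub_eq_zero.1 h)

/-- An automorphism of `SU 2` fixing the torus generator and the swap is trivial. -/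
theorem rigid2 (hq : q = 2 ∨ q = 3) {l : F} (hl : l * l ^ q = 1) (hl2 : l * l ≠ 1) (hl3 : q = 3 → l * l = -1)
    (hμ : ∀ μ : F, μ * μ ^ q = 1 → μ * μ ≠ 1 → μ = l ∨ μ = l ^ q)
    (δ : Cfsg.SU 2 F q →* Cfsg.SU 2 F q) (ht : l * l ^ q + (0 : F) * 0 ^ q = 1)
    (hδt : δ (el2 hF l 0 ht) = el2 hF l 0 ht) (hs : (0 : F) * 0 ^ q + 1 * 1 ^ q = 1)
    (hδs : δ (el2 hF 0 1 hs) = el2 hF 0 1 hs) (g : Cfsg.SU 2 F q) : δ g = g := by
  have hq0 := q_pos hF
  -- diagonal elements
  have fd : ∀ μ : F, ∀ h, δ (el2 hF μ 0 h) = el2 hF μ 0 h := by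
    intro μ h
    have hn : μ * μ ^ q = 1 := by simpa [zero_pow hq0.ne'] using h
    by_cases h2 : μ * μ = 1
    · rcases mul_self_eq_one_iff.1 h2 with rfl | rfl
      · have : el2 hF (1 : F) 0 h = 1 := ext_app fun x => by
          rw [app_el2, app_one]; funext i; fin_cases i <;> simp [zero_pow hq0.ne']
        rw [this, map_one]
      · rcases hq with hq | hq
        · have h2' := two_eq_zero hF hq
          have e : (-1 : F) = 1 := by linear_combination -h2'
          have : el2 hF (-1 : F) 0 h = 1 := ext_app fun x => by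
            rw [app_el2, app_one]; funext i; fin_cases i <;> simp [zero_pow hq0.ne', e]
          rw [this, map_one]
        · obtain ⟨h', e⟩ := el2_mul hF ht ht
          have : el2 hF (-1 : F) 0 h = el2 hF l 0 ht * el2 hF l 0 ht := by
            rw [e, el2_ext]; exact ⟨by rw [hl3 hq]; simp, by simp⟩
          rw [this, map_mul, hδt]
    · rcases hμ μ hn h2 with rfl | rfl
      · exact hδt
      · obtain ⟨h', e⟩ := el2_inv hF ht
        have : el2 hF (l ^ q) 0 h = (el2 hF l 0 ht)⁻¹ := by
          rw [e, el2_ext]; exact ⟨rfl, neg_zero.symm⟩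
        rw [this, map_inv, hδt]
  have fm : ∀ b : F, ∀ h, δ (el2 hF 0 b h) = el2 hF 0 b h := by
    intro b h
    have hb : b * b ^ q = 1 := by simpa using h
    have hbd : b ^ q * (b ^ q) ^ q + (0 : F) * 0 ^ q = 1 := by
      rw [pow_q_pow_q hF, zero_mul, add_zero, mul_comm]; exact hb
    obtain ⟨h', e⟩ := el2_mul hF hbd hs
    have : el2 hF 0 b h = el2 hF (b ^ q) 0 hbd * el2 hF 0 1 hs := by
      rw [e, el2_ext]; exact ⟨by simp [zero_pow hq0.ne'], by simp [pow_q_pow_q hF]⟩
    rw [this, map_mul, hδs, fd]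
  obtain ⟨a, b, hab, rfl⟩ := exists_el2 hF g
  by_cases ha : a = 0
  · subst ha; exact fm b hab
  by_cases hb : b = 0
  · subst hb; exact fd a hab
  rcases hq with hq | hq
  · exfalso
    rw [norm_two hF hq ha, norm_two hF hq hb] at hab
    exact one_ne_zero (α := F) (by linear_combination hab)
  · have h3 := three_eq_zero hF hq
    have na : a * a ^ q = -1 ∧ b * b ^ q = -1 := by
      rcases norm_three hF hq ha with e1 | e1 <;> rcases norm_three hF hq hb with e2 | e2
      · rw [e1, e2] at hab; exact absurd hab (fun h => one_ne_zero (α := F) (by linear_combination h))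
      · rw [e1, e2] at hab; exact absurd hab (fun h => one_ne_zero (α := F) (by linear_combination -h))
      · rw [e1, e2] at hab; exact absurd hab (fun h => one_ne_zero (α := F) (by linear_combination -h))
      · exact ⟨e1, e2⟩
    -- monomial elements are fixed
    have fmono : ∀ x y : F, ∀ h, x ^ q = -x → δ (el2 hF x y h) = el2 hF x y h := by
      intro x y h hx
      by_cases hx0 : x = 0
      · subst hx0; exact fm y h
      have hxx : x * x ^ q = 1 := by
        have e : x * x = -1 := by
          apply mul_left_cancel₀ hx0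
          rw [hq] at hx
          linear_combination hx
        rw [hx]; linear_combination -e
      have hy : y = 0 := by
        by_contra hy
        rw [hxx] at h
        exact mul_ne_zero hy (pow_ne_zero _ hy) (by linear_combination h)
      subst hy; exact fd x h
    obtain ⟨hi, einv⟩ := el2_inv hF hab
    have hconjt : δ (el2 hF a b hab * el2 hF l 0 ht * (el2 hF a b hab)⁻¹) =
        el2 hF a b hab * el2 hF l 0 ht * (el2 hF a b hab)⁻¹ := by
      rw [einv]
      obtain ⟨h1, e1⟩ := el2_mul hF hab ht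
      rw [e1]
      obtain ⟨h2, e2⟩ := el2_mul hF h1 hi
      rw [e2]
      apply fmono
      have hlq : l ^ q = -l := by
        have := hl3 hq
        linear_combination (-l) * hl + l ^ q * this
      simp only [mul_zero, sub_zero, add_zero, mul_neg, sub_neg_eq_add, mul_pow, hlq]
      have ez : a * l * a ^ q + -(b ^ q * l) * b = 0 := by linear_combination l * na.1 - l * na.2
      rw [ez, neg_zero, zero_pow hq0.ne']
    have hconjs : δ (el2 hF a b hab * el2 hF 0 1 hs * (el2 hF a b hab)⁻¹) =
        el2 hF a b hab * el2 hF 0 1 hs * (el2 hF a b hab)⁻¹ := by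
      rw [einv]
      obtain ⟨h1, e1⟩ := el2_mul hF hab hs
      rw [e1]
      obtain ⟨h2, e2⟩ := el2_mul hF h1 hi
      rw [e2]
      apply fmono
      have e : ∀ u v : F, (u - v) ^ q = u ^ q - v ^ q := fun u v => by simpa using map_sub (qPowHom hF) u v
      have e' : ∀ u v : F, (u + v) ^ q = u ^ q + v ^ q := fun u v => by simpa using map_add (qPowHom hF) u v
      simp only [mul_one, mul_zero, zero_sub, zero_add, mul_neg, sub_neg_eq_add, e, e', mul_pow, q_neg' hF,
        pow_q_pow_q hF, neg_mul]
      ring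
    set A := el2 hF a b hab with hA
    set z := A⁻¹ * δ A with hz
    have hzt : z * el2 hF l 0 ht = el2 hF l 0 ht * z := by
      have h := hconjt
      rw [map_mul, map_mul, map_inv, hδt] at h
      rw [hz]
      calc A⁻¹ * δ A * el2 hF l 0 ht
          = A⁻¹ * (δ A * el2 hF l 0 ht * (δ A)⁻¹) * δ A := by group
        _ = A⁻¹ * (A * el2 hF l 0 ht * A⁻¹) * δ A := by rw [h]
        _ = el2 hF l 0 ht * (A⁻¹ * δ A) := by group
    have hzs : z * el2 hF 0 1 hs = el2 hF 0 1 hs * z := by
      have h := hconjs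
      rw [map_mul, map_mul, map_inv, hδs] at h
      rw [hz]
      calc A⁻¹ * δ A * el2 hF 0 1 hs
          = A⁻¹ * (δ A * el2 hF 0 1 hs * (δ A)⁻¹) * δ A := by group
        _ = A⁻¹ * (A * el2 hF 0 1 hs * A⁻¹) * δ A := by rw [h]
        _ = el2 hF 0 1 hs * (A⁻¹ * δ A) := by group
    obtain ⟨c, d, hcd, hzv⟩ := exists_el2 hF z
    have hd0 : d = 0 := by
      rw [hzv] at hzt
      obtain ⟨_, e1⟩ := el2_mul hF hcd ht
      obtain ⟨_, e2⟩ := el2_mul hF ht hcd
      rw [e1, e2, el2_ext] at hzt
      have h2 := hzt.2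
      simp only [mul_zero, add_zero, zero_mul, zero_add] at h2
      have hne : l - l ^ q ≠ 0 := fun e => hl2 (by linear_combination hl + l * e)
      exact mul_left_cancel₀ hne (by linear_combination h2)
    subst hd0
    have hcq : c ^ q = c := by
      rw [hzv] at hzs
      obtain ⟨_, e1⟩ := el2_mul hF hcd hs
      obtain ⟨_, e2⟩ := el2_mul hF hs hcd
      rw [e1, e2, el2_ext] at hzs
      simpa [zero_pow hq0.ne'] using hzs.2
    have hc2 : c * c = 1 := by
      have : c * c ^ q = 1 := by simpa using hcd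
      rwa [hcq] at this
    have hδA : δ A = A * z := by rw [hz]; group
    have hzc : ∀ x : Cfsg.SU 2 F q, z * x = x * z := by
      intro x
      obtain ⟨u, v, huv, rfl⟩ := exists_el2 hF x
      obtain ⟨_, e1⟩ := el2_mul hF hcd huv
      obtain ⟨_, e2⟩ := el2_mul hF huv hcd
      rw [hzv, e1, e2, el2_ext]
      exact ⟨by simp [zero_pow hq0.ne']; ring, by simp [hcq]; ring⟩
    have hz2 : z * z = 1 := by
      obtain ⟨_, e1⟩ := el2_mul hF hcd hcd
      refine ext_app fun x => ?_
      rw [hzv, e1, app_el2, app_one]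
      have : (c * c) ^ q = 1 := by rw [hc2, one_pow]
      funext i; fin_cases i <;> simp [hc2, zero_pow hq0.ne']
    obtain ⟨T, hT, h33⟩ : ∃ T : F, ∃ h, A * A * A = el2 hF (-T) 0 h := by
      obtain ⟨h1, e1⟩ := el2_mul hF hab hab
      obtain ⟨h2, e2⟩ := el2_mul hF h1 hab
      obtain ⟨c', d', h', e'⟩ := exists_el2 hF (A * A * A)
      have e3 := e'
      rw [hA, e1, e2, el2_ext] at e3
      have hd' : d' = 0 := by
        rw [← e3.2]
        have hA4 : a ^ 4 = -1 := by have := na.1; rw [hq] at this; linear_combination this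
        have hee : ∀ u v : F, (u - v) ^ q = u ^ q - v ^ q := fun u v => by simpa using map_sub (qPowHom hF) u v
        simp only [hee, mul_pow, pow_q_pow_q hF]
        have nb := na.2
        rw [hq] at nb ⊢
        linear_combination b * (a ^ 2 + 1) * hA4 + (-b) * nb
      subst hd'
      exact ⟨-c', by rwa [neg_neg], by rw [e']; congr 1; rw [neg_neg]⟩
    have hfix : δ (A * A * A) = A * A * A := by rw [h33]; exact fd _ _
    rw [map_mul, map_mul, hδA] at hfix
    have : A * A * A * z = A * A * A := by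
      calc A * A * A * z = A * A * A * (z * (z * z)) := by rw [hz2, mul_one]
        _ = A * A * (A * z) * (z * z) := by group
        _ = A * (A * z) * z * (A * z) := by
          rw [show A * (A * z) * z * (A * z) = A * A * z * (z * A) * z by group, hzc A]
          rw [show A * A * z * (A * z) * z = A * A * (z * A) * z * z by group, hzc A]
          group
        _ = A * z * (A * z) * (A * z) := by
          rw [show A * z * (A * z) * (A * z) = A * (z * A) * z * (A * z) by group, hzc A]
        _ = A * A * A := hfix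
    rw [mul_eq_left] at this
    rw [hδA, this, mul_one]

/-- Diagonal elements of the first pair are those normalising the last pair. -/
theorem diag_of_normalize {a b : F} (h : a * a ^ q + b * b ^ q = 1)
    (hn : ∀ B, ∃ C, p01 (el2 hF a b h) * p12 B * (p01 (el2 hF a b h))⁻¹ = p12 C) : b = 0 := by
  have hs : (0 : F) * 0 ^ q + 1 * 1 ^ q = 1 := by simp
  obtain ⟨C, hC⟩ := hn (el2 hF 0 1 hs)
  have e := congrArg (fun A => app A (ev 0 : Fin 3 → F)) hC
  simp only [app_mul] at e
  have hp : app (p12 C) (ev 0 : Fin 3 → F) = ev 0 := by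
    have : (![(ev 0 : Fin 3 → F) 1, (ev 0 : Fin 3 → F) 2]) = 0 := by
      funext i; fin_cases i <;> simp [ev]
    rw [app_p12, this, app_zero]; funext i; fin_cases i <;> simp [ev]
  rw [hp] at e
  set u := app (p01 (el2 hF a b h))⁻¹ (ev 0 : Fin 3 → F) with hu
  have e' : app (p12 (el2 hF 0 1 hs)) u = u := app_inj (e.trans (app_app_inv _ _).symm)
  obtain ⟨hi, einv⟩ := el2_inv hF h
  rw [hu, ← map_inv, einv] at e'
  have h1 := congrFun e' 1
  simp [app_p01, app_p12, app_el2, ev, zero_pow (q_pos hF).ne'] at h1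
  exact h1

theorem p12_conj_diag {a : F} (h : a * a ^ q + (0 : F) * 0 ^ q = 1) (B : Cfsg.SU 2 F q) :
    ∃ C, p01 (el2 hF a 0 h) * p12 B * (p01 (el2 hF a 0 h))⁻¹ = p12 C := by
  have hmem : p01 (el2 hF a 0 h) * p12 B * (p01 (el2 hF a 0 h))⁻¹ ∈ supp (iv 1 2 : Set (Fin 3)) := by
    intro i hi
    have hi0 : i = 0 := by
      fin_cases i <;> simp [iv] at hi ⊢
    subst hi0
    obtain ⟨hi', einv⟩ := el2_inv hF h
    have ha : a * a ^ q = 1 := by simpa [zero_pow (q_pos hF).ne'] using h
    have e1 : app (p01 (el2 hF a 0 h))⁻¹ (ev 0 : Fin 3 → F) = a ^ q • ev 0 := by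
      rw [← map_inv, einv]
      funext j
      fin_cases j <;> simp [app_p01, app_el2, ev, zero_pow (q_pos hF).ne']
    have hB : app (p12 B) (ev 0 : Fin 3 → F) = ev 0 := by
      have : (![(ev 0 : Fin 3 → F) 1, (ev 0 : Fin 3 → F) 2]) = 0 := by
        funext i; fin_cases i <;> simp [ev]
      rw [app_p12, this, app_zero]; funext i; fin_cases i <;> simp [ev]
    rw [app_mul, app_mul, e1, app_smul, hB]
    funext j
    fin_cases j <;> simp [app_p01, app_el2, ev, zero_pow (q_pos hF).ne', ha]
  rw [← range_p12 hF] at hmem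
  obtain ⟨C, hC⟩ := hmem
  exact ⟨C, hC.symm⟩

end Cfsg.Agent.Lib.PhanWeak91
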