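import Cfsg.Agent.Lib.PhanWeak91.Rigid

/-!
Generation of `SU 3` by its two coordinate pairs, and rigidity of `SU 3` relative to them.
-/

set_option autoImplicit false
set_option linter.unusedSectionVars false

namespace Cfsg.Agent.Lib.PhanWeak91

open Matrix Cfsg.Agent.Lib.Forms

variable {F : Type*} [Field F] [Fintype F] {q m : ℕ}

/-- A diagonal automorphism possibly composed with the field automorphism. -/
noncomputable def twist (hF : Fintype.card F = q ^ 2) (d : Fin m → F) (hd : ∀ i, d i * d i ^ q = 1) (ε : Bool) :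
    Cfsg.SU m F q →* Cfsg.SU m F q :=
  if ε then (dconj d hd).comp (frob hF) else dconj d hd

theorem dconj_dconj (d e : Fin m → F) (hd : ∀ i, d i * d i ^ q = 1) (he : ∀ i, e i * e i ^ q = 1)
    (A : Cfsg.SU m F q) :
    dconj d hd (dconj e he A) = dconj (fun i => d i * e i)
      (fun i => by rw [mul_pow]; linear_combination (e i * e i ^ q) * hd i + he i) A := by
  refine ext_app fun x => funext fun i => ?_
  rw [app_dconj, app_dconj, app_dconj, mul_assoc]
  congr 3
  funext j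
  ring

variable (hF : Fintype.card F = q ^ 2)
include hF

theorem twist_emb {k : ℕ} {f : Fin k → Fin m} (hf : Function.Injective f) (d : Fin m → F)
    (hd : ∀ i, d i * d i ^ q = 1) (ε : Bool) (A : Cfsg.SU k F q) :
    twist hF d hd ε (emb f hf A) = emb f hf (twist hF (fun j => d (f j)) (fun _ => hd _) ε A) := by
  cases ε <;> simp [twist, frob_emb, dconj_emb]

theorem twist_injective (d : Fin m → F) (hd : ∀ i, d i * d i ^ q = 1) (ε : Bool) :
    Function.Injective (twist hF d hd ε) := by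
  cases ε
  · simpa [twist] using dconj_injective d hd
  · simp only [twist, if_true, MonoidHom.coe_comp]
    exact (dconj_injective d hd).comp (Function.LeftInverse.injective (frob_frob hF))

theorem app_dconj_ev (d : Fin m → F) (hd : ∀ i, d i * d i ^ q = 1) (A : Cfsg.SU m F q) {j : Fin m}
    (h : app A (ev j) = ev j) : app (dconj d hd A) (ev j) = ev j := by
  funext i
  rw [app_dconj]
  have e : (fun t => d t ^ q * (ev j : Fin m → F) t) = d j ^ q • ev j := by
    funext t
    by_cases ht : t = j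
    · subst ht; simp
    · simp [ev_apply, ht]
  rw [e, app_smul, h, Pi.smul_apply, smul_eq_mul, ev_apply]
  by_cases hi : i = j
  · subst hi; rw [if_pos rfl, mul_one, hd]
  · simp [hi]

theorem app_frob_ev (A : Cfsg.SU m F q) {j : Fin m} (h : app A (ev j) = ev j) :
    app (frob hF A) (ev j) = ev j := by
  funext i
  rw [app_frob]
  have e : (fun t => (ev j : Fin m → F) t ^ q) = ev j := by
    funext t
    by_cases ht : t = j
    · subst ht; simp [ev]
    · simp [ev_apply, ht, zero_pow (q_pos hF).ne']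
  rw [e, h, ev_apply]
  by_cases hi : i = j
  · simp [hi]
  · simp [hi, zero_pow (q_pos hF).ne']

theorem twist_map_supp (d : Fin m → F) (hd : ∀ i, d i * d i ^ q = 1) (ε : Bool) (s : Set (Fin m)) :
    (supp s).map (twist hF d hd ε) = supp s := by
  have hle : (supp s).map (twist hF d hd ε) ≤ supp s := by
    rintro _ ⟨A, hA, rfl⟩ j hj
    cases ε
    · simpa [twist] using app_dconj_ev hF d hd A (hA j hj)
    · simpa [twist] using app_dconj_ev hF d hd _ (app_frob_ev hF A (hA j hj))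
  refine Subgroup.eq_of_le_of_card_ge hle ?_
  rw [Subgroup.card_map_of_injective (twist_injective hF d hd ε)]

theorem swap01_mem : ∀ h, p01 (el2 hF (0 : F) 1 h) ∈ supp (iv 0 2 : Set (Fin 3)) := fun h => by
  rw [← range_p01 hF]; exact ⟨_, rfl⟩

/-- Reduction of a unit vector to `e₀` gives generation. -/
theorem gen_of_orbit (K : Subgroup (Cfsg.SU 3 F q)) (h12 : supp (iv 1 2) ≤ K)
    (horb : ∀ v : Fin 3 → F, Cfsg.hermForm 3 F q v v = 1 → ∃ B ∈ K, app B v = ev 0) : K = ⊤ := by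
  refine eq_top_iff.2 fun A _ => ?_
  obtain ⟨B, hB, hBv⟩ := horb (app A (ev 0)) (by rw [herm_app, herm_ev_ev hF])
  have hBA : B * A ∈ supp (iv 1 2 : Set (Fin 3)) := fun i hi => by
    have hi0 : i = 0 := by fin_cases i <;> simp [iv] at hi ⊢
    subst hi0
    rw [app_mul, hBv]
  have : A = B⁻¹ * (B * A) := by group
  rw [this]
  exact mul_mem (inv_mem hB) (h12 hBA)

theorem gen_su3_three (hq : q = 3) (K : Subgroup (Cfsg.SU 3 F q)) (h01 : supp (iv 0 2) ≤ K)
    (h12 : supp (iv 1 2) ≤ K) : K = ⊤ := by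
  have h3 := three_eq_zero hF hq
  have hq0 := q_pos hF
  refine gen_of_orbit hF K h12 fun v hv => ?_
  have hv' : v 0 * v 0 ^ q + v 1 * v 1 ^ q + v 2 * v 2 ^ q = 1 := by
    simpa [Cfsg.hermForm, Fin.sum_univ_three] using hv
  -- tools
  have last : ∀ w : Fin 3 → F, w 2 = 0 → Cfsg.hermForm 3 F q w w = 1 → ∃ B ∈ K, app B w = ev 0 := by
    intro w hw2 hw
    obtain ⟨B, hB, hBw⟩ := exists_iv_app hF (a := 0) (k := 2) (m := 3) (by norm_num) le_rfl (x := w)
      (y := ev 0) (fun i hi => by fin_cases i <;> simp [iv] at hi ⊢; exact hw2) (van_ev (by simp [iv]))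
      (fun e => by rw [e] at hw; simp [Cfsg.hermForm] at hw)
      (fun e => one_ne_zero (α := F) (by simpa [ev] using congrFun e (0 : Fin 3)))
      (by rw [hw, herm_ev_ev hF]) (Or.inr (by rw [herm_ev_ev hF]; exact one_ne_zero))
    exact ⟨B, h01 hB, hBw⟩
  have tail : ∀ w : Fin 3 → F, w 1 * w 1 ^ q + w 2 * w 2 ^ q ≠ 0 → Cfsg.hermForm 3 F q w w = 1 →
      ∃ B ∈ K, app B w = ev 0 := by
    intro w hn hw
    obtain ⟨c, hc⟩ := exists_norm hF (c := w 1 * w 1 ^ q + w 2 * w 2 ^ q) (by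
      have := map_add (qPowHom hF) (w 1 * w 1 ^ q) (w 2 * w 2 ^ q)
      simp only [qPowHom_apply] at this
      rw [this, mul_pow, mul_pow, pow_q_pow_q hF, pow_q_pow_q hF]; ring)
    obtain ⟨B, hB, hBw⟩ := exists_iv_app hF (a := 1) (k := 2) (m := 3) (by norm_num) le_rfl
      (x := ![0, w 1, w 2]) (y := c • ev 1)
      (fun i hi => by fin_cases i <;> simp [iv] at hi ⊢)
      (fun i hi => by fin_cases i <;> simp [iv, ev] at hi ⊢)
      (fun e => by
        have e1 := congrFun e 1; have e2 := congrFun e 2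
        simp at e1 e2; simp [e1, e2, zero_pow hq0.ne'] at hn)
      (fun e => by
        have e1 := congrFun e 1
        simp [ev] at e1; rw [e1] at hc; simp at hc; exact hn hc.symm)
      (by rw [herm_smul_left hF, herm_smul_right hF, herm_ev_ev hF, mul_one, hc]
          simp [Cfsg.hermForm, Fin.sum_univ_three])
      (Or.inr (by rw [herm_smul_left hF, herm_smul_right hF, herm_ev_ev hF, mul_one, hc]; exact hn))
    have e : w = w 0 • (ev 0 : Fin 3 → F) + ![0, w 1, w 2] := by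
      funext i; fin_cases i <;> simp [ev]
    have hB0 : app B (ev 0 : Fin 3 → F) = ev 0 := hB 0 (by simp [iv])
    have hw' : app B w = w 0 • (ev 0 : Fin 3 → F) + c • ev 1 := by
      conv_lhs => rw [e]
      rw [app_add, app_smul, hB0, hBw]
    obtain ⟨B', hB', hBv⟩ := last (app B w) (by rw [hw']; simp [ev]) (by rw [herm_app, hw])
    exact ⟨B' * B, mul_mem hB' (h12 hB), by rw [app_mul, hBv]⟩
  have mixed : ∀ w : Fin 3 → F, w 0 * w 0 ^ q + w 1 * w 1 ^ q ≠ 0 → Cfsg.hermForm 3 F q w w = 1 →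
      ∃ B ∈ K, app B w = ev 0 := by
    intro w hn hw
    obtain ⟨c, hc⟩ := exists_norm hF (c := w 0 * w 0 ^ q + w 1 * w 1 ^ q) (by
      have := map_add (qPowHom hF) (w 0 * w 0 ^ q) (w 1 * w 1 ^ q)
      simp only [qPowHom_apply] at this
      rw [this, mul_pow, mul_pow, pow_q_pow_q hF, pow_q_pow_q hF]; ring)
    obtain ⟨B, hB, hBw⟩ := exists_iv_app hF (a := 0) (k := 2) (m := 3) (by norm_num) le_rfl
      (x := ![w 0, w 1, 0]) (y := c • ev 1)
      (fun i hi => by fin_cases i <;> simp [iv] at hi ⊢)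
      (fun i hi => by fin_cases i <;> simp [iv, ev] at hi ⊢)
      (fun e => by
        have e1 := congrFun e 1; have e2 := congrFun e 0
        simp at e1 e2; simp [e1, e2, zero_pow hq0.ne'] at hn)
      (fun e => by
        have e1 := congrFun e 1
        simp [ev] at e1; rw [e1] at hc; simp at hc; exact hn hc.symm)
      (by rw [herm_smul_left hF, herm_smul_right hF, herm_ev_ev hF, mul_one, hc]
          simp [Cfsg.hermForm, Fin.sum_univ_three])
      (Or.inr (by rw [herm_smul_left hF, herm_smul_right hF, herm_ev_ev hF, mul_one, hc]; exact hn))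
    have e : w = w 2 • (ev 2 : Fin 3 → F) + ![w 0, w 1, 0] := by
      funext i; fin_cases i <;> simp [ev]
    have hB2 : app B (ev 2 : Fin 3 → F) = ev 2 := hB 2 (by simp [iv])
    have hw' : app B w = w 2 • (ev 2 : Fin 3 → F) + c • ev 1 := by
      conv_lhs => rw [e]
      rw [app_add, app_smul, hB2, hBw]
    have hunit : Cfsg.hermForm 3 F q (app B w) (app B w) = 1 := by rw [herm_app, hw]
    obtain ⟨B', hB', hBv⟩ := tail (app B w) (by
      have := hunit
      rw [hw'] at this ⊢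
      simp [Cfsg.hermForm, Fin.sum_univ_three, ev, zero_pow hq0.ne'] at this ⊢
      rw [this]; exact one_ne_zero) hunit
    exact ⟨B' * B, mul_mem hB' (h01 hB), by rw [app_mul, hBv]⟩
  by_cases ht : v 1 * v 1 ^ q + v 2 * v 2 ^ q = 0
  swap
  · exact tail v ht hv
  by_cases hm : v 0 * v 0 ^ q + v 1 * v 1 ^ q = 0
  swap
  · exact mixed v hm hv
  -- both adjacent pairs are isotropic: swap the last two coordinates
  have hs : (0 : F) * 0 ^ q + 1 * 1 ^ q = 1 := by simp
  set S := p12 (el2 hF (0 : F) 1 hs) with hS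
  have hSv : app S v = ![v 0, -v 2, v 1] := by
    rw [hS, app_p12, app_el2]; funext i; fin_cases i <;> simp [hq0.ne']
  obtain ⟨B, hB, hBv⟩ := mixed (app S v) (by
    rw [hSv]
    simp only [Matrix.cons_val_zero, Matrix.cons_val_one, q_neg' hF]
    intro e
    exact one_ne_zero (α := F) (by linear_combination h3 - e + 2 * hv' - ht - hm))
    (by rw [herm_app, hv])
  refine ⟨B * S, mul_mem hB (h12 ?_), by rw [app_mul, hBv]⟩
  rw [← range_p12 hF]; exact ⟨_, rfl⟩

/-- An endomorphism preserving both pairs becomes trivial on them after a twist. -/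
theorem exists_twist (hq : q = 2 ∨ q = 3) (δ : Cfsg.SU 3 F q →* Cfsg.SU 3 F q) (hinj : Function.Injective δ)
    (h01 : ∀ A, ∃ B, δ (p01 A) = p01 B) (h12 : ∀ A, ∃ B, δ (p12 A) = p12 B) :
    ∃ (d : Fin 3 → F) (hd : ∀ i, d i * d i ^ q = 1) (ε : Bool),
      ∀ A : Cfsg.SU 2 F q, twist hF d hd ε (δ (p01 A)) = p01 A ∧ twist hF d hd ε (δ (p12 A)) = p12 A := by
  classical
  have hq0 := q_pos hF
  obtain ⟨l, hl, hl2, hl3, hμ⟩ := exists_lam hF hq
  have ht : l * l ^ q + (0 : F) * 0 ^ q = 1 := by simpa using hl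
  have hs : (0 : F) * 0 ^ q + 1 * 1 ^ q = 1 := by simp
  have hlne : l - l ^ q ≠ 0 := fun e => hl2 (by linear_combination hl + l * e)
  -- image of the torus generator
  have tor : ∀ δ : Cfsg.SU 3 F q →* Cfsg.SU 3 F q, Function.Injective δ → (∀ A, ∃ B, δ (p01 A) = p01 B) →
      (∀ A, ∃ B, δ (p12 A) = p12 B) → ∃ μ, ∃ h, δ (p01 (el2 hF l 0 ht)) = p01 (el2 hF μ 0 h) ∧
        (μ = l ∨ μ = l ^ q) := by
    intro δ hinj h01 h12
    obtain ⟨B, hB⟩ := h01 (el2 hF l 0 ht)
    obtain ⟨μ, b, h, rfl⟩ := exists_el2 hF B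
    have hsur : ∀ C, ∃ C', δ (p12 C') = p12 C := by
      choose g hg using h12
      have gi : Function.Injective g := fun x y e => p12_injective (hinj (by rw [hg, hg, e]))
      intro C
      obtain ⟨C', hC'⟩ := (Finite.injective_iff_surjective.1 gi) C
      exact ⟨C', by rw [hg, hC']⟩
    have hb0 : b = 0 := by
      refine diag_of_normalize hF h fun C => ?_
      obtain ⟨C', hC'⟩ := hsur C
      obtain ⟨C'', hC''⟩ := p12_conj_diag hF ht C'
      obtain ⟨E, hE⟩ := h12 C''
      exact ⟨E, by rw [← hB, ← hC', ← map_inv, ← map_mul, ← map_mul, hC'', hE]⟩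
    subst hb0
    refine ⟨μ, h, hB, hμ μ (by simpa [zero_pow hq0.ne'] using h) fun e => hl2 ?_⟩
    obtain ⟨h1, e1⟩ := el2_mul hF ht ht
    obtain ⟨h2, e2⟩ := el2_mul hF h h
    have one_el : ∀ h, el2 hF (1 : F) 0 h = 1 := fun h => ext_app fun x => by
      rw [app_el2, app_one]; funext i; fin_cases i <;> simp [zero_pow hq0.ne']
    have hh : δ (p01 (el2 hF l 0 ht * el2 hF l 0 ht)) = 1 := by
      rw [map_mul, map_mul, hB, ← map_mul, e2]
      simp only [mul_zero, sub_zero, add_zero, zero_mul, e]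
      rw [one_el, map_one]
    have h3 : el2 hF l 0 ht * el2 hF l 0 ht = 1 :=
      p01_injective (hinj (by rw [hh, map_one, map_one]))
    rw [e1, ← one_el (by simp), el2_ext] at h3
    simpa using h3.1
  obtain ⟨μ, hμe, hμ1, hμcase⟩ := tor δ hinj h01 h12
  let ε : Bool := if μ = l then false else true
  let δ1 : Cfsg.SU 3 F q →* Cfsg.SU 3 F q := if μ = l then δ else (frob hF).comp δ
  have hδ1 : Function.Injective δ1 ∧ (∀ A, ∃ B, δ1 (p01 A) = p01 B) ∧ (∀ A, ∃ B, δ1 (p12 A) = p12 B) ∧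
      δ1 (p01 (el2 hF l 0 ht)) = p01 (el2 hF l 0 ht) ∧
      (∀ (d : Fin 3 → F) hd A, twist hF d hd ε (δ A) = dconj d hd (δ1 A)) := by
    by_cases hc : μ = l
    · simp only [δ1, ε, if_pos hc]
      refine ⟨hinj, h01, h12, ?_, fun d hd A => by simp [twist]⟩
      subst hc; exact hμ1
    · simp only [δ1, ε, if_neg hc, MonoidHom.coe_comp, Function.comp_apply]
      refine ⟨(Function.LeftInverse.injective (frob_frob hF)).comp hinj, fun A => ?_, fun A => ?_, ?_,
        fun d hd A => by simp [twist]⟩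
      · obtain ⟨B, hB⟩ := h01 A; exact ⟨frob hF B, by rw [hB]; exact frob_emb hF _ B⟩
      · obtain ⟨B, hB⟩ := h12 A; exact ⟨frob hF B, by rw [hB]; exact frob_emb hF _ B⟩
      · rw [hμ1, p01, frob_emb]
        congr 1
        obtain ⟨h', e'⟩ := frob_el2 hF hμe
        rw [e', el2_ext]
        obtain rfl : μ = l ^ q := hμcase.resolve_left hc
        exact ⟨pow_q_pow_q hF l, zero_pow hq0.ne'⟩
  obtain ⟨hi1, h01', h12', hfix, htw⟩ := hδ1
  -- the swap on the first pair
  obtain ⟨S, hS⟩ := h01' (el2 hF 0 1 hs)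
  obtain ⟨a, b, hab, rfl⟩ := exists_el2 hF S
  have hrel : el2 hF a b hab * el2 hF l 0 ht = (el2 hF l 0 ht)⁻¹ * el2 hF a b hab := by
    have e : el2 hF (0 : F) 1 hs * el2 hF l 0 ht = (el2 hF l 0 ht)⁻¹ * el2 hF 0 1 hs := by
      obtain ⟨_, ei⟩ := el2_inv hF ht
      rw [ei]
      obtain ⟨_, e1⟩ := el2_mul hF hs ht
      obtain ⟨h', e'⟩ := el2_inv hF ht
      obtain ⟨_, e2⟩ := el2_mul hF h' hs
      rw [e1, e2, el2_ext]
      exact ⟨by simp [zero_pow hq0.ne'], by simp [pow_q_pow_q hF]⟩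
    apply p01_injective
    have := congrArg (fun X => δ1 (p01 X)) e
    simp only [map_mul, map_inv] at this ⊢
    rwa [hS, hfix] at this
  have ha : a = 0 := by
    obtain ⟨h', ei⟩ := el2_inv hF ht
    rw [ei] at hrel
    obtain ⟨_, e1⟩ := el2_mul hF hab ht
    obtain ⟨_, e2⟩ := el2_mul hF h' hab
    rw [e1, e2, el2_ext] at hrel
    have h1 := hrel.1
    simp [zero_pow hq0.ne'] at h1
    exact mul_right_cancel₀ hlne (by linear_combination h1)
  subst ha
  have hb : b * b ^ q = 1 := by simpa using hab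
  let d1 : Fin 3 → F := ![b, 1, 1]
  have hd1 : ∀ i, d1 i * d1 i ^ q = 1 := fun i => by fin_cases i <;> simp [d1, hb]
  let δ2 : Cfsg.SU 3 F q →* Cfsg.SU 3 F q := (dconj d1 hd1).comp δ1
  have hi2 : Function.Injective δ2 := (dconj_injective d1 hd1).comp hi1
  have h01'' : ∀ A, ∃ B, δ2 (p01 A) = p01 B := fun A => by
    obtain ⟨B, hB⟩ := h01' A
    exact ⟨_, show dconj d1 hd1 (δ1 (p01 A)) = _ by rw [hB, p01, dconj_emb]⟩
  have h12'' : ∀ A, ∃ B, δ2 (p12 A) = p12 B := fun A => by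
    obtain ⟨B, hB⟩ := h12' A
    exact ⟨_, show dconj d1 hd1 (δ1 (p12 A)) = _ by rw [hB, p12, dconj_emb]⟩
  have fix01t : δ2 (p01 (el2 hF l 0 ht)) = p01 (el2 hF l 0 ht) := by
    show dconj d1 hd1 (δ1 _) = _
    rw [hfix, p01, dconj_emb]
    congr 1
    obtain ⟨_, e⟩ := dconj_el2 hF (fun j => d1 (ivf 0 2 (by norm_num) j)) (fun _ => hd1 _) ht
    rw [e, el2_ext]; exact ⟨rfl, mul_zero _⟩
  have fix01s : δ2 (p01 (el2 hF 0 1 hs)) = p01 (el2 hF 0 1 hs) := by
    show dconj d1 hd1 (δ1 _) = _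
    rw [hS, p01, dconj_emb]
    congr 1
    obtain ⟨_, e⟩ := dconj_el2 hF (fun j => d1 (ivf 0 2 (by norm_num) j)) (fun _ => hd1 _) hab
    rw [e, el2_ext]
    refine ⟨rfl, ?_⟩
    show (1 : F) * b ^ q * b = 1
    linear_combination hb
  have lift2 : ∀ (p : Cfsg.SU 2 F q →* Cfsg.SU 3 F q), Function.Injective p →
      ∀ δ : Cfsg.SU 3 F q →* Cfsg.SU 3 F q, Function.Injective δ → (∀ A, ∃ B, δ (p A) = p B) →
      δ (p (el2 hF l 0 ht)) = p (el2 hF l 0 ht) → δ (p (el2 hF 0 1 hs)) = p (el2 hF 0 1 hs) →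
      ∀ A, δ (p A) = p A := by
    intro p hp δ hδ hpres ht' hs' A
    choose g hg using hpres
    let g' : Cfsg.SU 2 F q →* Cfsg.SU 2 F q :=
      { toFun := g
        map_one' := hp (by simp [← hg])
        map_mul' := fun x y => hp (by rw [← hg, map_mul, map_mul, map_mul, hg, hg]) }
    have := rigid2 hF hq hl hl2 hl3 hμ g' ht (hp (by show p (g _) = _; rw [← hg, ht'])) hs
      (hp (by show p (g _) = _; rw [← hg, hs'])) A
    rw [hg A]
    exact congrArg p this
  have fix01 := lift2 p01 p01_injective δ2 hi2 h01'' fix01t fix01s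
  -- second pair
  obtain ⟨T, hT⟩ := h12'' (el2 hF l 0 ht)
  obtain ⟨c, c', hcc, rfl⟩ := exists_el2 hF T
  have hc' : c' = 0 ∧ c = l := by
    let S01 := p01 (el2 hF (0 : F) 1 hs)
    let T12 := p12 (el2 hF l 0 ht)
    obtain ⟨hti, eti⟩ := el2_inv hF ht
    have hmem : ∃ X, T12 * S01 * T12⁻¹ = p01 X := by
      have : T12 * S01 * T12⁻¹ ∈ supp (iv 0 2 : Set (Fin 3)) := by
        intro i hi
        have hi0 : i = 2 := by fin_cases i <;> simp [iv] at hi ⊢
        subst hi0
        simp only [T12, S01]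
        rw [← map_inv, eti, app_mul, app_mul]
        funext j
        fin_cases j <;> simp [app_p12, app_p01, app_el2, ev, zero_pow hq0.ne', pow_q_pow_q hF]
        linear_combination hl
      rw [← range_p01 hF] at this
      obtain ⟨X, hX⟩ := this
      exact ⟨X, hX.symm⟩
    obtain ⟨X, hX⟩ := hmem
    have h := fix01 X
    rw [← hX, map_mul, map_mul, map_inv] at h
    simp only [T12, S01] at h
    rw [hT, fix01s] at h
    obtain ⟨hci, eci⟩ := el2_inv hF hcc
    rw [← map_inv p12 (el2 hF c c' hcc), eci, ← map_inv p12 (el2 hF l 0 ht), eti] at h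
    have e := congrArg (fun Y => app Y (ev 0 : Fin 3 → F)) h
    simp only [app_mul] at e
    have e1 := congrFun e 1
    have e2 := congrFun e 2
    simp [app_p12, app_p01, app_el2, ev, zero_pow hq0.ne'] at e1 e2
    exact ⟨e2, e1⟩
  obtain ⟨rfl, rfl⟩ := hc'
  obtain ⟨S', hS'⟩ := h12'' (el2 hF 0 1 hs)
  obtain ⟨a, b', hab', rfl⟩ := exists_el2 hF S'
  have hrel' : el2 hF a b' hab' * el2 hF c 0 ht = (el2 hF c 0 ht)⁻¹ * el2 hF a b' hab' := by
    have e : el2 hF (0 : F) 1 hs * el2 hF c 0 ht = (el2 hF c 0 ht)⁻¹ * el2 hF 0 1 hs := by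
      obtain ⟨h', ei⟩ := el2_inv hF ht
      rw [ei]
      obtain ⟨_, e1⟩ := el2_mul hF hs ht
      obtain ⟨_, e2⟩ := el2_mul hF h' hs
      rw [e1, e2, el2_ext]
      exact ⟨by simp [zero_pow hq0.ne'], by simp [pow_q_pow_q hF]⟩
    apply p12_injective
    have := congrArg (fun X => δ2 (p12 X)) e
    simp only [map_mul, map_inv] at this ⊢
    rwa [hS', hT] at this
  have ha' : a = 0 := by
    obtain ⟨h', ei⟩ := el2_inv hF ht
    rw [ei] at hrel'
    obtain ⟨_, e1⟩ := el2_mul hF hab' ht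
    obtain ⟨_, e2⟩ := el2_mul hF h' hab'
    rw [e1, e2, el2_ext] at hrel'
    have h1 := hrel'.1
    simp [zero_pow hq0.ne'] at h1
    exact mul_right_cancel₀ hlne (by linear_combination h1)
  subst ha'
  have hb' : b' * b' ^ q = 1 := by simpa using hab'
  let d2 : Fin 3 → F := ![1, 1, b' ^ q]
  have hd2 : ∀ i, d2 i * d2 i ^ q = 1 := fun i => by
    fin_cases i <;> simp [d2, pow_q_pow_q hF]
    linear_combination hb'
  let δ3 : Cfsg.SU 3 F q →* Cfsg.SU 3 F q := (dconj d2 hd2).comp δ2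
  have hi3 : Function.Injective δ3 := (dconj_injective d2 hd2).comp hi2
  have fix01' : ∀ A, δ3 (p01 A) = p01 A := fun A => by
    show dconj d2 hd2 (δ2 (p01 A)) = _
    rw [fix01, p01, dconj_emb]
    congr 1
    refine ext_app fun x => funext fun i => ?_
    rw [app_dconj]
    have e : ∀ j, d2 (ivf 0 2 (by norm_num : 0 + 2 ≤ 3) j) = 1 := fun j => by fin_cases j <;> rfl
    simp [e]
  have h12''' : ∀ A, ∃ B, δ3 (p12 A) = p12 B := fun A => by
    obtain ⟨B, hB⟩ := h12'' A
    exact ⟨_, show dconj d2 hd2 (δ2 (p12 A)) = _ by rw [hB, p12, dconj_emb]⟩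
  have fix12 := lift2 p12 p12_injective δ3 hi3 h12''' (by
      show dconj d2 hd2 (δ2 _) = _
      rw [hT, p12, dconj_emb]
      congr 1
      obtain ⟨_, e⟩ := dconj_el2 hF (fun j => d2 (ivf 1 2 (by norm_num) j)) (fun _ => hd2 _) hcc
      rw [e, el2_ext]; exact ⟨rfl, mul_zero _⟩) (by
      show dconj d2 hd2 (δ2 _) = _
      rw [hS', p12, dconj_emb]
      congr 1
      obtain ⟨_, e⟩ := dconj_el2 hF (fun j => d2 (ivf 1 2 (by norm_num) j)) (fun _ => hd2 _) hab'
      rw [e, el2_ext]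
      refine ⟨rfl, ?_⟩
      show b' ^ q * (1 : F) ^ q * b' = 1
      rw [one_pow]; linear_combination hb')
  refine ⟨fun i => d2 i * d1 i, fun i => by rw [mul_pow]; linear_combination (d1 i * d1 i ^ q) * hd2 i + hd1 i,
    ε, fun A => ⟨?_, ?_⟩⟩
  · rw [htw, ← dconj_dconj d2 d1 hd2 hd1]; exact fix01' A
  · rw [htw, ← dconj_dconj d2 d1 hd2 hd1]; exact fix12 A

end Cfsg.Agent.Lib.PhanWeak91
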