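import Cfsg.Agent.Lib.PhanWeak91.Assemble

/-!
Windows from standard pairs whose outer subgroups are block images.
-/

set_option autoImplicit false
set_option linter.unusedSectionVars false

namespace Cfsg.Agent.Lib.PhanWeak91

open Matrix Cfsg.Agent.Lib.Forms

variable {F : Type*} [Field F] [Fintype F] {q : ℕ} {G : Type*} [Group G]

/-- A parametrisation of a standard pair without kernel. -/
structure PairHom (V A B : Subgroup G) (F : Type*) [Field F] [Fintype F] (q : ℕ) where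
  hom : Cfsg.SU 3 F q →* G
  inj : Function.Injective hom
  range_eq : hom.range = V
  mapA : (supp (F := F) (q := q) (iv 0 2 : Set (Fin 3))).map hom = A
  mapB : (supp (F := F) (q := q) (iv 1 2 : Set (Fin 3))).map hom = B

variable (hF : Fintype.card F = q ^ 2) (hq : q = 2 ∨ q = 3)
include hF hq

/-- An injectivity on blocks of a homomorphism with central kernel. -/
theorem eq_one_of_fix (g : Cfsg.SU 4 F q →* G) (hker : g.ker ≤ Subgroup.center _) {A : Cfsg.SU 4 F q}
    (h : g A = 1) {v : Fin 4 → F} (hv : v ≠ 0) (hfix : app A v = v) : A = 1 := by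
  obtain ⟨c, -, hz⟩ := center_scalar hF (hker (MonoidHom.mem_ker.2 h))
  rw [hz] at hfix
  have hc : c = 1 := by
    by_contra hc
    have : (c - 1) • v = 0 := by rw [sub_smul, one_smul, hfix, sub_self]
    exact hv ((smul_eq_zero.1 this).resolve_left (sub_ne_zero.2 hc))
  exact ext_app fun x => by rw [hz, hc, one_smul, app_one]

/-- Injectivity on a conjugate of the first pair. -/
theorem blk_eq_one (g : Cfsg.SU 4 F q →* G) (hker : g.ker ≤ Subgroup.center _)
    {P : Matrix.GeneralLinearGroup (Fin 4) F} (hP : IsIsom q P) {A : Cfsg.SU 4 F q} (hA : A ∈ blk P hP q01)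
    (h : g A = 1) : A = 1 := by
  refine eq_one_of_fix hF hq g hker h (v := col P 2) ?_ ((mem_blk hP).1 hA 2 (not_mem_q01 (Or.inl rfl)))
  intro e
  have := col_on hF hP 2 2
  rw [e] at this
  simp [Cfsg.hermForm] at this

/-- Elements generating a torus are diagonalisable. -/
theorem exists_torus_conj {a : Cfsg.SU 2 F q} {l : F} (hl : l * l ^ q + (0 : F) * 0 ^ q = 1) (hl2 : l * l ≠ 1)
    (hord : a ^ (q + 1) = 1) (hne : a ^ (q - 1) ≠ 1) :
    ∃ (w : Cfsg.SU 2 F q) (μ : F) (h : μ * μ ^ q + (0 : F) * 0 ^ q = 1),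
      μ * μ ≠ 1 ∧ a = w * el2 hF μ 0 h * w⁻¹ := by
  have hq0 := q_pos hF
  obtain ⟨x, y, hxy, rfl⟩ := exists_el2 hF a
  have one_el : ∀ h, el2 hF (1 : F) 0 h = 1 := fun h => ext_app fun u => by
    rw [app_el2, app_one]; funext i; fin_cases i <;> simp [zero_pow hq0.ne']
  rcases hq with hq | hq
  · subst hq
    by_cases hy : y = 0
    · subst hy
      refine ⟨1, x, hxy, fun e => hne ?_, by group⟩
      have hx : x * x ^ 2 = 1 := by simpa using hxy
      obtain rfl : x = 1 := by linear_combination hx - x * e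
      rw [one_el, one_pow]
    · exfalso
      have hx : x = 0 := by
        by_contra hx
        rw [norm_two hF rfl hx, norm_two hF rfl hy] at hxy
        exact one_ne_zero (α := F) (by linear_combination hxy)
      subst hx
      apply hne
      have h2 := two_eq_zero hF rfl
      have hsq : el2 hF (0 : F) y hxy * el2 hF 0 y hxy = 1 := by
        obtain ⟨h', e⟩ := el2_mul hF hxy hxy
        rw [e, ← one_el (by simp), el2_ext]
        refine ⟨?_, by simp⟩
        have hy2 : y * y ^ 2 = 1 := by simpa using hxy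
        linear_combination -hy2 - h2
      calc el2 hF (0 : F) y hxy ^ (2 - 1) = el2 hF 0 y hxy * 1 := by simp
        _ = el2 hF 0 y hxy * (el2 hF 0 y hxy * el2 hF 0 y hxy) := by rw [hsq]
        _ = el2 hF 0 y hxy ^ (2 + 1) := by rw [pow_succ, pow_two, mul_assoc]
        _ = 1 := hord
  · subst hq
    have h3 := three_eq_zero hF rfl
    obtain ⟨h1, e1⟩ := el2_mul hF hxy hxy
    have hsq1 : el2 hF x y hxy * el2 hF x y hxy ≠ 1 := by
      intro e; apply hne; rw [show (3 - 1) = 2 by rfl, pow_two, e]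
    obtain ⟨h2, e2⟩ := el2_mul hF h1 h1
    have h4 : el2 hF x y hxy * el2 hF x y hxy * (el2 hF x y hxy * el2 hF x y hxy) = 1 := by
      simpa [pow_succ, mul_assoc] using hord
    rw [e1, e2, ← one_el (by simp), el2_ext] at h4
    rw [e1] at hsq1
    set c := x * x - y ^ 3 * y with hc
    set d := y * x + x ^ 3 * y with hd
    have hd0 : d = 0 := by
      by_contra hd0
      have hcc : c + c ^ 3 = 0 := by
        apply mul_left_cancel₀ hd0
        linear_combination h4.2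
      exact three_ne_two_aux hF (by linear_combination -h4.1 - (c * c ^ 3 + d * d ^ 3) * 0 - h1 + c * hcc)
    rw [hd0] at h4
    have hc2 : c * c = 1 := by simpa using h4.1
    have hcm : c = -1 := by
      rcases mul_self_eq_one_iff.1 hc2 with e | e
      · exfalso; apply hsq1; rw [← one_el (by simp), el2_ext]; exact ⟨e, hd0⟩
      · exact e
    by_cases hy : y = 0
    · subst hy
      refine ⟨1, x, hxy, fun e => ?_, by group⟩
      exact three_ne_two_aux hF (by rw [hc] at hcm; linear_combination hcm - e)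
    · have hxs : x + x ^ 3 = 0 := by
        apply mul_left_cancel₀ hy
        linear_combination hd0
      have hyy : y * y ^ 3 = 1 + x * x := by
        rw [hc] at hcm
        linear_combination -hcm
      have hx : x = 0 := by
        by_contra hx
        have hxx : x * x = -1 := by
          apply mul_left_cancel₀ hx
          linear_combination hxs
        rw [hxx, add_neg_cancel] at hyy
        exact mul_ne_zero hy (pow_ne_zero _ hy) hyy
      subst hx
      have hy1 : y * y ^ 3 = 1 := by linear_combination hyy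
      obtain ⟨a0, ha0⟩ := exists_neg_one hF
      have hl' : l * l = -1 := by
        have hn : l * l ^ 3 = 1 := by simpa using hl
        rcases mul_eq_zero.1 (show (l * l - 1) * (l * l + 1) = 0 by linear_combination hn) with e | e
        · exact absurd (sub_eq_zero.1 e) hl2
        · exact eq_neg_of_add_eq_zero_left e
      have hl0 : l ≠ 0 := by rintro rfl; simp at hl'
      set b := y * a0 * l⁻¹ with hb
      have hbl : b * l = y * a0 := by rw [hb, mul_assoc, inv_mul_cancel₀ hl0, mul_one]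
      have hln : l * l ^ 3 = 1 := by simpa using hl
      have hbn : b * b ^ 3 = -1 := by
        have e : b * l * (b * l) ^ 3 = y * a0 * (y * a0) ^ 3 := by rw [hbl]
        clear_value b
        linear_combination e - (b * b ^ 3) * hln + (a0 * a0 ^ 3) * hy1 + ha0
      have hw : a0 * a0 ^ 3 + b * b ^ 3 = 1 := by linear_combination ha0 + hbn - h3
      refine ⟨el2 hF a0 b hw, l, hl, hl2, ?_⟩
      obtain ⟨hi, ei⟩ := el2_inv hF hw
      rw [ei]
      obtain ⟨g1, f1⟩ := el2_mul hF hw hl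
      rw [f1]
      obtain ⟨g2, f2⟩ := el2_mul hF g1 hi
      rw [f2, el2_ext]
      clear_value b
      have hlq : l ^ 3 = -l := by linear_combination l * hl'
      refine ⟨?_, ?_⟩
      · simp only [mul_zero, sub_zero, add_zero]
        have e' : (b * l) ^ 3 = -(b ^ 3 * l) := by rw [mul_pow, hlq]; ring
        rw [e']
        linear_combination -l * ha0 + l * hbn
      · simp only [mul_zero, sub_zero, add_zero]
        have e' : (a0 * l) ^ 3 = -(a0 ^ 3 * l) := by rw [mul_pow, hlq]; ring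
        rw [e']
        linear_combination (-2 * a0 ^ 3) * hbl - (2 * y) * ha0 + y * h3
where
  three_ne_two_aux {F : Type _} [Field F] [Fintype F] (hF : Fintype.card F = 3 ^ 2) : (2 : F) ≠ 0 :=
    fun e => one_ne_zero (α := F) (by linear_combination three_eq_zero hF rfl - e)

/-- Conjugation by a product. -/
theorem conjIso_comp {P : Matrix.GeneralLinearGroup (Fin 4) F} (hP : IsIsom q P) (W : Cfsg.SU 4 F q) :
    ∃ (Q : Matrix.GeneralLinearGroup (Fin 4) F) (hQ : IsIsom q Q),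
      ∀ A, conjIso Q hQ A = conjIso P hP (W * A * W⁻¹) := by
  have hW : IsIsom q (Matrix.SpecialLinearGroup.toGL (W : Matrix.SpecialLinearGroup (Fin 4) F)) := W.2
  have hQ : IsIsom q (P * Matrix.SpecialLinearGroup.toGL (W : Matrix.SpecialLinearGroup (Fin 4) F)) := fun u v => by
    rw [Units.val_mul, ← Matrix.mulVec_mulVec, ← Matrix.mulVec_mulVec, hP, hW]
  refine ⟨_, hQ, fun A => ext_app fun x => ?_⟩
  · obtain ⟨y, rfl⟩ : ∃ y, x = ((P * Matrix.SpecialLinearGroup.toGL (W : Matrix.SpecialLinearGroup (Fin 4) F) :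
        Matrix.GeneralLinearGroup (Fin 4) F) : Matrix (Fin 4) (Fin 4) F) *ᵥ y :=
      ⟨((P * Matrix.SpecialLinearGroup.toGL (W : Matrix.SpecialLinearGroup (Fin 4) F))⁻¹ :
        Matrix.GeneralLinearGroup (Fin 4) F).1 *ᵥ x, by rw [Matrix.mulVec_mulVec, Units.mul_inv, Matrix.one_mulVec]⟩
    have e : ∀ z, ((P * Matrix.SpecialLinearGroup.toGL (W : Matrix.SpecialLinearGroup (Fin 4) F) :
        Matrix.GeneralLinearGroup (Fin 4) F) : Matrix (Fin 4) (Fin 4) F) *ᵥ z =
        (P : Matrix (Fin 4) (Fin 4) F) *ᵥ app W z := fun z => by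
      rw [Units.val_mul, ← Matrix.mulVec_mulVec]; rfl
    rw [app_conjIso, e, e, app_conjIso, app_mul, app_mul, app_inv_app]

/-- A torus element of a pair in a block image. -/
theorem meet_of_pair (g : Cfsg.SU 4 F q →* G) (hker : g.ker ≤ Subgroup.center _) {A B : Subgroup G}
    {P P' : Matrix.GeneralLinearGroup (Fin 4) F} (hP : IsIsom q P) (hP' : IsIsom q P')
    (hA : A = (blk P hP q01).map g) (hB : B = (blk P' hP' q01).map g)
    (t : G) (htB : t ∈ B) (ht1 : t ^ (q + 1) = 1) (ht2 : t ^ (q - 1) ≠ 1)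
    (hnorm : ∀ u ∈ A, t * u * t⁻¹ ∈ A) (hnc : ∃ u ∈ A, t * u ≠ u * t) (hne : A ≠ B) :
    ∃ v : Fin 4 → F, Cfsg.hermForm 4 F q v v = 1 ∧
      (∀ i, (i = 2 ∨ i = 3) → Cfsg.hermForm 4 F q (col P i) v = 0) ∧
      (∀ i, (i = 2 ∨ i = 3) → Cfsg.hermForm 4 F q (col P' i) v = 0) := by
  subst hA hB
  obtain ⟨T, hT, rfl⟩ := htB
  obtain ⟨C, hC, rfl⟩ := hT
  have hr : q01 = Set.range (ivf (m := 4) 0 2 (by norm_num)) := (range_ivf 0 2 _).symm
  rw [hr] at hC
  obtain ⟨a, rfl⟩ := exists_emb_of_mem hF (ivf_injective 0 2 (by norm_num)) hC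
  obtain ⟨l, hl, hl2, -, -⟩ := exists_lam hF hq
  have hl' : l * l ^ q + (0 : F) * 0 ^ q = 1 := by simpa [zero_pow (q_pos hF).ne'] using hl
  have hpow : ∀ k, g (conjIso P' hP' (emb _ (ivf_injective 0 2 (by norm_num)) a)) ^ k =
      g (conjIso P' hP' (emb _ (ivf_injective 0 2 (by norm_num : 0 + 2 ≤ 4)) (a ^ k))) := fun k => by
    rw [map_pow, map_pow, map_pow]
  have hord : a ^ (q + 1) = 1 := by
    rw [hpow] at ht1
    have := blk_eq_one hF hq g hker hP' ⟨_, by rw [hr]; exact emb_mem_supp _ _, rfl⟩ ht1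
    exact emb_injective (ivf_injective 0 2 (by norm_num : 0 + 2 ≤ 4))
      (conjIso_injective P' hP' (by rw [this, map_one, map_one]))
  obtain ⟨w, μ, hμ, hμ2, rfl⟩ := exists_torus_conj hF hq hl' hl2 hord (fun e => ht2 (by rw [hpow, e]; simp))
  set f := ivf (m := 4) 0 2 (by norm_num) with hf
  obtain ⟨Q, hQ, hQc⟩ := conjIso_comp hF hq hP' (emb f (ivf_injective _ _ _) w)
  have hblk : blk Q hQ q01 = blk P' hP' q01 := by
    have hW : emb (F := F) (q := q) f (ivf_injective _ _ _) w ∈ supp q01 := by rw [hr]; exact emb_mem_supp _ _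
    refine le_antisymm ?_ ?_
    · rintro _ ⟨X, hX, rfl⟩
      exact ⟨_, mul_mem (mul_mem hW hX) (inv_mem hW), (hQc X).symm⟩
    · rintro _ ⟨X, hX, rfl⟩
      refine ⟨_, mul_mem (mul_mem (inv_mem hW) hX) hW, ?_⟩
      rw [hQc]; congr 1; group
  have htor : torus hF Q hQ μ hμ = conjIso P' hP' (emb f (ivf_injective _ _ _) (w * el2 hF μ 0 hμ * w⁻¹)) := by
    rw [torus, hQc, map_mul (emb f (ivf_injective _ _ _)), map_mul (emb f (ivf_injective _ _ _)), map_inv (emb f (ivf_injective _ _ _))]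
  obtain ⟨v, hv1, hv2, hv3⟩ := meet_of_link hF hq hP hQ g hker hμ hμ2
    (fun X hX => by rw [htor]; exact hnorm _ ⟨X, hX, rfl⟩)
    (by
      obtain ⟨u, ⟨X, hX, rfl⟩, hu⟩ := hnc
      exact ⟨X, hX, by rw [htor]; exact hu⟩)
    (by rw [hblk]; exact hne)
  refine ⟨v, hv1, hv2, fun i hi => ?_⟩
  -- both frames have the same fixed plane
  have hfix : ∀ j, (j = 0 ∨ j = 1) → Cfsg.hermForm 4 F q (col P' i) (col Q j) = 0 := by
    intro j hj
    obtain ⟨u, hu⟩ : ∃ u, col P' i = (Q : Matrix (Fin 4) (Fin 4) F) *ᵥ u :=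
      ⟨(↑Q⁻¹ : Matrix (Fin 4) (Fin 4) F) *ᵥ col P' i, by simp [Matrix.mulVec_mulVec]⟩
    have huv := fixed_q01 hF hq (x := u) fun X hX => by
      have := (mem_blk hP').1 (hblk.le (⟨X, hX, rfl⟩ : conjIso Q hQ X ∈ blk Q hQ q01)) i (not_mem_q01 hi)
      rw [hu, app_conjIso] at this
      have e := congrArg (fun y => (↑Q⁻¹ : Matrix (Fin 4) (Fin 4) F) *ᵥ y) this
      simpa [Matrix.mulVec_mulVec] using e
    rw [hu, col, hQ, herm_ev hF]
    exact huv j (by rcases hj with rfl | rfl <;> simp)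
  obtain ⟨u, hu⟩ : ∃ u, v = (Q : Matrix (Fin 4) (Fin 4) F) *ᵥ u :=
    ⟨(↑Q⁻¹ : Matrix (Fin 4) (Fin 4) F) *ᵥ v, by simp [Matrix.mulVec_mulVec]⟩
  have h2 : ∀ j, (j = 2 ∨ j = 3) → u j = 0 := fun j hj => by
    have := hv3 j hj
    rw [hu, col, hQ] at this
    have e := congrArg (fun t => t ^ q) this
    simp only [herm_conj hF, herm_ev hF, zero_pow (q_pos hF).ne'] at e
    exact e
  rw [hu, ← sum_ev u, Fin.sum_univ_four, h2 2 (Or.inl rfl), h2 3 (Or.inr rfl)]
  simp only [zero_smul, add_zero, Matrix.mulVec_add, Matrix.mulVec_smul, herm_add_right hF, herm_smul_right hF]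
  rw [show (Q : Matrix (Fin 4) (Fin 4) F) *ᵥ ev 0 = col Q 0 from rfl,
    show (Q : Matrix (Fin 4) (Fin 4) F) *ᵥ ev 1 = col Q 1 from rfl, hfix 0 (Or.inl rfl), hfix 1 (Or.inr rfl)]
  ring

/-- The window from three block images in two standard pairs. -/
theorem exists_window (g : Cfsg.SU 4 F q →* G) (hker : g.ker ≤ Subgroup.center _) {V W U0 U1 U2 : Subgroup G}
    (π : PairHom V U0 U1 F q) (ρ : PairHom W U1 U2 F q)
    (hc : ∀ x ∈ U0, ∀ y ∈ U2, x * y = y * x)
    (h0 : ∃ P hP, U0 = (blk (q := q) (F := F) P hP q01).map g)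
    (h1 : ∃ P hP, U1 = (blk (q := q) (F := F) P hP q01).map g)
    (h2 : ∃ P hP, U2 = (blk (q := q) (F := F) P hP q01).map g) :
    ∃ h : Cfsg.SU 4 F q →* G,
      (∃ (P : Matrix.GeneralLinearGroup (Fin 4) F) (hP : IsIsom q P), h = g.comp (conjIso P hP)) ∧
      (supp (F := F) (q := q) (iv 0 2 : Set (Fin 4))).map h = U0 ∧
      (supp (F := F) (q := q) (iv 1 2 : Set (Fin 4))).map h = U1 ∧
      (supp (F := F) (q := q) (iv 2 2 : Set (Fin 4))).map h = U2 := by
  obtain ⟨P1, hP1, e0⟩ := h0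
  obtain ⟨P2, hP2, e1⟩ := h1
  obtain ⟨P3, hP3, e2⟩ := h2
  obtain ⟨l, hl, hl2, -, -⟩ := exists_lam hF hq
  have hq0 := q_pos hF
  have hl' : l * l ^ q + (0 : F) * 0 ^ q = 1 := by simpa [zero_pow hq0.ne'] using hl
  have hs : (0 : F) * 0 ^ q + 1 * 1 ^ q = 1 := by simp
  have hl1 : l ≠ 1 := by rintro rfl; exact hl2 (one_mul _)
  have one_el : ∀ h, el2 hF (1 : F) 0 h = 1 := fun h => ext_app fun u => by
    rw [app_el2, app_one]; funext i; fin_cases i <;> simp [zero_pow hq0.ne']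
  have hpow : ∀ k : ℕ, ∃ h, el2 hF l 0 hl' ^ k = el2 hF (l ^ k) 0 h := by
    intro k
    induction k with
    | zero => exact ⟨by simp [zero_pow hq0.ne'], by rw [pow_zero]; simp only [pow_zero]; rw [one_el]⟩
    | succ k ih =>
      obtain ⟨h, e⟩ := ih
      obtain ⟨h', e'⟩ := el2_mul hF h hl'
      have hh : l ^ (k + 1) * (l ^ (k + 1)) ^ q + (0 : F) * 0 ^ q = 1 := by
        rw [← pow_mul, mul_comm (k + 1) q, pow_mul, ← mul_pow, hl, one_pow]; simp
      refine ⟨hh, ?_⟩
      rw [pow_succ (el2 hF l 0 hl'), e]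
      exact e'.trans ((el2_ext hF _ hh).2 ⟨by rw [pow_succ]; ring, by simp⟩)
  have hk1 : el2 hF l 0 hl' ^ (q + 1) = 1 := by
    obtain ⟨h, e⟩ := hpow (q + 1)
    rw [e, ← one_el (by simp), el2_ext]
    exact ⟨by rw [pow_succ', hl], rfl⟩
  have hk2 : el2 hF l 0 hl' ^ (q - 1) ≠ 1 := by
    obtain ⟨h, e⟩ := hpow (q - 1)
    rw [e, ← one_el (by simp), Ne, el2_ext]
    rintro ⟨e', -⟩
    rcases hq with rfl | rfl
    · simp at e'; exact hl1 e'
    · exact hl2 (by rw [← e']; norm_num [pow_two])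
  have m01 : ∀ A : Cfsg.SU 2 F q, p01 A ∈ supp (iv 0 2 : Set (Fin 3)) := fun A => by
    rw [← range_p01 hF]; exact ⟨A, rfl⟩
  have m12 : ∀ A : Cfsg.SU 2 F q, p12 A ∈ supp (iv 1 2 : Set (Fin 3)) := fun A => by
    rw [← range_p12 hF]; exact ⟨A, rfl⟩
  have hA' : ∀ {X}, X ∈ supp (iv 0 2 : Set (Fin 3)) → π.hom X ∈ U0 := fun {X} hX => π.mapA.le ⟨X, hX, rfl⟩
  have hB' : ∀ {X}, X ∈ supp (iv 1 2 : Set (Fin 3)) → π.hom X ∈ U1 := fun {X} hX => π.mapB.le ⟨X, hX, rfl⟩
  have hA2 : ∀ {X}, X ∈ supp (iv 0 2 : Set (Fin 3)) → ρ.hom X ∈ U1 := fun {X} hX => ρ.mapA.le ⟨X, hX, rfl⟩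
  have hB2 : ∀ {X}, X ∈ supp (iv 1 2 : Set (Fin 3)) → ρ.hom X ∈ U2 := fun {X} hX => ρ.mapB.le ⟨X, hX, rfl⟩
  have nd : p01 (el2 hF (0 : F) 1 hs) ∉ supp (iv 1 2 : Set (Fin 3)) := by
    intro h
    have := congrFun (h 0 (by simp [iv])) 0
    simp [app_p01, app_el2, ev, zero_pow hq0.ne'] at this
  have nd' : p12 (el2 hF (0 : F) 1 hs) ∉ supp (iv 0 2 : Set (Fin 3)) := by
    intro h
    have := congrFun (h 2 (by simp [iv])) 2
    simp [app_p12, app_el2, ev, zero_pow hq0.ne'] at this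
  -- link data from the two pairs
  have link1 : ∃ v : Fin 4 → F, Cfsg.hermForm 4 F q v v = 1 ∧
      (∀ i, (i = 2 ∨ i = 3) → Cfsg.hermForm 4 F q (col P1 i) v = 0) ∧
      (∀ i, (i = 2 ∨ i = 3) → Cfsg.hermForm 4 F q (col P2 i) v = 0) := by
    refine meet_of_pair hF hq g hker hP1 hP2 e0 e1 (π.hom (p12 (el2 hF l 0 hl'))) ?_ ?_ ?_ ?_ ?_ ?_
    · exact hB' (m12 _)
    · rw [← map_pow, ← map_pow, hk1, map_one, map_one]
    · intro e; apply hk2
      rw [← map_pow, ← map_pow] at e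
      exact p12_injective (π.inj (by rw [e, map_one, map_one]))
    · intro u hu
      obtain ⟨X, hX, rfl⟩ := π.mapA.ge hu
      apply π.mapA.le
      refine ⟨p12 (el2 hF l 0 hl') * X * (p12 (el2 hF l 0 hl'))⁻¹, fun i hi => ?_, by simp [map_mul, map_inv]⟩
      have hi2 : i = 2 := by fin_cases i <;> simp [iv] at hi ⊢
      subst hi2
      obtain ⟨h', ei⟩ := el2_inv hF hl'
      rw [← map_inv, ei, app_mul, app_mul]
      have e1' : app (p12 (el2 hF (l ^ q) (-0) h')) (ev 2 : Fin 3 → F) = l • ev 2 := by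
        rw [app_p12, app_el2]; funext t; fin_cases t <;> simp [ev, pow_q_pow_q hF, zero_pow hq0.ne']
      rw [e1', app_smul, hX 2 hi]
      funext t
      rw [app_smul, Pi.smul_apply, app_p12, app_el2]
      fin_cases t <;> simp [ev, zero_pow hq0.ne', hl]
    · refine ⟨π.hom (p01 (el2 hF 0 1 hs)), hA' (m01 _), fun e => ?_⟩
      rw [← map_mul, ← map_mul] at e
      have e' := congrArg (fun X => app X (ev 0 : Fin 3 → F) 1) (π.inj e)
      simp [app_mul, app_p01, app_p12, app_el2, ev, zero_pow hq0.ne'] at e'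
      exact hl1 e'
    · intro e
      apply nd
      have : π.hom (p01 (el2 hF (0 : F) 1 hs)) ∈ U1 := e ▸ hA' (m01 _)
      obtain ⟨X, hX, hXe⟩ := π.mapB.ge this
      exact π.inj hXe ▸ hX
  have link2 : ∃ v : Fin 4 → F, Cfsg.hermForm 4 F q v v = 1 ∧
      (∀ i, (i = 2 ∨ i = 3) → Cfsg.hermForm 4 F q (col P3 i) v = 0) ∧
      (∀ i, (i = 2 ∨ i = 3) → Cfsg.hermForm 4 F q (col P2 i) v = 0) := by
    refine meet_of_pair hF hq g hker hP3 hP2 e2 e1 (ρ.hom (p01 (el2 hF l 0 hl'))) ?_ ?_ ?_ ?_ ?_ ?_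
    · exact hA2 (m01 _)
    · rw [← map_pow, ← map_pow, hk1, map_one, map_one]
    · intro e; apply hk2
      rw [← map_pow, ← map_pow] at e
      exact p01_injective (ρ.inj (by rw [e, map_one, map_one]))
    · intro u hu
      obtain ⟨X, hX, rfl⟩ := ρ.mapB.ge hu
      apply ρ.mapB.le
      refine ⟨p01 (el2 hF l 0 hl') * X * (p01 (el2 hF l 0 hl'))⁻¹, fun i hi => ?_, by simp [map_mul, map_inv]⟩
      have hi0 : i = 0 := by fin_cases i <;> simp [iv] at hi ⊢
      subst hi0
      obtain ⟨h', ei⟩ := el2_inv hF hl'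
      rw [← map_inv, ei, app_mul, app_mul]
      have e1' : app (p01 (el2 hF (l ^ q) (-0) h')) (ev 0 : Fin 3 → F) = l ^ q • ev 0 := by
        rw [app_p01, app_el2]; funext t; fin_cases t <;> simp [ev, zero_pow hq0.ne']
      rw [e1', app_smul, hX 0 hi]
      funext t
      rw [app_smul, Pi.smul_apply, app_p01, app_el2]
      fin_cases t <;> simp [ev, zero_pow hq0.ne']
      linear_combination hl
    · refine ⟨ρ.hom (p12 (el2 hF 0 1 hs)), hB2 (m12 _), fun e => ?_⟩
      rw [← map_mul, ← map_mul] at e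
      have e' := congrArg (fun X => app X (ev 1 : Fin 3 → F) 2) (ρ.inj e)
      simp [app_mul, app_p01, app_p12, app_el2, ev, zero_pow hq0.ne'] at e'
      exact hl1 (by linear_combination hl + l * e')
    · intro e
      apply nd'
      have : ρ.hom (p12 (el2 hF (0 : F) 1 hs)) ∈ U1 := e ▸ hB2 (m12 _)
      obtain ⟨X, hX, hXe⟩ := ρ.mapA.ge this
      exact ρ.inj hXe ▸ hX
  obtain ⟨P, hP, a0, a1, a2⟩ := assemble hF hq g hker hP1 hP2 hP3 (e0 ▸ e2 ▸ hc) link1 link2
  refine ⟨g.comp (conjIso P hP), ⟨P, hP, rfl⟩, ?_, ?_, ?_⟩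
  · rw [← Subgroup.map_map, e0, a0]; rfl
  · rw [← Subgroup.map_map, e1, a1]; rfl
  · rw [← Subgroup.map_map, e2, a2]; rfl

end Cfsg.Agent.Lib.PhanWeak91
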