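import Cfsg.Agent.Lib.PhanWeak91.PairThree2
import Cfsg.Agent.Lib.PhanWeak91.Window

/-!
Weak Phan systems for `q = 3`.
-/

set_option autoImplicit false
set_option linter.unusedSectionVars false

namespace Cfsg.Agent.Lib.PhanWeak91

open Matrix Cfsg.Agent.Lib.Forms

variable {F : Type*} [Field F] [Fintype F] {G : Type*} [Group G] (hF : Fintype.card F = 3 ^ 2)
include hF

theorem center_three : Subgroup.center (Cfsg.SU 3 F 3) = ⊥ := by
  rw [eq_bot_iff]
  intro z hz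
  obtain ⟨c, hc, hzc⟩ := center_scalar hF hz
  have h3 := three_eq_zero hF rfl
  have hp : (c - 1) * ((c - 1) * (c - 1)) = 0 := by linear_combination hc + (c - c * c) * h3
  have hc1 : c = 1 := by
    rcases mul_eq_zero.1 hp with e | e
    · exact sub_eq_zero.1 e
    · exact sub_eq_zero.1 (mul_self_eq_zero.1 e)
  exact Subgroup.mem_bot.2 (ext_app fun x => by rw [hzc, hc1, one_smul, app_one])

theorem pairHom_three {V A B : Subgroup G} (h : Cfsg.IsStandardUnitaryPair V A B F 3) :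
    Nonempty (PairHom V A B F 3) := by
  rcases h with ⟨ψ, hA, hB⟩ | ⟨ψ, hA, hB⟩
  · refine ⟨⟨V.subtype.comp ψ.toMonoidHom, Subtype.val_injective.comp ψ.injective, ?_, ?_, ?_⟩⟩
    · rw [MonoidHom.range_comp, MonoidHom.range_eq_top.2 ψ.surjective, ← MonoidHom.range_eq_map,
        Subgroup.range_subtype]
    all_goals (rw [← suBlock_eq hF])
    · convert hA using 2; congr 1; ext i; fin_cases i <;> simp [iv]
    · convert hB using 2; congr 1; ext i; fin_cases i <;> simp [iv]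
  · have hinj : Function.Injective (ψ.toMonoidHom.comp (QuotientGroup.mk' (Subgroup.center (Cfsg.SU 3 F 3)))) := by
      intro x y e
      have := ψ.injective e
      rw [QuotientGroup.mk'_apply, QuotientGroup.mk'_apply, QuotientGroup.eq, center_three hF, Subgroup.mem_bot,
        inv_mul_eq_one] at this
      exact this
    refine ⟨⟨V.subtype.comp (ψ.toMonoidHom.comp (QuotientGroup.mk' _)), Subtype.val_injective.comp hinj, ?_, ?_, ?_⟩⟩
    · rw [MonoidHom.range_comp, MonoidHom.range_eq_top.2 (ψ.surjective.comp (QuotientGroup.mk'_surjective _)),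
        ← MonoidHom.range_eq_map, Subgroup.range_subtype]
    all_goals (rw [← suBlock_eq hF])
    · convert hA using 2; congr 1; ext i; fin_cases i <;> simp [iv]
    · convert hB using 2; congr 1; ext i; fin_cases i <;> simp [iv]

theorem PairHom.sup_eq {V A B : Subgroup G} (π : PairHom V A B F 3) : V = A ⊔ B := by
  have h := gen_su3_three hF rfl
    ((supp (iv 0 2 : Set (Fin 3))) ⊔ supp (iv 1 2 : Set (Fin 3))) le_sup_left le_sup_right
  rw [← π.range_eq, MonoidHom.range_eq_map, ← h, Subgroup.map_sup, π.mapA, π.mapB]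

theorem supp_three_eq (j : ℕ) (hj : j + 3 ≤ 4) :
    (supp (iv j 3) : Subgroup (Cfsg.SU 4 F 3)) = supp (iv j 2) ⊔ supp (iv (j + 1) 2) := by
  refine le_antisymm ?_ (sup_le (supp_mono (iv_sub le_rfl (by omega))) (supp_mono (iv_sub (by omega) (by omega))))
  rw [← range_ivf j 3 hj, ← range_emb hF (ivf_injective j 3 hj), MonoidHom.range_eq_map,
    ← gen_su3_three hF rfl
      ((supp (iv 0 2 : Set (Fin 3))) ⊔ supp (iv 1 2 : Set (Fin 3))) le_sup_left le_sup_right,
    Subgroup.map_sup]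
  refine sup_le_sup ?_ ?_
  · rw [← range_p01 hF, MonoidHom.map_range]
    rintro _ ⟨A, rfl⟩
    show emb (ivf j 3 hj) (ivf_injective _ _ _) (p01 A) ∈ _
    rw [emb_p01 j hj, ← range_ivf j 2 (by omega)]
    exact emb_mem_supp _ _
  · rw [← range_p12 hF, MonoidHom.map_range]
    rintro _ ⟨A, rfl⟩
    show emb (ivf j 3 hj) (ivf_injective _ _ _) (p12 A) ∈ _
    rw [emb_p12 j hj, ← range_ivf (j + 1) 2 (by omega)]
    exact emb_mem_supp _ _

/-- The central square root data for both subgroups of a standard pair. -/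
theorem pair_sq {V A B : Subgroup G} (π : PairHom V A B F 3) :
    (∃ c ∈ V, (∀ u ∈ A, c * u = u * c) ∧ c * c ∈ A ∧ c * c * (c * c) = 1 ∧ ∃ v ∈ V, c * c * v ≠ v * (c * c)) ∧
    (∃ c ∈ V, (∀ u ∈ B, c * u = u * c) ∧ c * c ∈ B ∧ c * c * (c * c) = 1 ∧ ∃ v ∈ V, c * c * v ≠ v * (c * c)) ∧
    Nonempty (Cfsg.SU 2 F 3 ≃* A) ∧ Nonempty (Cfsg.SU 2 F 3 ≃* B) := by
  obtain ⟨x, hx⟩ := exists_neg_one hF
  set μ := x * x with hμ
  have hμ2 : μ * μ = -1 := by rw [hμ]; linear_combination hx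
  have hμ3 : μ ^ 3 = -μ := by linear_combination μ * hμ2
  have hm : μ * μ ^ 3 + (0 : F) * 0 ^ 3 = 1 := by linear_combination μ * hμ3 - hμ2
  have hm' : -μ * (-μ) ^ 3 + (0 : F) * 0 ^ 3 = 1 := by linear_combination μ * hμ3 - hμ2
  have hn : (-1 : F) * (-1) ^ 3 + (0 : F) * 0 ^ 3 = 1 := by ring
  have hs : (0 : F) * 0 ^ 3 + 1 * 1 ^ 3 = 1 := by ring
  have h2 := three_ne_two hF
  have inV : ∀ X, π.hom X ∈ V := fun X => π.range_eq.le ⟨X, rfl⟩
  let Ca : Cfsg.SU 3 F 3 := p01 (el2 hF μ 0 hm) * p12 (el2 hF (-1) 0 hn)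
  let Cb : Cfsg.SU 3 F 3 := p01 (el2 hF (-1) 0 hn) * p12 (el2 hF (-μ) 0 hm')
  have hCa : ∀ y, app Ca y = ![μ * y 0, μ * y 1, -y 2] := fun y => by
    rw [app_mul, app_p01, app_p12]
    funext i
    fin_cases i <;> simp [app_el2, hμ3] <;> grind
  have hCb : ∀ y, app Cb y = ![-y 0, μ * y 1, μ * y 2] := fun y => by
    rw [app_mul, app_p01, app_p12]
    funext i
    fin_cases i <;> simp [app_el2, hμ3] <;> grind
  clear_value Ca Cb
  have m01 : ∀ {X}, X ∈ supp (F := F) (q := 3) (iv 0 2 : Set (Fin 3)) → ∃ Y, p01 Y = X := fun {X} hX => by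
    rw [← range_p01 hF] at hX; exact hX
  have m12 : ∀ {X}, X ∈ supp (F := F) (q := 3) (iv 1 2 : Set (Fin 3)) → ∃ Y, p12 Y = X := fun {X} hX => by
    rw [← range_p12 hF] at hX; exact hX
  have i01 : ∀ Y : Cfsg.SU 2 F 3, p01 Y ∈ supp (iv 0 2 : Set (Fin 3)) := fun Y => by
    rw [← range_p01 hF]; exact ⟨Y, rfl⟩
  have i12 : ∀ Y : Cfsg.SU 2 F 3, p12 Y ∈ supp (iv 1 2 : Set (Fin 3)) := fun Y => by
    rw [← range_p12 hF]; exact ⟨Y, rfl⟩
  refine ⟨⟨π.hom Ca, inV _, ?_, ?_, ?_, π.hom (p12 (el2 hF 0 1 hs)), inV _, ?_⟩,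
    ⟨π.hom Cb, inV _, ?_, ?_, ?_, π.hom (p01 (el2 hF 0 1 hs)), inV _, ?_⟩, ?_, ?_⟩
  · intro u hu
    obtain ⟨X, hX, rfl⟩ := π.mapA.ge hu
    obtain ⟨Y, rfl⟩ := m01 hX
    rw [← map_mul, ← map_mul]
    congr 1
    refine ext_app fun y => ?_
    rw [app_mul, app_mul, hCa, app_p01, app_p01, hCa]
    have e : (![μ * y 0, μ * y 1] : Fin 2 → F) = μ • ![y 0, y 1] := by
      funext i; fin_cases i <;> simp
    funext i
    fin_cases i <;> simp [e, app_smul, -Matrix.smul_cons]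
  · refine π.mapA.le ⟨p01 (el2 hF (-1) 0 hn), i01 _, ?_⟩
    rw [← map_mul]; congr 1
    refine ext_app fun y => ?_
    rw [app_mul, hCa, hCa, app_p01, app_el2]
    funext i
    fin_cases i <;> simp <;> grind
  · rw [← map_mul, ← map_mul, ← π.hom.map_one]; congr 1
    refine ext_app fun y => ?_
    simp only [app_mul, hCa, app_one]
    funext i
    fin_cases i <;> simp
    · linear_combination (y 0) * (μ * μ - 1) * hμ2
    · linear_combination (y 1) * (μ * μ - 1) * hμ2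
  · rw [← map_mul, ← map_mul, ← map_mul]
    intro e
    have e' := congrArg (fun X => app X (ev 1 : Fin 3 → F) 2) (π.inj e)
    simp [app_mul, hCa, app_p12, app_el2, ev] at e'
    exact h2 (by linear_combination e' + hμ2)
  · intro u hu
    obtain ⟨X, hX, rfl⟩ := π.mapB.ge hu
    obtain ⟨Y, rfl⟩ := m12 hX
    rw [← map_mul, ← map_mul]
    congr 1
    refine ext_app fun y => ?_
    rw [app_mul, app_mul, hCb, app_p12, app_p12, hCb]
    have e : (![μ * y 1, μ * y 2] : Fin 2 → F) = μ • ![y 1, y 2] := by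
      funext i; fin_cases i <;> simp
    funext i
    fin_cases i <;> simp [e, app_smul, -Matrix.smul_cons]
  · refine π.mapB.le ⟨p12 (el2 hF (-1) 0 hn), i12 _, ?_⟩
    rw [← map_mul]; congr 1
    refine ext_app fun y => ?_
    rw [app_mul, hCb, hCb, app_p12, app_el2]
    funext i
    fin_cases i <;> simp <;> grind
  · rw [← map_mul, ← map_mul, ← π.hom.map_one]; congr 1
    refine ext_app fun y => ?_
    simp only [app_mul, hCb, app_one]
    funext i
    fin_cases i <;> simp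
    · linear_combination (y 1) * (μ * μ - 1) * hμ2
    · linear_combination (y 2) * (μ * μ - 1) * hμ2
  · rw [← map_mul, ← map_mul, ← map_mul]
    intro e
    have e' := congrArg (fun X => app X (ev 1 : Fin 3 → F) 0) (π.inj e)
    simp [app_mul, hCb, app_p01, app_el2, ev] at e'
    grind
  · refine ⟨(MonoidHom.ofInjective (f := π.hom.comp p01) (π.inj.comp p01_injective)).trans
      (MulEquiv.subgroupCongr ?_)⟩
    rw [MonoidHom.range_comp, range_p01 hF, π.mapA]
  · refine ⟨(MonoidHom.ofInjective (f := π.hom.comp p12) (π.inj.comp p12_injective)).trans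
      (MulEquiv.subgroupCongr ?_)⟩
    rw [MonoidHom.range_comp, range_p12 hF, π.mapB]

/-- The window of two consecutive standard pairs. -/
theorem window_three {V W U0 U1 U2 : Subgroup G} (π : PairHom V U0 U1 F 3) (ρ : PairHom W U1 U2 F 3)
    (g : Cfsg.SU 4 F 3 →* ↥(V ⊔ W)) (hg : Function.Surjective g) (hc : ∀ x ∈ U0, ∀ y ∈ U2, x * y = y * x) :
    ∃ h : Cfsg.SU 4 F 3 →* G,
      (supp (F := F) (q := 3) (iv 0 2 : Set (Fin 4))).map h = U0 ∧
      (supp (F := F) (q := 3) (iv 1 2 : Set (Fin 4))).map h = U1 ∧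
      (supp (F := F) (q := 3) (iv 2 2 : Set (Fin 4))).map h = U2 ∧
      ∀ j (hj : j + 3 ≤ 4) (x y : Cfsg.SU 3 F 3),
        h (emb (ivf j 3 hj) (ivf_injective _ _ _) x) = h (emb (ivf j 3 hj) (ivf_injective _ _ _) y) → x = y := by
  set g' : Cfsg.SU 4 F 3 →* G := (V ⊔ W).subtype.comp g with hg'
  have hr : g'.range = V ⊔ W := by
    rw [hg', MonoidHom.range_comp, MonoidHom.range_eq_top.2 hg, ← MonoidHom.range_eq_map, Subgroup.range_subtype]
  obtain ⟨⟨c0, hc0, a0, b0, d0, v0, hv0, n0⟩, ⟨c1, hc1, a1, b1, d1, v1, hv1, n1⟩, ⟨e0⟩, ⟨e1⟩⟩ := pair_sq hF π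
  obtain ⟨-, ⟨c2, hc2, a2, b2, d2, v2, hv2, n2⟩, -, ⟨e2⟩⟩ := pair_sq hF ρ
  have hne : g'.range ≠ ⊥ := fun e => n0 (by
    rw [hr] at e
    have h1 : c0 = 1 := Subgroup.mem_bot.1 (e ▸ (le_sup_left : V ≤ V ⊔ W) hc0)
    simp [h1])
  have hker := ker_le_center hF g' hne
  have hV : V ≤ g'.range := hr ▸ le_sup_left
  have hW : W ≤ g'.range := hr ▸ le_sup_right
  have u0 : U0 ≤ g'.range := fun u hu => hV (π.range_eq.le (by
    obtain ⟨X, -, rfl⟩ := π.mapA.ge hu; exact ⟨X, rfl⟩))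
  have u1 : U1 ≤ g'.range := fun u hu => hV (π.range_eq.le (by
    obtain ⟨X, -, rfl⟩ := π.mapB.ge hu; exact ⟨X, rfl⟩))
  have u2 : U2 ≤ g'.range := fun u hu => hW (ρ.range_eq.le (by
    obtain ⟨X, -, rfl⟩ := ρ.mapB.ge hu; exact ⟨X, rfl⟩))
  obtain ⟨h, ⟨P, hP, hh⟩, m0, m1, m2⟩ := exists_window hF (Or.inr rfl) g' hker π ρ hc
    (exists_pair_three hF g' hker U0 u0 e0 (hV hc0) a0 b0 d0 ⟨v0, hV hv0, n0⟩)
    (exists_pair_three hF g' hker U1 u1 e1 (hV hc1) a1 b1 d1 ⟨v1, hV hv1, n1⟩)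
    (exists_pair_three hF g' hker U2 u2 e2 (hW hc2) a2 b2 d2 ⟨v2, hW hv2, n2⟩)
  refine ⟨h, m0, m1, m2, fun j hj x y e => ?_⟩
  obtain ⟨i, hi⟩ : ∃ i : Fin 4, i ∉ Set.range (ivf j 3 hj) := by
    rcases (by omega : j = 0 ∨ j = 1) with rfl | rfl
    · exact ⟨3, by rw [range_ivf]; simp [iv]⟩
    · exact ⟨0, by rw [range_ivf]; simp [iv]⟩
  have h1 : g' (conjIso P hP (emb (ivf j 3 hj) (ivf_injective _ _ _) (y⁻¹ * x))) = 1 := by
    rw [map_mul, map_mul, map_mul, map_inv, map_inv, map_inv]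
    rw [hh] at e
    simp only [MonoidHom.comp_apply] at e
    rw [e]; group
  have hz := eq_one_of_fix hF (Or.inr rfl) g' hker h1 (v := col P i) (fun e' => by
      have := col_on hF hP i i
      rw [e'] at this
      simp [Cfsg.hermForm] at this) (by rw [col, app_conjIso, emb_mem_supp _ _ i hi])
  have := emb_injective (ivf_injective j 3 hj) (conjIso_injective P hP (hz.trans (map_one _).symm) |>.trans (map_one _).symm)
  exact (inv_mul_eq_one.1 this).symm

/-- Weak Phan systems over the field with nine elements. -/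
theorem phan_three (n : ℕ) (hn : 3 ≤ n) (U : Fin n → Subgroup G) (V : Fin n → Fin n → Subgroup G)
    (h1 : ∀ i j : Fin n, (i : ℕ) + 2 ≤ j → ∀ x ∈ U i, ∀ y ∈ U j, x * y = y * x)
    (h2 : ∀ i j : Fin n, (i : ℕ) + 1 = j → Cfsg.IsStandardUnitaryPair (V i j) (U i) (U j) F 3)
    (hgen : (⨆ i, U i) ⊔ (⨆ (i : Fin n) (j : Fin n) (_ : (i : ℕ) + 1 = j), V i j) = ⊤)
    (h4 : ∀ i j k : Fin n, (i : ℕ) + 1 = j → (j : ℕ) + 1 = k →
      ∃ g : Cfsg.SU 4 F 3 →* ↥(V i j ⊔ V j k), Function.Surjective g) :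
    ∃ f : Cfsg.SU (n + 1) F 3 →* G, Function.Surjective f := by
  classical
  let U' : ℕ → Subgroup G := fun a => if h : a < n then U ⟨a, h⟩ else ⊥
  let V' : ℕ → Subgroup G := fun c => if h : c + 1 < n then V ⟨c, by omega⟩ ⟨c + 1, h⟩ else ⊥
  have hU' : ∀ a (h : a < n), U' a = U ⟨a, h⟩ := fun a h => dif_pos h
  have hV' : ∀ c (h : c + 1 < n), V' c = V ⟨c, by omega⟩ ⟨c + 1, h⟩ := fun c h => dif_pos h
  have hpair : ∀ c, c + 1 < n → Nonempty (PairHom (V' c) (U' c) (U' (c + 1)) F 3) := fun c h => by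
    rw [hV' c h, hU' c (by omega), hU' (c + 1) h]
    exact pairHom_three hF (h2 _ _ rfl)
  have hsup : ∀ c, c + 1 < n → V' c = U' c ⊔ U' (c + 1) := fun c h => by
    obtain ⟨π⟩ := hpair c h
    exact π.sup_eq hF
  have hUU : ∀ a b, a < n → b < n → (a + 2 ≤ b ∨ b + 2 ≤ a) → ∀ x ∈ U' a, ∀ y ∈ U' b, x * y = y * x := by
    intro a b ha hb hab x hx y hy
    rw [hU' a ha] at hx
    rw [hU' b hb] at hy
    rcases hab with h | h
    · exact h1 _ _ h x hx y hy
    · exact (h1 _ _ h y hy x hx).symm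
  have hUV : ∀ a c, a + 2 ≤ n + 1 → c + 3 ≤ n + 1 → (a + 2 ≤ c ∨ c + 3 ≤ a) →
      ∀ x ∈ U' a, ∀ y ∈ V' c, x * y = y * x := by
    intro a c ha hc hac x hx y hy
    rw [hsup c (by omega)] at hy
    have : U' c ⊔ U' (c + 1) ≤ Subgroup.centralizer {x} := sup_le
      (fun z hz => Subgroup.mem_centralizer_iff.2 fun w hw => by
        rw [Set.mem_singleton_iff] at hw; rw [hw]
        exact hUU a c (by omega) (by omega) (by omega) x hx z hz)
      (fun z hz => Subgroup.mem_centralizer_iff.2 fun w hw => by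
        rw [Set.mem_singleton_iff] at hw; rw [hw]
        exact hUU a (c + 1) (by omega) (by omega) (by omega) x hx z hz)
    exact Subgroup.mem_centralizer_iff.1 (this hy) x rfl
  refine exists_surjection hF (Or.inr rfl) (by omega) U' V' ?_ hUV ?_ ?_
  · intro i hi
    obtain ⟨π⟩ := hpair i (by omega)
    obtain ⟨ρ⟩ := hpair (i + 1) (by omega)
    obtain ⟨g, hg⟩ := h4 ⟨i, by omega⟩ ⟨i + 1, by omega⟩ ⟨i + 2, by omega⟩ rfl rfl
    have he : V ⟨i, by omega⟩ ⟨i + 1, by omega⟩ ⊔ V ⟨i + 1, by omega⟩ ⟨i + 2, by omega⟩ = V' i ⊔ V' (i + 1) := by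
      rw [hV' i (by omega), hV' (i + 1) (by omega)]
    obtain ⟨h, m0, m1, m2, hinj⟩ := window_three hF π ρ ((MulEquiv.subgroupCongr he).toMonoidHom.comp g)
      ((MulEquiv.subgroupCongr he).surjective.comp hg)
      (hUU i (i + 1 + 1) (by omega) (by omega) (Or.inl le_rfl))
    refine ⟨⟨h, fun j hj => ?_, fun j hj => ?_, hinj⟩⟩
    · rcases (by omega : j = 0 ∨ j = 1 ∨ j = 2) with rfl | rfl | rfl
      · exact m0
      · exact m1
      · exact m2
    · rw [supp_three_eq hF j (by omega), Subgroup.map_sup, hsup (i + j) (by omega)]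
      rcases (by omega : j = 0 ∨ j = 1) with rfl | rfl
      · rw [m0, m1]; rfl
      · rw [m1, m2]
  · intro a c hc hac x hx y hy
    rw [hsup a (by omega)] at hx
    have : U' a ⊔ U' (a + 1) ≤ Subgroup.centralizer {y} := sup_le
      (fun z hz => Subgroup.mem_centralizer_iff.2 fun w hw => by
        rw [Set.mem_singleton_iff] at hw; rw [hw]
        exact (hUV a c (by omega) hc (by omega) z hz y hy).symm)
      (fun z hz => Subgroup.mem_centralizer_iff.2 fun w hw => by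
        rw [Set.mem_singleton_iff] at hw; rw [hw]
        exact (hUV (a + 1) c (by omega) hc (by omega) z hz y hy).symm)
    exact (Subgroup.mem_centralizer_iff.1 (this hx) y rfl).symm
  · rw [eq_top_iff, ← hgen]
    refine sup_le (iSup_le fun i => ?_) (iSup_le fun i => iSup_le fun j => iSup_le fun hij => ?_)
    · refine le_sup_of_le_left (le_iSup_of_le (i : ℕ) (le_iSup_of_le (by omega) ?_))
      rw [hU' i i.isLt]
    · refine le_sup_of_le_right (le_iSup_of_le (i : ℕ) (le_iSup_of_le (by omega) ?_))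
      rw [hV' i (by omega)]
      exact le_of_eq (congrArg₂ V rfl (Fin.ext hij.symm))

end Cfsg.Agent.Lib.PhanWeak91
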