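import Cfsg.Agent.Lib.PhanWeak91.Basic
import Cfsg.Agent.Lib.Forms.Witt
import Cfsg.Agent.Lib.Forms.Families

/-!
Transitivity of block subgroups on vectors of a given norm.
-/

set_option autoImplicit false
set_option linter.unusedSectionVars false

namespace Cfsg.Agent.Lib.PhanWeak91

open Matrix Cfsg.Agent.Lib.Forms

variable {F : Type*} [Field F] [Fintype F] {q m k : ℕ}

/-- Coordinates `a ≤ i < a + k`. -/
def iv (a k : ℕ) : Set (Fin m) := {i | a ≤ (i : ℕ) ∧ (i : ℕ) < a + k}

/-- The interval embedding. -/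
def ivf (a k : ℕ) (h : a + k ≤ m) : Fin k → Fin m := fun j => ⟨a + j, by omega⟩

theorem ivf_injective (a k : ℕ) (h : a + k ≤ m) : Function.Injective (ivf a k h) := fun i j e => by
  have := congrArg Fin.val e
  simp [ivf] at this
  exact Fin.ext this

theorem range_ivf (a k : ℕ) (h : a + k ≤ m) : Set.range (ivf a k h) = iv a k := by
  ext i
  constructor
  · rintro ⟨j, rfl⟩
    simp [iv, ivf, j.isLt]
  · intro hi
    exact ⟨⟨(i : ℕ) - a, by simp only [iv, Set.mem_setOf_eq] at hi; omega⟩, Fin.ext (by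
      simp only [iv, Set.mem_setOf_eq] at hi; simp [ivf]; omega)⟩

theorem iv_sub {a k b l : ℕ} (h1 : b ≤ a) (h2 : a + k ≤ b + l) : (iv a k : Set (Fin m)) ⊆ iv b l :=
  fun i hi => by simp only [iv, Set.mem_setOf_eq] at hi ⊢; omega

theorem iv_disj {a k b l : ℕ} (h : a + k ≤ b) : Disjoint (iv a k : Set (Fin m)) (iv b l) :=
  Set.disjoint_left.2 fun i hi hi' => by simp only [iv, Set.mem_setOf_eq] at hi hi'; omega

theorem supp_iv_full : supp (F := F) (q := q) (iv 0 m : Set (Fin m)) = ⊤ := by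
  rw [← supp_univ]
  congr 1
  ext i; simp [iv]

variable (hF : Fintype.card F = q ^ 2)
include hF

theorem exists_norm {c : F} (hc : c ^ q = c) : ∃ x : F, x * x ^ q = c := by
  obtain ⟨x, hx⟩ := exists_norm_eq (σ := qPowHom hF) (qPowHom_ne_id hF) (qPowHom_qPowHom hF)
    (c := c) (by simpa using hc)
  exact ⟨x, by simpa using hx⟩

theorem herm_self_fix (x : Fin m → F) : Cfsg.hermForm m F q x x ^ q = Cfsg.hermForm m F q x x :=
  herm_conj hF x x

theorem neg_one_fix : (-1 : F) ^ q = -1 := by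
  have := map_neg (qPowHom hF) (1 : F)
  simpa using this

theorem exists_neg_one : ∃ z : F, z * z ^ q = -1 := exists_norm hF (neg_one_fix hF)

omit hF in
theorem herm_pair (hq : 0 < q) {i j : Fin m} (hij : i ≠ j) (a b : F) :
    Cfsg.hermForm m F q (a • ev i + b • ev j) (a • ev i + b • ev j) = a * a ^ q + b * b ^ q := by
  rw [Cfsg.hermForm, Finset.sum_eq_add i j hij]
  · simp [ev_apply, hij, hij.symm]
  · intro l _ hl
    simp [ev_apply, hl.1, hl.2]
  · simp
  · simp

/-- A nonzero vector of any norm supported on two coordinates. -/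
theorem exists_pair_norm {i j : Fin m} (hij : i ≠ j) {c : F} (hc : c ^ q = c) :
    ∃ x : Fin m → F, x ≠ 0 ∧ Van {i, j} x ∧ Cfsg.hermForm m F q x x = c := by
  have key : ∀ a b : F, (a ≠ 0) → Van ({i, j} : Set (Fin m)) (a • (ev i : Fin m → F) + b • ev j) ∧
      (a • (ev i : Fin m → F) + b • ev j) ≠ 0 := by
    intro a b ha
    refine ⟨fun l hl => ?_, fun e => ha ?_⟩
    · simp only [Set.mem_insert_iff, Set.mem_singleton_iff, not_or] at hl
      simp [ev_apply, hl.1, hl.2]
    · have := congrFun e i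
      simpa [ev_apply, hij] using this
  by_cases hc0 : c = 0
  · obtain ⟨z, hz⟩ := exists_neg_one hF
    obtain ⟨h1, h2⟩ := key 1 z one_ne_zero
    exact ⟨_, h2, h1, by rw [herm_pair (q_pos hF) hij, hz]; simp [hc0]⟩
  · obtain ⟨a, ha⟩ := exists_norm hF hc
    obtain ⟨h1, h2⟩ := key a 0 (by rintro rfl; simp at ha; exact hc0 ha.symm)
    exact ⟨_, h2, h1, by rw [herm_pair (q_pos hF) hij, ha]; simp [(q_pos hF).ne']⟩

theorem q_pow_mul (a b : F) : (a * b) ^ q = a ^ q * b ^ q := mul_pow a b q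

/-- An element carrying a vector to another of the same norm. -/
theorem exists_app_eq {x y : Fin k → F} (hk : 2 ≤ k) (hx : x ≠ 0) (hy : y ≠ 0)
    (hh : Cfsg.hermForm k F q x x = Cfsg.hermForm k F q y y)
    (h3 : 3 ≤ k ∨ Cfsg.hermForm k F q y y ≠ 0) : ∃ A : Cfsg.SU k F q, app A x = y := by
  obtain ⟨g, hg, hgx⟩ := (hermSesq_goodForm (n := k) hF).witt_family ![x] ![y]
    (linearIndependent_unique_iff.2 (by simpa using hx)) (linearIndependent_unique_iff.2 (by simpa using hy))
    (fun i j => by fin_cases i; fin_cases j; simpa using hh)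
  have hgx' : g x = y := by simpa using hgx 0
  have hgf : ∀ u v, Cfsg.hermForm k F q (g u) (g v) = Cfsg.hermForm k F q u v := fun u v => hg v u
  obtain ⟨w, hwy, hww⟩ : ∃ w, Cfsg.hermForm k F q w y = 0 ∧ Cfsg.hermForm k F q w w ≠ 0 := by
    rcases h3 with h3 | h3
    · exact exists_anisotropic_orth hF h3 hy
    · by_cases hk3 : 3 ≤ k
      · exact exists_anisotropic_orth hF hk3 hy
      obtain rfl : k = 2 := by omega
      refine ⟨![-(y 1) ^ q, (y 0) ^ q], ?_, ?_⟩
      · simp [Cfsg.hermForm, Fin.sum_univ_two]; ring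
      · have e : (-(y 1 ^ q)) ^ q = -(y 1) := by
          have := map_neg (qPowHom hF) (y 1 ^ q)
          simp only [qPowHom_apply, pow_q_pow_q hF] at this
          exact this
        simp only [Cfsg.hermForm, Fin.sum_univ_two] at h3
        simp [Cfsg.hermForm, Fin.sum_univ_two, e, pow_q_pow_q hF]
        intro e0; apply h3; linear_combination e0
  set μ := Cfsg.hermForm k F q w w with hμ
  set M : Matrix (Fin k) (Fin k) F := LinearMap.toMatrix' g.toLinearMap with hM
  have hMv : ∀ v, M *ᵥ v = g v := fun v => by rw [hM, ← Matrix.toLin'_apply, Matrix.toLin'_toMatrix']; rfl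
  set δ := M.det with hδ
  have hδ0 : δ ≠ 0 := by
    rw [hδ, hM, LinearMap.det_toMatrix']
    exact (LinearEquiv.isUnit_det' g).ne_zero
  have hδn : δ * δ ^ q = 1 := by
    let Q : Matrix (Fin k) (Fin k) F := M.map (qPowHom hF)
    have hQ : Qᵀ * M = 1 := by
      ext i j
      have := hgf (ev j) (ev i)
      rw [← hMv, ← hMv, herm_ev hF, ev_apply] at this
      simp [Q, ev, Cfsg.hermForm, Matrix.mulVec_single] at this
      rw [Matrix.mul_apply, Matrix.one_apply, ← this]
      exact Finset.sum_congr rfl fun l _ => by simp [Q, mul_comm]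
    have h1 := congrArg Matrix.det hQ
    rw [Matrix.det_mul, Matrix.det_transpose, Matrix.det_one] at h1
    rw [show Q.det = qPowHom hF M.det from (RingHom.map_det _ _).symm, qPowHom_apply] at h1
    rw [mul_comm]; exact h1
  set c := (δ⁻¹ - 1) / μ with hc
  let R : Matrix (Fin k) (Fin k) F := 1 + Matrix.vecMulVec w (c • conjVec q w)
  have hR : ∀ v, R *ᵥ v = v + (c * Cfsg.hermForm k F q v w) • w := fun v => by
    simp only [R, Matrix.add_mulVec, Matrix.one_mulVec, Matrix.vecMulVec_mulVec, smul_dotProduct,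
      conjVec_dotProduct]
    funext i; simp; ring
  have hRd : R.det = δ⁻¹ := by
    have e : R = 1 + Matrix.vecMulVec w (c • conjVec q w) + Matrix.vecMulVec w 0 := by simp [R]
    rw [e, det_one_add_two, smul_dotProduct, conjVec_dotProduct, ← hμ]
    simp [hc, hww]
  have hRh : ∀ u v, Cfsg.hermForm k F q (R *ᵥ u) (R *ᵥ v) = Cfsg.hermForm k F q u v := fun u v => by
    rw [hR, hR]
    simp only [herm_add_left hF, herm_add_right hF, herm_smul_left hF, herm_smul_right hF, ← hμ,
      mul_pow, herm_conj hF v w]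
    have hμq : μ ^ q = μ := herm_self_fix hF w
    have hcq : c ^ q = ((δ⁻¹) ^ q - 1) / μ := by
      have := map_div₀ (qPowHom hF) (δ⁻¹ - 1) μ
      simp only [qPowHom_apply, ← hc, hμq] at this
      rw [this]
      congr 1
      have := map_sub (qPowHom hF) (δ⁻¹) 1
      simpa using this
    have key : c + c ^ q + μ * (c * c ^ q) = 0 := by
      rw [hcq, hc]
      field_simp
      rw [div_pow, one_pow]
      have hq0 : δ ^ q ≠ 0 := pow_ne_zero _ hδ0
      field_simp
      linear_combination -hδn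
    linear_combination (Cfsg.hermForm k F q u w * Cfsg.hermForm k F q w v) * key
  refine ⟨suMk hF (R * M) ?_ ?_, ?_⟩
  · rw [Matrix.det_mul, hRd, ← hδ, inv_mul_cancel₀ hδ0]
  · intro u v
    rw [← Matrix.mulVec_mulVec, ← Matrix.mulVec_mulVec, hRh, hMv, hMv, hgf]
  · show (R * M) *ᵥ x = y
    rw [← Matrix.mulVec_mulVec, hMv, hgx', hR]
    have : Cfsg.hermForm k F q y w = 0 := by rw [← herm_conj hF w y, hwy, zero_pow (q_pos hF).ne']
    simp [this]

/-- Transitivity inside a block. -/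
theorem exists_supp_app {f : Fin k → Fin m} (hf : Function.Injective f) (hk : 2 ≤ k) {x y : Fin m → F}
    (hx : Van (Set.range f) x) (hy : Van (Set.range f) y) (hx0 : x ≠ 0) (hy0 : y ≠ 0)
    (hh : Cfsg.hermForm m F q x x = Cfsg.hermForm m F q y y)
    (h3 : 3 ≤ k ∨ Cfsg.hermForm m F q y y ≠ 0) :
    ∃ A ∈ supp (Set.range f), app (A : Cfsg.SU m F q) x = y := by
  have nz : ∀ {z : Fin m → F}, Van (Set.range f) z → z ≠ 0 → (fun j => z (f j)) ≠ 0 := by
    intro z hz hz0 e
    apply hz0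
    funext i
    by_cases hi : i ∈ Set.range f
    · obtain ⟨j, rfl⟩ := hi; exact congrFun e j
    · exact hz i hi
  rw [herm_van hf (q_pos hF) hx, herm_van hf (q_pos hF) hy] at hh
  rw [herm_van hf (q_pos hF) hy] at h3
  obtain ⟨A, hA⟩ := exists_app_eq hF hk (nz hx hx0) (nz hy hy0) hh h3
  refine ⟨emb f hf A, emb_mem_supp hf A, funext fun i => ?_⟩
  by_cases hi : i ∈ Set.range f
  · obtain ⟨j, rfl⟩ := hi
    rw [app_emb_range, hA]
  · rw [app_emb_off hf _ _ hi, hx i hi, hy i hi]

theorem exists_iv_app {a k : ℕ} (h : a + k ≤ m) (hk : 2 ≤ k) {x y : Fin m → F}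
    (hx : Van (iv a k) x) (hy : Van (iv a k) y) (hx0 : x ≠ 0) (hy0 : y ≠ 0)
    (hh : Cfsg.hermForm m F q x x = Cfsg.hermForm m F q y y)
    (h3 : 3 ≤ k ∨ Cfsg.hermForm m F q y y ≠ 0) :
    ∃ A ∈ supp (iv a k), app (A : Cfsg.SU m F q) x = y := by
  rw [← range_ivf a k h] at hx hy ⊢
  exact exists_supp_app hF (ivf_injective a k h) hk hx hy hx0 hy0 hh h3

/-- Any vector of a block of at least three coordinates is moved into any sub-pair. -/
theorem exists_iv_app_pair {a k : ℕ} (h : a + k ≤ m) (hk : 3 ≤ k) {x : Fin m → F} (hx : Van (iv a k) x)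
    {i j : Fin m} (hij : i ≠ j) (hi : i ∈ iv a k) (hj : j ∈ iv a k) :
    ∃ A ∈ supp (iv a k), Van {i, j} (app (A : Cfsg.SU m F q) x) := by
  by_cases hx0 : x = 0
  · exact ⟨1, one_mem _, by rw [app_one, hx0]; intro _ _; rfl⟩
  obtain ⟨y, hy0, hy, hyy⟩ := exists_pair_norm hF hij (herm_self_fix hF x)
  obtain ⟨A, hA, hAx⟩ := exists_iv_app hF h (by omega) hx
    (fun l hl => hy l (by
      simp only [Set.mem_insert_iff, Set.mem_singleton_iff]
      rintro (rfl | rfl) <;> [exact hl hi; exact hl hj])) hx0 hy0 hyy.symm (Or.inl hk)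
  exact ⟨A, hA, hAx ▸ hy⟩

end Cfsg.Agent.Lib.PhanWeak91
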