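import Cfsg.Agent.Lib.PhanWeak91.EmbedTwo

/-!
Weak Phan systems for `q = 2`.
-/

set_option autoImplicit false
set_option linter.unusedSectionVars false

namespace Cfsg.Agent.Lib.PhanWeak91

open Matrix Cfsg.Agent.Lib.Forms

variable {F : Type*} [Field F] [Fintype F] {G : Type*} [Group G] (hF : Fintype.card F = 2 ^ 2)
include hF

theorem center_four_two {z : Cfsg.SU 4 F 2} (hz : z ∈ Subgroup.center _) : z = 1 := by
  obtain ⟨c, hc, hzc⟩ := center_scalar hF hz
  have hn := herm_app z (ev 0 : Fin 4 → F) (ev 0)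
  rw [hzc, herm_smul_left hF, herm_smul_right hF, herm_ev_ev hF, mul_one] at hn
  have hc1 : c = 1 := by linear_combination hc - c * hn
  exact ext_app fun x => by rw [hzc, hc1, one_smul, app_one]

theorem pairData_two {V A B : Subgroup G} (h : Cfsg.IsStandardUnitaryPair V A B F 2) :
    ∃ π : Cfsg.SU 3 F 2 →* G, π.range = V ∧ (supp (F := F) (q := 2) (iv 0 2 : Set (Fin 3))).map π = A ∧
      (supp (F := F) (q := 2) (iv 1 2 : Set (Fin 3))).map π = B ∧
      (π.ker = ⊥ ∨ π.ker = Subgroup.center _) := by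
  rcases h with ⟨ψ, hA, hB⟩ | ⟨ψ, hA, hB⟩
  · refine ⟨V.subtype.comp ψ.toMonoidHom, ?_, ?_, ?_, Or.inl ?_⟩
    · rw [MonoidHom.range_comp, MonoidHom.range_eq_top.2 ψ.surjective, ← MonoidHom.range_eq_map,
        Subgroup.range_subtype]
    · rw [← suBlock_eq hF]; convert hA using 2; congr 1; ext i; fin_cases i <;> simp [iv]
    · rw [← suBlock_eq hF]; convert hB using 2; congr 1; ext i; fin_cases i <;> simp [iv]
    · rw [MonoidHom.ker_eq_bot_iff]; exact Subtype.val_injective.comp ψ.injective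
  · refine ⟨V.subtype.comp (ψ.toMonoidHom.comp (QuotientGroup.mk' _)), ?_, ?_, ?_, Or.inr ?_⟩
    · rw [MonoidHom.range_comp, MonoidHom.range_eq_top.2 (ψ.surjective.comp (QuotientGroup.mk'_surjective _)),
        ← MonoidHom.range_eq_map, Subgroup.range_subtype]
    · rw [← suBlock_eq hF]; convert hA using 2; congr 1; ext i; fin_cases i <;> simp [iv]
    · rw [← suBlock_eq hF]; convert hB using 2; congr 1; ext i; fin_cases i <;> simp [iv]
    · ext x
      rw [MonoidHom.mem_ker, MonoidHom.comp_apply, MonoidHom.comp_apply,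
        map_eq_one_iff V.subtype Subtype.val_injective, MulEquiv.coe_toMonoidHom, map_eq_one_iff ψ ψ.injective,
        QuotientGroup.mk'_apply, QuotientGroup.eq_one_iff]

/-- Vectors fixed by a pair block vanish on it. -/
theorem fixed_pair {a : ℕ} (ha : a + 2 ≤ 4) {x : Fin 4 → F}
    (h : ∀ A ∈ supp (F := F) (q := 2) (iv a 2 : Set (Fin 4)), app A x = x) : Van (iv a 2)ᶜ x := by
  obtain ⟨l, hl, hl2, -, -⟩ := exists_lam hF (Or.inl rfl)
  have ht : l * l ^ 2 + (0 : F) * 0 ^ 2 = 1 := by simpa using hl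
  have hl1 : l ≠ 1 := by rintro rfl; exact hl2 (one_mul _)
  have := h (emb (ivf a 2 ha) (ivf_injective _ _ _) (el2 hF l 0 ht)) (by
    rw [← range_ivf a 2 ha]; exact emb_mem_supp _ _)
  intro i hi
  simp only [Set.mem_compl_iff, not_not] at hi
  rw [← range_ivf a 2 ha] at hi
  obtain ⟨j, rfl⟩ := hi
  have e := congrFun this (ivf a 2 ha j)
  rw [app_emb_range, app_el2] at e
  fin_cases j
  · simp at e
    show x (ivf a 2 ha 0) = 0
    exact mul_left_cancel₀ (sub_ne_zero.2 hl1) (by linear_combination e)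
  · simp at e
    show x (ivf a 2 ha 1) = 0
    exact mul_left_cancel₀ (show l ^ 2 - 1 ≠ 0 from fun e' => hl2 (by linear_combination e'))
      (by linear_combination e)

/-- The window of two consecutive standard pairs. -/
theorem window_two {V W U0 U1 U2 : Subgroup G} (hV : Cfsg.IsStandardUnitaryPair V U0 U1 F 2)
    (hW : Cfsg.IsStandardUnitaryPair W U1 U2 F 2) (g : Cfsg.SU 4 F 2 →* ↥(V ⊔ W)) (hg : Function.Surjective g)
    (hc : ∀ x ∈ U0, ∀ y ∈ U2, x * y = y * x) :
    ∃ h : Cfsg.SU 4 F 2 →* G,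
      (supp (F := F) (q := 2) (iv 0 2 : Set (Fin 4))).map h = U0 ∧
      (supp (F := F) (q := 2) (iv 1 2 : Set (Fin 4))).map h = U1 ∧
      (supp (F := F) (q := 2) (iv 2 2 : Set (Fin 4))).map h = U2 ∧
      (supp (F := F) (q := 2) (iv 0 3 : Set (Fin 4))).map h = V ∧
      (supp (F := F) (q := 2) (iv 1 3 : Set (Fin 4))).map h = W ∧ Function.Injective h := by
  classical
  obtain ⟨π0, r0, a0, b0, k0⟩ := pairData_two hF hV
  obtain ⟨ρ0, r1, a1, b1, k1⟩ := pairData_two hF hW
  obtain ⟨l, hl, hl2, -, -⟩ := exists_lam hF (Or.inl rfl)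
  have h2 := two_eq_zero hF rfl
  have hl1 : l ≠ 1 := by rintro rfl; exact hl2 (one_mul _)
  have hs1 : (0 : F) * 0 ^ 2 + 1 * 1 ^ 2 = 1 := by simp
  have hs2 : (0 : F) * 0 ^ 2 + l * l ^ 2 = 1 := by simpa using hl
  have one_el : ∀ h, el2 hF (1 : F) 0 h = 1 := fun h => ext_app fun u => by
    rw [app_el2, app_one]; funext i; fin_cases i <;> simp
  set g' : Cfsg.SU 4 F 2 →* G := (V ⊔ W).subtype.comp g with hg'
  have hr : g'.range = V ⊔ W := by
    rw [hg', MonoidHom.range_comp, MonoidHom.range_eq_top.2 hg, ← MonoidHom.range_eq_map, Subgroup.range_subtype]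
  have hne : g'.range ≠ ⊥ := by
    intro e
    rw [hr] at e
    obtain ⟨n1, -, -, -, -, -, -, -, -, -, -, -, -, -, -, -, -, -, -, -, hnc⟩ := exists_su3_data hF
    have hV0 : V = ⊥ := le_bot_iff.1 (e ▸ le_sup_left)
    have : n1 ∈ π0.ker := by
      rw [MonoidHom.mem_ker]
      exact Subgroup.mem_bot.1 (hV0 ▸ r0.le ⟨n1, rfl⟩)
    rcases k0 with k | k <;> rw [k] at this
    · exact hnc ((Subgroup.mem_bot.1 this) ▸ one_mem _)
    · exact hnc this
  have hker := ker_le_center hF g' hne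
  have ginj : Function.Injective g' := by
    rw [← MonoidHom.ker_eq_bot_iff, eq_bot_iff]
    exact fun z hz => Subgroup.mem_bot.2 (center_four_two hF (hker hz))
  have lift : ∀ π : Cfsg.SU 3 F 2 →* G, π.range ≤ g'.range → (π.ker = ⊥ ∨ π.ker = Subgroup.center _) →
      Function.Injective π ∧ ∃ φ : Cfsg.SU 3 F 2 →* Cfsg.SU 4 F 2, g'.comp φ = π := by
    intro π hπ hk
    obtain ⟨φ, hφ⟩ : ∃ φ : Cfsg.SU 3 F 2 →* Cfsg.SU 4 F 2, g'.comp φ = π :=
      ⟨(MonoidHom.ofInjective ginj).symm.toMonoidHom.comp (π.codRestrict g'.range fun x => hπ ⟨x, rfl⟩),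
        MonoidHom.ext fun x => by
          exact congrArg Subtype.val ((MonoidHom.ofInjective ginj).apply_symm_apply ⟨π x, hπ ⟨x, rfl⟩⟩)⟩
    refine ⟨?_, φ, hφ⟩
    rcases hk with k | k
    · exact (MonoidHom.ker_eq_bot_iff _).1 k
    · exfalso
      refine no_psu_embedding hF φ ?_
      rw [← k]
      ext x
      rw [MonoidHom.mem_ker, MonoidHom.mem_ker, ← hφ, MonoidHom.comp_apply, map_eq_one_iff g' ginj]
  have rV : π0.range ≤ g'.range := by rw [r0, hr]; exact le_sup_left
  have rW : ρ0.range ≤ g'.range := by rw [r1, hr]; exact le_sup_right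
  obtain ⟨iπ, φ, hφ⟩ := lift π0 rV k0
  obtain ⟨iρ, ω, hω⟩ := lift ρ0 rW k1
  let π : PairHom V U0 U1 F 2 := ⟨π0, iπ, r0, a0, b0⟩
  let ρ : PairHom W U1 U2 F 2 := ⟨ρ0, iρ, r1, a1, b1⟩
  -- block images of the pairs
  have pairs : ∀ (π : Cfsg.SU 3 F 2 →* G) (φ : Cfsg.SU 3 F 2 →* Cfsg.SU 4 F 2), g'.comp φ = π →
      Function.Injective π → ∀ p : Cfsg.SU 2 F 2 →* Cfsg.SU 3 F 2, Function.Injective p →
      ∃ P hP, p.range.map π = (blk (q := 2) (F := F) P hP q01).map g' := by
    intro π φ hφ hπ p hp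
    have hφi : Function.Injective φ := fun x y e => hπ (by rw [← hφ]; exact congrArg g' e)
    obtain ⟨Pv, hPv, hrange⟩ := embedding_range hF φ hφi
    have hex : ∀ A, ∃ B, conjIso Pv hPv (emb (ivf 0 3 (by norm_num : 0 + 3 ≤ 4)) (ivf_injective _ _ _) B) = φ A := by
      intro A
      obtain ⟨X, hX, hXe⟩ := hrange.le ⟨A, rfl⟩
      rw [← range_ivf 0 3 (by norm_num : 0 + 3 ≤ 4)] at hX
      obtain ⟨B, rfl⟩ := exists_emb_of_mem hF (ivf_injective 0 3 (by norm_num : 0 + 3 ≤ 4)) hX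
      exact ⟨B, hXe⟩
    choose δf hδf using hex
    let δ : Cfsg.SU 3 F 2 →* Cfsg.SU 3 F 2 :=
      { toFun := δf
        map_one' := emb_injective (ivf_injective 0 3 (by norm_num : 0 + 3 ≤ 4))
          (conjIso_injective Pv hPv (by rw [hδf, map_one, map_one, map_one]))
        map_mul' := fun a b => emb_injective (ivf_injective 0 3 (by norm_num : 0 + 3 ≤ 4))
          (conjIso_injective Pv hPv (by rw [hδf, map_mul, map_mul, map_mul, hδf, hδf])) }
    have hδi : Function.Injective δ := fun a b e => hφi (by rw [← hδf, ← hδf, show δf a = δf b from e])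
    set s1 := el2 hF (0 : F) 1 hs1 with hs1d
    set s2 := el2 hF (0 : F) l hs2 with hs2d
    have sq : ∀ b h, el2 hF (0 : F) b h * el2 hF 0 b h = 1 := by
      intro b h
      obtain ⟨h', e⟩ := el2_mul hF h h
      rw [e, ← one_el (by simp), el2_ext]
      refine ⟨?_, by simp⟩
      have hb : b * b ^ 2 = 1 := by simpa using h
      linear_combination -hb - h2
    obtain ⟨hp12, ep⟩ := el2_mul hF hs1 hs2
    have hprod3 : s1 * s2 * (s1 * s2) * (s1 * s2) = 1 := by
      rw [ep]
      obtain ⟨h', e'⟩ := el2_mul hF hp12 hp12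
      rw [e']
      obtain ⟨h'', e''⟩ := el2_mul hF h' hp12
      rw [e'', ← one_el (by simp), el2_ext]
      exact ⟨by simp; linear_combination -hl - h2, by simp⟩
    have hprod : s1 * s2 ≠ 1 := by
      rw [ep, ← one_el (by simp), Ne, el2_ext]
      rintro ⟨e, -⟩
      simp at e
      exact hl1 (by linear_combination -e - h2)
    obtain ⟨u, huu, hu1, hu2⟩ := fixed_unit hF (δ (p s1)) (δ (p s2))
      (by rw [← map_mul, ← map_mul, sq, map_one, map_one])
      (by rw [← map_mul, ← map_mul, sq, map_one, map_one])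
      (by simp only [← map_mul]; rw [hprod3, map_one, map_one])
      (fun e => hprod (hp (hδi (by rw [map_mul, map_mul, e, map_one, map_one]))))
    have hall : ∀ A, app (δ (p A)) u = u := by
      let K : Subgroup (Cfsg.SU 2 F 2) := (stab u).comap (δ.comp p)
      have k1' : s1 ∈ K := hu1
      have k2' : s2 ∈ K := hu2
      have hK : (⊤ : Subgroup (Cfsg.SU 2 F 2)) ≤ K := by
        rw [← gen_p hF (Or.inl rfl), Subgroup.closure_le]
        intro A hA
        obtain ⟨a, b, hab, rfl⟩ := exists_el2 hF A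
        have hA2 : el2 hF a b hab * el2 hF a b hab = 1 := by rw [← pow_two]; exact hA
        by_cases hb : b = 0
        · subst hb
          obtain ⟨h', e⟩ := el2_mul hF hab hab
          rw [e, ← one_el (by simp), el2_ext] at hA2
          have ha : a = 1 := by
            have h1 := hA2.1
            simp at h1
            have hsq : (a - 1) * (a - 1) = 0 := by linear_combination h1 + (1 - a) * h2
            exact sub_eq_zero.1 (mul_self_eq_zero.1 hsq)
          subst ha
          rw [one_el]; exact one_mem _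
        by_cases ha : a = 0
        · subst ha
          have hbn : b * b * b = 1 := by
            have : b * b ^ 2 = 1 := by simpa using hab
            linear_combination this
          rcases cube_cases hF hl hl1 hbn with h | h | h
          · subst h; exact k1'
          · subst h; exact k2'
          · subst h
            have hm := mul_mem (mul_mem k1' k2') k1'
            obtain ⟨h', e'⟩ := el2_mul hF hp12 hs1
            rw [ep, hs1d, e'] at hm
            rw [SetLike.mem_coe]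
            have heq : ∀ (a b : F) h, a = 0 → b = l * l → el2 hF a b h = el2 hF (0 : F) (l * l) hab := by
              rintro a b h rfl rfl; rfl
            rw [heq _ _ h' (by ring) (by ring)] at hm
            exact hm
        exfalso
        rw [norm_two hF rfl ha, norm_two hF rfl hb] at hab
        exact one_ne_zero (α := F) (by linear_combination hab)
      exact fun A => hK (Subgroup.mem_top A)
    obtain ⟨W3, hW3⟩ := exists_app_eq hF (k := 3) (by norm_num) (x := (ev 2 : Fin 3 → F)) (y := u)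
      (fun e => one_ne_zero (α := F) (by simpa [ev] using congrFun e 2))
      (fun e => by rw [e] at huu; simp [Cfsg.hermForm] at huu) (by rw [herm_ev_ev hF, huu]) (Or.inl le_rfl)
    obtain ⟨Q, hQ, hQc⟩ := conjIso_comp hF (Or.inl rfl) hPv
      (emb (ivf 0 3 (by norm_num : 0 + 3 ≤ 4)) (ivf_injective _ _ _) W3)
    have hle : p.range.map φ ≤ blk Q hQ q01 := by
      rintro _ ⟨_, ⟨A, rfl⟩, rfl⟩
      have hX : W3⁻¹ * δ (p A) * W3 ∈ supp (iv 0 2 : Set (Fin 3)) := fun i hi => by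
        obtain rfl : i = 2 := by fin_cases i <;> simp [iv] at hi ⊢
        rw [app_mul, app_mul, hW3, hall, ← hW3, app_inv_app]
      rw [← range_p01 hF] at hX
      obtain ⟨Y, hY⟩ := hX
      refine ⟨emb (ivf 0 3 (by norm_num : 0 + 3 ≤ 4)) (ivf_injective _ _ _) (p01 Y), ?_, ?_⟩
      · rw [emb_p01 0 (by norm_num), show q01 = Set.range (ivf (m := 4) 0 2 (by norm_num)) from (range_ivf 0 2 _).symm]
        exact emb_mem_supp _ _
      · rw [hQc, ← map_inv, ← map_mul, ← map_mul, hY, ← hδf]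
        congr 2
        show W3 * (W3⁻¹ * δf (p A) * W3) * W3⁻¹ = δf (p A)
        group
    have heq : p.range.map φ = blk Q hQ q01 := by
      refine Subgroup.eq_of_le_of_card_ge hle ?_
      rw [card_blk, card_supp_iv hF (by norm_num), Subgroup.card_map_of_injective hφi]
      exact le_of_eq (Nat.card_congr (MonoidHom.ofInjective hp).toEquiv)
    exact ⟨Q, hQ, by rw [← heq, Subgroup.map_map, hφ]⟩
  obtain ⟨P1, hP1, e0⟩ := pairs π0 φ hφ iπ p01 p01_injective
  obtain ⟨P2, hP2, e1⟩ := pairs π0 φ hφ iπ p12 p12_injective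
  obtain ⟨P3, hP3, e2⟩ := pairs ρ0 ω hω iρ p12 p12_injective
  rw [range_p01 hF, a0] at e0
  rw [range_p12 hF, b0] at e1
  rw [range_p12 hF, b1] at e2
  obtain ⟨h, ⟨P, hP, hh⟩, m0, m1, m2⟩ := exists_window hF (Or.inl rfl) g' hker π ρ hc
    ⟨P1, hP1, e0⟩ ⟨P2, hP2, e1⟩ ⟨P3, hP3, e2⟩
  have hinj : Function.Injective h := by rw [hh]; exact ginj.comp (conjIso_injective P hP)
  -- the triples
  have triple : ∀ (π : Cfsg.SU 3 F 2 →* G) (φ : Cfsg.SU 3 F 2 →* Cfsg.SU 4 F 2) (j : ℕ), j ≤ 1 → g'.comp φ = π →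
      Function.Injective π → (supp (F := F) (q := 2) (iv j 2 : Set (Fin 4))).map h ≤ π.range →
      (supp (F := F) (q := 2) (iv (j + 1) 2 : Set (Fin 4))).map h ≤ π.range →
      (supp (F := F) (q := 2) (iv j 3 : Set (Fin 4))).map h = π.range := by
    intro π φ j hj hφ hπ u0 u1
    have hφi : Function.Injective φ := fun x y e => hπ (by rw [← hφ]; exact congrArg g' e)
    obtain ⟨Pv, hPv, hrange⟩ := embedding_range hF φ hφi
    have hπr : π.range = (blk Pv hPv (iv 0 3)).map g' := by rw [← hφ, MonoidHom.range_comp, hrange]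
    obtain ⟨x, hx⟩ : ∃ x, col Pv 3 = (P : Matrix (Fin 4) (Fin 4) F) *ᵥ x :=
      ⟨(↑P⁻¹ : Matrix (Fin 4) (Fin 4) F) *ᵥ col Pv 3, by simp [Matrix.mulVec_mulVec]⟩
    have hfix : ∀ a, (supp (F := F) (q := 2) (iv a 2 : Set (Fin 4))).map h ≤ π.range →
        ∀ A ∈ supp (F := F) (q := 2) (iv a 2 : Set (Fin 4)), app A x = x := by
      intro a ha A hA
      obtain ⟨Y, hY, hYe⟩ := (hπr ▸ ha) ⟨A, hA, rfl⟩
      rw [hh] at hYe
      have hYA : conjIso P hP A = Y := (ginj hYe).symm
      have := (mem_blk hPv).1 hY 3 (by simp [iv])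
      rw [← hYA, hx, app_conjIso] at this
      have e := congrArg (fun y => (↑P⁻¹ : Matrix (Fin 4) (Fin 4) F) *ᵥ y) this
      simpa [Matrix.mulVec_mulVec] using e
    have v0 := fixed_pair hF (a := j) (by omega) (hfix j u0)
    have v1 := fixed_pair hF (a := j + 1) (by omega) (hfix (j + 1) u1)
    have hxv : Van (iv j 3)ᶜ x := fun i hi => by
      simp only [Set.mem_compl_iff, not_not, iv, Set.mem_setOf_eq] at hi
      by_cases h' : (i : ℕ) < j + 2
      · exact v0 i (by simp [iv]; omega)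
      · exact v1 i (by simp [iv]; omega)
    rw [hπr, hh, ← Subgroup.map_map]
    congr 1
    refine Subgroup.eq_of_le_of_card_ge ?_ ?_
    · rintro _ ⟨A, hA, rfl⟩
      refine (mem_blk hPv).2 fun i hi => ?_
      obtain rfl : i = 3 := by fin_cases i <;> simp [iv] at hi ⊢
      rw [hx, app_conjIso, fix_of_van hA hxv]
    · rw [card_blk, Subgroup.card_map_of_injective (conjIso_injective P hP), card_supp_iv hF (by norm_num),
        card_supp_iv hF (by omega)]
  have le1 : ∀ (π : Cfsg.SU 3 F 2 →* G) (s : Set (Fin 3)), (supp (F := F) (q := 2) s).map π ≤ π.range :=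
    fun π s => Subgroup.map_le_range _ _
  refine ⟨h, m0, m1, m2, ?_, ?_, hinj⟩
  · rw [← r0]
    exact triple π0 φ 0 (by norm_num) hφ iπ (by rw [m0, ← a0]; exact le1 _ _) (by rw [m1, ← b0]; exact le1 _ _)
  · rw [← r1]
    exact triple ρ0 ω 1 le_rfl hω iρ (by rw [m1, ← a1]; exact le1 _ _) (by rw [m2, ← b1]; exact le1 _ _)

/-- Weak Phan systems over the field with four elements. -/
theorem phan_two (n : ℕ) (hn : 3 ≤ n) (U : Fin n → Subgroup G) (V : Fin n → Fin n → Subgroup G)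
    (h1 : ∀ i j : Fin n, (i : ℕ) + 2 ≤ j → ∀ x ∈ U i, ∀ y ∈ U j, x * y = y * x)
    (h2 : ∀ i j : Fin n, (i : ℕ) + 1 = j → Cfsg.IsStandardUnitaryPair (V i j) (U i) (U j) F 2)
    (hgen : (⨆ i, U i) ⊔ (⨆ (i : Fin n) (j : Fin n) (_ : (i : ℕ) + 1 = j), V i j) = ⊤)
    (h4 : ∀ i j k : Fin n, (i : ℕ) + 1 = j → (j : ℕ) + 1 = k →
      ∃ g : Cfsg.SU 4 F 2 →* ↥(V i j ⊔ V j k), Function.Surjective g)
    (h5 : ∀ i j k : Fin n, (j : ℕ) + 1 = k → ((i : ℕ) + 2 ≤ j ∨ (k : ℕ) + 2 ≤ i) →
      ∀ x ∈ U i, ∀ y ∈ V j k, x * y = y * x)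
    (h6 : ∀ i j k l : Fin n, (i : ℕ) + 1 = j → (k : ℕ) + 1 = l → (j : ℕ) + 2 ≤ k →
      ∀ x ∈ V i j, ∀ y ∈ V k l, x * y = y * x) :
    ∃ f : Cfsg.SU (n + 1) F 2 →* G, Function.Surjective f := by
  classical
  let U' : ℕ → Subgroup G := fun a => if h : a < n then U ⟨a, h⟩ else ⊥
  let V' : ℕ → Subgroup G := fun c => if h : c + 1 < n then V ⟨c, by omega⟩ ⟨c + 1, h⟩ else ⊥
  have hU' : ∀ a (h : a < n), U' a = U ⟨a, h⟩ := fun a h => dif_pos h
  have hV' : ∀ c (h : c + 1 < n), V' c = V ⟨c, by omega⟩ ⟨c + 1, h⟩ := fun c h => dif_pos h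
  refine exists_surjection hF (Or.inl rfl) (by omega) U' V' ?_ ?_ ?_ ?_
  · intro i hi
    obtain ⟨g, hg⟩ := h4 ⟨i, by omega⟩ ⟨i + 1, by omega⟩ ⟨i + 2, by omega⟩ rfl rfl
    obtain ⟨h, m0, m1, m2, mV, mW, hinj⟩ := window_two hF (h2 ⟨i, by omega⟩ ⟨i + 1, by omega⟩ rfl)
      (h2 ⟨i + 1, by omega⟩ ⟨i + 2, by omega⟩ rfl) g hg (h1 ⟨i, by omega⟩ ⟨i + 2, by omega⟩ le_rfl)
    refine ⟨⟨h, fun j hj => ?_, fun j hj => ?_, fun j hj x y e => emb_injective _ (hinj e)⟩⟩
    · rcases (by omega : j = 0 ∨ j = 1 ∨ j = 2) with rfl | rfl | rfl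
      · rw [m0]; exact (hU' i (by omega)).symm
      · rw [m1]; exact (hU' (i + 1) (by omega)).symm
      · rw [m2]; exact (hU' (i + 2) (by omega)).symm
    · rcases (by omega : j = 0 ∨ j = 1) with rfl | rfl
      · rw [mV]; exact (hV' i (by omega)).symm
      · rw [mW]; exact (hV' (i + 1) (by omega)).symm
  · intro a c ha hc hac x hx y hy
    rw [hU' a (by omega)] at hx
    rw [hV' c (by omega)] at hy
    exact h5 _ _ _ rfl (by simp; omega) x hx y hy
  · intro a c hc hac x hx y hy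
    rw [hV' a (by omega)] at hx
    rw [hV' c (by omega)] at hy
    exact h6 _ _ _ _ rfl rfl (by simp; omega) x hx y hy
  · rw [eq_top_iff, ← hgen]
    refine sup_le (iSup_le fun i => ?_) (iSup_le fun i => iSup_le fun j => iSup_le fun hij => ?_)
    · refine le_sup_of_le_left (le_iSup_of_le (i : ℕ) (le_iSup_of_le (by omega) ?_))
      rw [hU' i i.isLt]
    · refine le_sup_of_le_right (le_iSup_of_le (i : ℕ) (le_iSup_of_le (by omega) ?_))
      rw [hV' i (by omega)]
      exact le_of_eq (congrArg₂ V rfl (Fin.ext hij.symm))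

end Cfsg.Agent.Lib.PhanWeak91
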